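import Mathlib
import Groth.Agent.Lib.Helper37.HenselPi

open TensorProduct IsLocalRing

universe u

namespace Groth.Agent.Lib.Helper98.Olivier

/-- a domain which is a finite product of local rings is local -/
theorem isLocalRing_of_pi_of_isDomain {S : Type*} [CommRing S] [IsDomain S] {ι : Type*}
    (A : ι → Type*) [∀ i, CommRing (A i)] [∀ i, IsLocalRing (A i)] (φ : S ≃+* (∀ i, A i)) :
    IsLocalRing S := by
  classical
  have hne : Nonempty ι := by
    by_contra hcon
    rw [not_nonempty_iff] at hcon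
    have : (1 : S) = 0 := φ.injective (Subsingleton.elim _ _)
    exact one_ne_zero this
  obtain ⟨i₀⟩ := hne
  have hsingle : ∀ i, (Pi.single i (1 : A i) : ∀ i, A i) ≠ 0 := by
    intro i h
    have := congrFun h i
    simp at this
  have hsub : ∀ i, i = i₀ := by
    intro i
    by_contra hi
    have h0 : (Pi.single i (1 : A i) : ∀ i, A i) * Pi.single i₀ (1 : A i₀) = 0 := by
      funext j
      by_cases hj : j = i
      · subst hj
        simp [Pi.single_eq_of_ne hi]
      · simp [Pi.single_eq_of_ne hj]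
    have h1 : φ.symm (Pi.single i 1) * φ.symm (Pi.single i₀ 1) = 0 := by
      rw [← map_mul, h0, map_zero]
    rcases mul_eq_zero.mp h1 with h2 | h2
    · exact hsingle i (φ.symm.injective (h2.trans (map_zero φ.symm).symm))
    · exact hsingle i₀ (φ.symm.injective (h2.trans (map_zero φ.symm).symm))
  haveI : Unique ι := ⟨⟨i₀⟩, hsub⟩
  exact (φ.trans (RingEquiv.piUnique A)).symm.isLocalRing

theorem isLocalRing_integralClosure {A Ω : Type u} [CommRing A] [HenselianLocalRing A]
    [Field Ω] [Algebra A Ω] : IsLocalRing (integralClosure A Ω) := by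
  refine IsLocalRing.of_isUnit_or_isUnit_one_sub_self fun x => ?_
  obtain ⟨S, hS⟩ : ∃ S : Subalgebra A Ω, S = Algebra.adjoin A ({(x : Ω)} : Set Ω) := ⟨_, rfl⟩
  have hfin : Module.Finite A S := by
    rw [hS]
    exact Module.Finite.iff_fg.mpr (IsIntegral.fg_adjoin_singleton x.2)
  obtain ⟨ι, _, Afam, _, hloc, ⟨φ⟩⟩ :=
    Groth.Agent.Lib.Helper37.exists_pi_isLocalRing_of_finite A S
  haveI := hloc
  have hSloc : IsLocalRing S := isLocalRing_of_pi_of_isDomain Afam φ
  have hle : S ≤ integralClosure A Ω := by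
    rw [hS]
    exact Algebra.adjoin_le (by simpa using x.2)
  have hxS : (x : Ω) ∈ S := by
    rw [hS]
    exact Algebra.subset_adjoin (Set.mem_singleton _)
  have hincl : Subalgebra.inclusion hle ⟨x, hxS⟩ = x := Subtype.ext rfl
  rcases IsLocalRing.isUnit_or_isUnit_one_sub_self (⟨x, hxS⟩ : S) with h | h
  · left
    have := h.map (Subalgebra.inclusion hle)
    rwa [hincl] at this
  · right
    have := h.map (Subalgebra.inclusion hle)
    rwa [map_sub, map_one, hincl] at this

theorem isLocalRing_tensorProduct' {A A' B : Type u} [CommRing A] [IsLocalRing A] [CommRing A']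
    [IsLocalRing A'] [Algebra A A'] [Algebra.IsIntegral A A'] [CommRing B] [IsLocalRing B]
    [Algebra A B] [IsLocalHom (algebraMap A B)]
    (h : Function.Surjective (algebraMap A (ResidueField B))) : IsLocalRing (B ⊗[A] A') := by
  have hcomap : (maximalIdeal A').comap (algebraMap A A') = maximalIdeal A :=
    IsLocalRing.eq_maximalIdeal
      (Ideal.isMaximal_comap_of_isIntegral_of_isMaximal (R := A) (maximalIdeal A'))
  have hker : RingHom.ker (algebraMap A (ResidueField B)) ≤
      RingHom.ker (algebraMap A (ResidueField A')) := by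
    intro a ha
    rw [RingHom.mem_ker] at ha ⊢
    have h1 : algebraMap A B a ∈ maximalIdeal B := by
      rw [← IsLocalRing.residue_eq_zero_iff]
      exact ha
    have h2 : a ∈ maximalIdeal A := by
      rw [IsLocalRing.mem_maximalIdeal, mem_nonunits_iff] at h1 ⊢
      exact fun hu => h1 (hu.map (algebraMap A B))
    have h3 : algebraMap A A' a ∈ maximalIdeal A' := by
      rw [← hcomap] at h2
      exact h2
    rw [IsScalarTower.algebraMap_apply A A' (ResidueField A')]
    exact (IsLocalRing.residue_eq_zero_iff _).mpr h3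
  obtain ⟨φ₀, hφ₀⟩ : ∃ φ₀ : ResidueField B →+* ResidueField A',
      ∀ a, φ₀ (algebraMap A (ResidueField B) a) = algebraMap A (ResidueField A') a :=
    ⟨RingHom.liftOfSurjective (algebraMap A (ResidueField B)) h
      ⟨algebraMap A (ResidueField A'), hker⟩,
      fun a => RingHom.liftOfRightInverse_comp_apply _ _ _ _ a⟩
  let φ : B →ₐ[A] ResidueField A' :=
    { (φ₀.comp (residue B)) with
      commutes' := fun a => hφ₀ a }
  have hφ : ∀ b, φ b = φ₀ (residue B b) := fun b => rfl
  let ψ : B ⊗[A] A' →ₐ[A] ResidueField A' :=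
    Algebra.TensorProduct.productMap φ (IsScalarTower.toAlgHom A A' (ResidueField A'))
  have hψ : ∀ b a', ψ (b ⊗ₜ a') = φ b * residue A' a' := fun b a' => by
    simp [ψ]
  have : Nontrivial (B ⊗[A] A') := ψ.toRingHom.domain_nontrivial
  -- the ideal J
  obtain ⟨J, hJ⟩ : ∃ J : Ideal (B ⊗[A] A'),
      J = (maximalIdeal B).map (algebraMap B (B ⊗[A] A')) := ⟨_, rfl⟩
  have hJψ : ∀ j ∈ J, ψ j = 0 := by
    have : J ≤ RingHom.ker ψ.toRingHom := by
      rw [hJ, Ideal.map_le_iff_le_comap]
      intro b hb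
      rw [Ideal.mem_comap, RingHom.mem_ker]
      show ψ (algebraMap B (B ⊗[A] A') b) = 0
      rw [Algebra.TensorProduct.algebraMap_apply, Algebra.algebraMap_self, RingHom.id_apply,
        hψ, hφ, (IsLocalRing.residue_eq_zero_iff _).mpr hb, map_zero, zero_mul]
    intro j hj
    exact this hj
  have hdecomp : ∀ t : B ⊗[A] A', ∃ a' : A', t - 1 ⊗ₜ a' ∈ J := by
    intro t
    induction t using TensorProduct.induction_on with
    | zero => exact ⟨0, by simp⟩
    | tmul b a'' =>
      obtain ⟨a, ha⟩ := h (residue B b)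
      have hn : b - algebraMap A B a ∈ maximalIdeal B := by
        rw [← IsLocalRing.residue_eq_zero_iff, map_sub, sub_eq_zero]
        exact ha.symm
      refine ⟨a • a'', ?_⟩
      have e1 : b ⊗ₜ[A] a'' - (1 : B) ⊗ₜ[A] (a • a'') =
          algebraMap B (B ⊗[A] A') (b - algebraMap A B a) * ((1 : B) ⊗ₜ[A] a'') := by
        rw [Algebra.TensorProduct.algebraMap_apply, Algebra.algebraMap_self, RingHom.id_apply,
          Algebra.TensorProduct.tmul_mul_tmul, mul_one, one_mul, sub_tmul, TensorProduct.tmul_smul,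
          Algebra.algebraMap_eq_smul_one, TensorProduct.smul_tmul']
      rw [e1, hJ]
      exact Ideal.mul_mem_right _ _ (Ideal.mem_map_of_mem _ hn)
    | add x y hx hy =>
      obtain ⟨a1, h1⟩ := hx
      obtain ⟨a2, h2⟩ := hy
      refine ⟨a1 + a2, ?_⟩
      have : x + y - (1 : B) ⊗ₜ[A] (a1 + a2) = (x - 1 ⊗ₜ a1) + (y - 1 ⊗ₜ a2) := by
        rw [TensorProduct.tmul_add]; ring
      rw [this]
      exact J.add_mem h1 h2
  have key : ∀ t : B ⊗[A] A', ¬ IsUnit t → ψ t = 0 := by
    intro t ht
    obtain ⟨M, hM, htM⟩ := exists_max_ideal_of_mem_nonunits ht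
    have := hM
    have hMB : M.comap (algebraMap B (B ⊗[A] A')) = maximalIdeal B :=
      IsLocalRing.eq_maximalIdeal
        (Ideal.isMaximal_comap_of_isIntegral_of_isMaximal (R := B) M)
    have hJM : J ≤ M := by
      rw [hJ, Ideal.map_le_iff_le_comap, hMB]
    obtain ⟨a', ha'⟩ := hdecomp t
    have h1 : (1 : B) ⊗ₜ[A] a' ∈ M := by
      have := M.sub_mem htM (hJM ha')
      rwa [sub_sub_cancel] at this
    have h2 : ¬ IsUnit a' := by
      intro hu
      have : IsUnit ((1 : B) ⊗ₜ[A] a') :=
        hu.map (Algebra.TensorProduct.includeRight : A' →ₐ[A] B ⊗[A] A')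
      exact hM.ne_top (Ideal.eq_top_of_isUnit_mem _ h1 this)
    have h3 : ψ ((1 : B) ⊗ₜ[A] a') = 0 := by
      rw [hψ, (IsLocalRing.residue_eq_zero_iff _).mpr ((IsLocalRing.mem_maximalIdeal _).mpr h2),
        mul_zero]
    have : t = (t - 1 ⊗ₜ a') + 1 ⊗ₜ a' := by ring
    rw [this, map_add, hJψ _ ha', h3, add_zero]
  refine IsLocalRing.of_nonunits_add fun a b ha hb => ?_
  intro hu
  have h1 : ψ (a + b) = 0 := by rw [map_add, key a ha, key b hb, add_zero]
  have h2 : IsUnit (ψ (a + b)) := hu.map ψ
  rw [h1] at h2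
  exact not_isUnit_zero h2

theorem isLocalRing_tensorProduct {A A' B : Type u} [CommRing A] [IsLocalRing A] [CommRing A']
    [IsLocalRing A'] [Algebra A A'] [Algebra.IsIntegral A A'] [CommRing B] [IsLocalRing B]
    [Algebra A B] [IsLocalHom (algebraMap A B)]
    (h : Function.Surjective (algebraMap A (ResidueField B))) : IsLocalRing (A' ⊗[A] B) := by
  have := isLocalRing_tensorProduct' (A' := A') h
  exact (Algebra.TensorProduct.comm A B A').toRingEquiv.isLocalRing

end Groth.Agent.Lib.Helper98.Olivier
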