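import Groth.Agent.Lib.Helper98.AzuLG

/-!
# Systems of matrix units in an Azumaya algebra over an LG-ring are conjugate
-/

namespace Groth.Agent.Lib.Helper98.AzuMat

open Module

universe u v

/-- a system of `n × n` matrix units in a ring -/
structure MatUnits (Λ : Type v) [Ring Λ] (n : ℕ) where
  g : Fin n → Fin n → Λ
  mul : ∀ i j k l, g i j * g k l = if j = k then g i l else 0
  sum : ∑ i, g i i = 1

namespace MatUnits

variable {Λ : Type v} [Ring Λ] {n : ℕ} (G : MatUnits Λ n) (o : Fin n)

lemma mul_same (i j l : Fin n) : G.g i j * G.g j l = G.g i l := by rw [G.mul, if_pos rfl]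

lemma mul_ne (i j k l : Fin n) (h : j ≠ k) : G.g i j * G.g k l = 0 := by rw [G.mul, if_neg h]

/-- the left ideal `Λ g_oo` -/
def L : Submodule Λ Λ := LinearMap.range (LinearMap.toSpanSingleton Λ Λ (G.g o o))

lemma mem_L {z : Λ} : z ∈ G.L o ↔ z * G.g o o = z := by
  constructor
  · rintro ⟨w, rfl⟩
    simp [LinearMap.toSpanSingleton_apply, mul_assoc, G.mul_same]
  · intro h
    exact ⟨z, by simpa [LinearMap.toSpanSingleton_apply] using h⟩

lemma mul_mem_L (x : Λ) (i : Fin n) : x * G.g i o ∈ G.L o := by
  rw [mem_L, mul_assoc, G.mul_same]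

/-- projection `Λ → Λ g_oo` -/
def proj : Λ →ₗ[Λ] G.L o where
  toFun x := ⟨x * G.g o o, G.mul_mem_L o x o⟩
  map_add' x y := by ext; simp [add_mul]
  map_smul' a x := by ext; simp [mul_assoc]

lemma proj_comp_subtype : G.proj o ∘ₗ (G.L o).subtype = LinearMap.id := by
  ext z
  simp [proj, (G.mem_L o).mp z.2]

instance : Module.Projective Λ (G.L o) :=
  Module.Projective.of_split (G.L o).subtype (G.proj o) (G.proj_comp_subtype o)

instance : Module.Finite Λ (G.L o) :=
  Module.Finite.of_surjective (G.proj o) (fun z => ⟨z.1, by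
    ext; simp [proj, (G.mem_L o).mp z.2]⟩)

/-- `Λ ≃ (Λ g_oo)^n` -/
def equivPi : Λ ≃ₗ[Λ] (Fin n → G.L o) where
  toFun x := fun i => ⟨x * G.g i o, G.mul_mem_L o x i⟩
  map_add' x y := by ext i; simp [add_mul]
  map_smul' a x := by ext i; simp [mul_assoc]
  invFun y := ∑ i, (y i).1 * G.g o i
  left_inv x := by
    simp only [mul_assoc, G.mul_same, ← Finset.mul_sum, G.sum, mul_one]
  right_inv y := by
    ext i
    simp only [Finset.sum_mul, mul_assoc, G.mul]
    rw [Finset.sum_eq_single i]
    · simp [(G.mem_L o).mp (y i).2]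
    · intro j _ hji
      simp [hji]
    · simp

end MatUnits


section Conj

variable {R : Type u} [CommRing R] {Λ : Type v} [Ring Λ] [Algebra R Λ] [IsAzumaya R Λ] {n : ℕ}

/-- rank of `Λ g_oo` -/
lemma rank_L (G : MatUnits Λ n) (o : Fin n) (p : PrimeSpectrum R) :
    rankAtStalk Λ p = n * rankAtStalk (G.L o) p := by
  have : Module.Finite R (G.L o) := Module.Finite.trans Λ (G.L o)
  have : Module.Projective R (G.L o) := AzuLG.projective_of_tower R Λ (G.L o)
  have h1 := congrFun (Module.rankAtStalk_eq_of_equiv ((G.equivPi o).restrictScalars R)) p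
  rw [h1, Module.rankAtStalk_pi]
  simp [finsum_eq_sum_of_fintype]

/-- Two systems of matrix units of the same size in an Azumaya algebra over an LG-ring are
conjugate. -/
theorem exists_conj (hR : LGRing.IsLGRing R) (hn : 0 < n) (G G' : MatUnits Λ n) :
    ∃ u v : Λ, u * v = 1 ∧ v * u = 1 ∧ ∀ j k, u * G'.g j k * v = G.g j k := by
  let o : Fin n := ⟨0, hn⟩
  obtain ⟨θ⟩ := AzuLG.nonempty_linearEquiv_of_rankAtStalk_eq (Λ := Λ) (P := G.L o) (Q := G'.L o)
    hR (by
      intro m hm
      have h1 := rank_L G o ⟨m, hm.isPrime⟩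
      have h2 := rank_L G' o ⟨m, hm.isPrime⟩
      rw [h1] at h2
      exact Nat.eq_of_mul_eq_mul_left hn h2)
  set a := G.g o o with ha
  set a' := G'.g o o with ha'
  have haa : a * a = a := G.mul_same o o o
  have haa' : a' * a' = a' := G'.mul_same o o o
  let pa : G.L o := ⟨a, (G.mem_L o).mpr haa⟩
  let pa' : G'.L o := ⟨a', (G'.mem_L o).mpr haa'⟩
  set x : Λ := (θ pa).1 with hx
  set y : Λ := (θ.symm pa').1 with hy
  have hxa' : x * a' = x := (G'.mem_L o).mp (θ pa).2
  have hya : y * a = y := (G.mem_L o).mp (θ.symm pa').2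
  have h1 : ∀ z : G.L o, (θ z).1 = z.1 * x := by
    intro z
    have : z = z.1 • pa := by
      ext; show z.1 = z.1 * a; exact ((G.mem_L o).mp z.2).symm
    conv_lhs => rw [this, map_smul]
    rfl
  have h2 : ∀ w : G'.L o, (θ.symm w).1 = w.1 * y := by
    intro w
    have : w = w.1 • pa' := by
      ext; show w.1 = w.1 * a'; exact ((G'.mem_L o).mp w.2).symm
    conv_lhs => rw [this, map_smul]
    rfl
  have hxy : x * y = a := by
    have := h2 (θ pa)
    rw [θ.symm_apply_apply] at this
    exact this.symm
  have hyx : y * x = a' := by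
    have := h1 (θ.symm pa')
    rw [θ.apply_symm_apply] at this
    exact this.symm
  have hax : a * x = x := (h1 pa).symm
  have hay : a' * y = y := (h2 pa').symm
  refine ⟨∑ i, G.g i o * x * G'.g o i, ∑ i, G'.g i o * y * G.g o i, ?_, ?_, ?_⟩
  · rw [Finset.sum_mul]
    rw [← G.sum]
    refine Finset.sum_congr rfl fun i _ => ?_
    rw [Finset.mul_sum, Finset.sum_eq_single i]
    · calc G.g i o * x * G'.g o i * (G'.g i o * y * G.g o i)
          = G.g i o * x * (G'.g o i * G'.g i o) * y * G.g o i := by simp only [mul_assoc]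
        _ = G.g i o * (x * a' * y) * G.g o i := by rw [G'.mul_same]; simp only [mul_assoc]; rfl
        _ = G.g i o * a * G.g o i := by rw [hxa', hxy]
        _ = G.g i i := by rw [G.mul_same, G.mul_same]
    · intro j _ hji
      calc G.g i o * x * G'.g o i * (G'.g j o * y * G.g o j)
          = G.g i o * x * (G'.g o i * G'.g j o) * y * G.g o j := by simp only [mul_assoc]
        _ = 0 := by rw [G'.mul_ne _ _ _ _ (Ne.symm hji)]; simp
    · simp
  · rw [Finset.sum_mul]
    rw [← G'.sum]
    refine Finset.sum_congr rfl fun i _ => ?_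
    rw [Finset.mul_sum, Finset.sum_eq_single i]
    · calc G'.g i o * y * G.g o i * (G.g i o * x * G'.g o i)
          = G'.g i o * y * (G.g o i * G.g i o) * x * G'.g o i := by simp only [mul_assoc]
        _ = G'.g i o * (y * a * x) * G'.g o i := by rw [G.mul_same]; simp only [mul_assoc]; rfl
        _ = G'.g i o * a' * G'.g o i := by rw [hya, hyx]
        _ = G'.g i i := by rw [G'.mul_same, G'.mul_same]
    · intro j _ hji
      calc G'.g i o * y * G.g o i * (G.g j o * x * G'.g o j)
          = G'.g i o * y * (G.g o i * G.g j o) * x * G'.g o j := by simp only [mul_assoc]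
        _ = 0 := by rw [G.mul_ne _ _ _ _ (Ne.symm hji)]; simp
    · simp
  · intro j k
    -- u g'_jk = g_jk u
    have hcomm : (∑ i, G.g i o * x * G'.g o i) * G'.g j k = G.g j k * ∑ i, G.g i o * x * G'.g o i := by
      rw [Finset.sum_mul, Finset.mul_sum, Finset.sum_eq_single j, Finset.sum_eq_single k]
      · rw [mul_assoc, G'.mul_same, ← mul_assoc, ← mul_assoc, G.mul_same]
      · intro i _ hik
        rw [← mul_assoc, ← mul_assoc, G.mul_ne _ _ _ _ (Ne.symm hik)]; simp
      · simp
      · intro i _ hij
        rw [mul_assoc, G'.mul_ne _ _ _ _ hij]; simp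
      · simp
    rw [hcomm, mul_assoc]
    -- u v = 1 computed above; redo via the first goal
    have huv : (∑ i, G.g i o * x * G'.g o i) * (∑ i, G'.g i o * y * G.g o i) = 1 := by
      rw [Finset.sum_mul]
      rw [← G.sum]
      refine Finset.sum_congr rfl fun i _ => ?_
      rw [Finset.mul_sum, Finset.sum_eq_single i]
      · calc G.g i o * x * G'.g o i * (G'.g i o * y * G.g o i)
            = G.g i o * x * (G'.g o i * G'.g i o) * y * G.g o i := by simp only [mul_assoc]
          _ = G.g i o * (x * a' * y) * G.g o i := by rw [G'.mul_same]; simp only [mul_assoc]; rfl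
          _ = G.g i o * a * G.g o i := by rw [hxa', hxy]
          _ = G.g i i := by rw [G.mul_same, G.mul_same]
      · intro j _ hji
        calc G.g i o * x * G'.g o i * (G'.g j o * y * G.g o j)
            = G.g i o * x * (G'.g o i * G'.g j o) * y * G.g o j := by simp only [mul_assoc]
          _ = 0 := by rw [G'.mul_ne _ _ _ _ (Ne.symm hji)]; simp
      · simp
    rw [huv, mul_one]

end Conj


section Matrix

open Matrix

variable {R : Type u} [CommRing R]

/-- standard matrix units -/
def stdUnits (C : Type v) [Ring C] (n : ℕ) : MatUnits (Matrix (Fin n) (Fin n) C) n where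
  g i j := Matrix.single i j 1
  mul i j k l := by
    by_cases h : j = k
    · subst h; simp
    · rw [if_neg h, Matrix.single_mul_single_of_ne _ _ _ _ h]
  sum := Matrix.sum_single_one

/-- transport of matrix units along an algebra isomorphism -/
def MatUnits.map {Λ Λ' : Type v} [Ring Λ] [Ring Λ'] [Algebra R Λ] [Algebra R Λ'] {n : ℕ}
    (G : MatUnits Λ n) (e : Λ ≃ₐ[R] Λ') : MatUnits Λ' n where
  g i j := e (G.g i j)
  mul i j k l := by
    rw [← map_mul, G.mul]
    split_ifs <;> simp
  sum := by rw [← map_sum, G.sum, map_one]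

/-- conjugation by a unit as an algebra automorphism -/
def conjEquiv {Λ : Type v} [Ring Λ] [Algebra R Λ] (u v : Λ) (huv : u * v = 1) (hvu : v * u = 1) :
    Λ ≃ₐ[R] Λ where
  toFun z := v * z * u
  invFun z := u * z * v
  left_inv z := by
    calc u * (v * z * u) * v = (u * v) * z * (u * v) := by simp only [mul_assoc]
      _ = z := by rw [huv, one_mul, mul_one]
  right_inv z := by
    calc v * (u * z * v) * u = (v * u) * z * (v * u) := by simp only [mul_assoc]
      _ = z := by rw [hvu, one_mul, mul_one]
  map_mul' z w := by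
    calc v * (z * w) * u = v * z * ((u * v) * w) * u := by rw [huv, one_mul]; simp only [mul_assoc]
      _ = v * z * u * (v * w * u) := by simp only [mul_assoc]
  map_add' z w := by rw [mul_add, add_mul]
  commutes' r := by
    rw [← Algebra.commutes, mul_assoc, hvu, mul_one]

theorem isAzumaya_matrix (B : Type v) [Ring B] [Algebra R B] [IsAzumaya R B] (n : ℕ) (hn : 0 < n) :
    IsAzumaya R (Matrix (Fin n) (Fin n) B) := by
  have : Nonempty (Fin n) := ⟨⟨0, hn⟩⟩
  have h1 : IsAzumaya R (Matrix (Fin n) (Fin n) R) := IsAzumaya.matrix R (Fin n)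
  have h2 : IsAzumaya R (TensorProduct R B (Matrix (Fin n) (Fin n) R)) :=
    Groth.Agent.Lib.Helper46.Azumaya.isAzumaya_tensorProduct R B (Matrix (Fin n) (Fin n) R)
  exact IsAzumaya.of_AlgEquiv R _ _ (matrixEquivTensor (Fin n) R B).symm

/-- Cancellation of matrix rings for Azumaya algebras over an LG-ring. -/
theorem nonempty_algEquiv_of_matrix (hR : LGRing.IsLGRing R) (A B : Type v) [Ring A] [Algebra R A]
    [Ring B] [Algebra R B] [IsAzumaya R B] (n : ℕ) (hn : 0 < n)
    (e : Matrix (Fin n) (Fin n) A ≃ₐ[R] Matrix (Fin n) (Fin n) B) : Nonempty (A ≃ₐ[R] B) := by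
  have hAz := isAzumaya_matrix (R := R) B n hn
  obtain ⟨u, v, huv, hvu, hconj⟩ := exists_conj hR hn ((stdUnits A n).map e) (stdUnits B n)
  let e' : Matrix (Fin n) (Fin n) A ≃ₐ[R] Matrix (Fin n) (Fin n) B :=
    e.trans (conjEquiv u v huv hvu)
  have he' : ∀ j k, e' (Matrix.single j k 1) = Matrix.single j k 1 := by
    intro j k
    show v * e (Matrix.single j k 1) * u = _
    have := hconj j k
    change u * Matrix.single j k 1 * v = e (Matrix.single j k 1) at this
    rw [← this]
    calc v * (u * Matrix.single j k 1 * v) * u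
        = (v * u) * Matrix.single j k 1 * (v * u) := by simp only [mul_assoc]
      _ = _ := by rw [hvu, one_mul, mul_one]
  have he'symm : ∀ j k, e'.symm (Matrix.single j k 1) = Matrix.single j k 1 := by
    intro j k
    rw [AlgEquiv.symm_apply_eq, he']
  let fA : A →ₐ[R] Matrix (Fin n) (Fin n) B := e'.toAlgHom.comp (Matrix.scalarAlgHom (Fin n) R)
  let fB : B →ₐ[R] Matrix (Fin n) (Fin n) B := Matrix.scalarAlgHom (Fin n) R
  have : Nonempty (Fin n) := ⟨⟨0, hn⟩⟩
  have hinjA : Function.Injective fA := by
    intro a a' h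
    have := e'.injective h
    exact Matrix.scalar_inj.mp this
  have hinjB : Function.Injective fB := fun b b' h => Matrix.scalar_inj.mp h
  have hrange : fA.range = fB.range := by
    ext M
    constructor
    · rintro ⟨a, rfl⟩
      have : ∀ i j, Commute (Matrix.single i j 1) (fA a) := by
        intro i j
        have hc : Commute (Matrix.single i j (1 : A)) (Matrix.scalar (Fin n) a) :=
          (Matrix.mem_range_scalar_iff_commute_single'.mp ⟨a, rfl⟩) i j
        have := hc.map e'
        rwa [he'] at this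
      obtain ⟨b, hb⟩ := Matrix.mem_range_scalar_iff_commute_single'.mpr this
      exact ⟨b, hb⟩
    · rintro ⟨b, rfl⟩
      have : ∀ i j, Commute (Matrix.single i j 1) (e'.symm (fB b)) := by
        intro i j
        have hc : Commute (Matrix.single i j (1 : B)) (Matrix.scalar (Fin n) b) :=
          (Matrix.mem_range_scalar_iff_commute_single'.mp ⟨b, rfl⟩) i j
        have := hc.map e'.symm
        rwa [he'symm] at this
      obtain ⟨a, ha⟩ := Matrix.mem_range_scalar_iff_commute_single'.mpr this
      refine ⟨a, ?_⟩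
      show e' (Matrix.scalar (Fin n) a) = _
      rw [ha, AlgEquiv.apply_symm_apply]
      rfl
  exact ⟨(AlgEquiv.ofInjective fA hinjA).trans
    ((Subalgebra.equivOfEq _ _ hrange).trans (AlgEquiv.ofInjective fB hinjB).symm)⟩

end Matrix

end Groth.Agent.Lib.Helper98.AzuMat
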