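import Groth.Prelude.Def_W4c4lgringredgrpLG
import Mathlib

/-! # Fields are LG-rings -/

namespace Groth.Agent.Lib.Helper98.LG

open MvPolynomial

universe u

theorem isLGRing_of_field (k : Type u) [Field k] : LGRing.IsLGRing k := by
  intro n f h
  have hmax : (⊥ : Ideal k).IsMaximal := Ideal.bot_isMaximal
  obtain ⟨s, hs⟩ := h ⊥
  let ψ : (k ⧸ (⊥ : Ideal k)) ≃ₐ[k] k := AlgEquiv.quotientBot k k
  refine ⟨fun i => ψ (s i), ?_⟩
  have := comp_aeval_apply (f := s) (ψ : (k ⧸ (⊥ : Ideal k)) →ₐ[k] k) f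
  have h2 : IsUnit ((ψ : (k ⧸ (⊥ : Ideal k)) →ₐ[k] k) ((aeval s) f)) := hs.map ψ
  rw [this] at h2
  exact h2

end Groth.Agent.Lib.Helper98.LG
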