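import Mathlib
import Groth.Agent.Lib.Helper31.AlgSpFlatLocusBC
import Groth.Agent.Lib.Helper78.AlgSpBasic

/-!
# Pointwise properties of morphisms of algebraic spaces, etale local on source and target (helper98)

Generalises helper31's `AlgSpFlatAt` (flatness at a point) to an arbitrary pointwise property `Q` of
morphisms of schemes which is etale local on the source and target (`EtLocalPt Q`): chart
independence of `AlgSp.HasAtMor Q`, openness of the locus and compatibility with base change.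
The proofs of `transfer` and `hasAtMor_baseChange_iff` are adapted from helper31's
`flatAt_transfer` and `isFlatAtMor_baseChange_iff`.
-/

set_option autoImplicit false
universe u

namespace Groth.Agent.Lib.Helper98.AlgSpPtLocal

open CategoryTheory CategoryTheory.Limits AlgebraicGeometry AlgSp
open Groth.Agent.Lib.Helper52 Groth.Agent.Lib.Helper51
open Groth.Agent.Lib.Helper31.AlgSpFlatAt

/-- A pointwise property of morphisms of schemes which is etale local on the source and target. -/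
structure EtLocalPt (Q : ∀ (U V : Scheme.{u}), (U ⟶ V) → ↥U → Prop) : Prop where
  precomp : ∀ {A B C : Scheme.{u}} (e : A ⟶ B) (h : B ⟶ C) [Etale e] (a : A),
    Q B C h (e a) → Q A C (e ≫ h) a
  postcomp : ∀ {A B C : Scheme.{u}} (h : A ⟶ B) (e : B ⟶ C) [Etale e] (a : A),
    Q A B h a → Q A C (h ≫ e) a
  descend : ∀ {A B C : Scheme.{u}} (e : A ⟶ B) (h : B ⟶ C) [Etale e] (a : A),
    Q A C (e ≫ h) a → Q B C h (e a)
  cancel : ∀ {A B C : Scheme.{u}} (g : A ⟶ B) (e : B ⟶ C) [Etale e] (a : A),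
    Q A C (g ≫ e) a → Q A B g a

variable {S : Scheme.{u}}
variable {Q : ∀ (U V : Scheme.{u}), (U ⟶ V) → ↥U → Prop}

section Transfer

variable {X Y : AlgSp.Sp S}

/-- **Chart independence** of an etale local pointwise property. -/
theorem transfer (hQ : EtLocalPt Q) (f : X ⟶ Y)
    {U V U' V' : Over S} (a : (yon S).obj U ⟶ X) (b : (yon S).obj V ⟶ Y) (h : U ⟶ V)
    (ha : RepWith @Etale a) (hb : RepWith @Etale b)
    (comm : a ≫ f = (yon S).map h ≫ b) (u : U.left) (hh : Q _ _ h.left u)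
    (a' : (yon S).obj U' ⟶ X) (b' : (yon S).obj V' ⟶ Y) (h' : U' ⟶ V')
    (ha' : RepWith @Etale a') (hb' : RepWith @Etale b')
    (comm' : a' ≫ f = (yon S).map h' ≫ b') (u' : U'.left)
    (hu : Points.ofPt a u = Points.ofPt a' u') : Q _ _ h'.left u' := by
  have sqU := ha.rep.isPullback' a'
  set p₁ : ha.rep.pullback a' ⟶ U := ha.rep.fst' a' with hp₁
  set p₂ : ha.rep.pullback a' ⟶ U' := ha.rep.snd a' with hp₂
  haveI hp₂e : Etale p₂.left := ha.property _ _ _ sqU
  haveI hp₁e : Etale p₁.left := ha'.property _ _ _ sqU.flip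
  obtain ⟨w, hw1, hw2⟩ := exists_of_ofPt_eq_ofPt sqU hu
  have sqV := hb.rep.isPullback' b'
  set q₁ : hb.rep.pullback b' ⟶ V := hb.rep.fst' b' with hq₁
  set q₂ : hb.rep.pullback b' ⟶ V' := hb.rep.snd b' with hq₂
  haveI hq₂e : Etale q₂.left := hb.property _ _ _ sqV
  haveI hq₁e : Etale q₁.left := hb'.property _ _ _ sqV.flip
  have w' : (yon S).map (p₁ ≫ h) ≫ b = (yon S).map (p₂ ≫ h') ≫ b' := by
    rw [Functor.map_comp, Functor.map_comp, Category.assoc, Category.assoc, ← comm, ← comm',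
      ← Category.assoc, ← Category.assoc, sqU.w]
  obtain ⟨h'', hh''⟩ := (yon S).map_surjective (sqV.lift _ _ w')
  have e₁ : h'' ≫ q₁ = p₁ ≫ h := (yon S).map_injective (by
    rw [Functor.map_comp, hh'']; exact sqV.lift_fst _ _ _)
  have e₂ : h'' ≫ q₂ = p₂ ≫ h' := (yon S).map_injective (by
    rw [Functor.map_comp, hh'']; exact sqV.lift_snd _ _ _)
  have e₁' : h''.left ≫ q₁.left = p₁.left ≫ h.left := congrArg CommaMorphism.left e₁
  have e₂' : h''.left ≫ q₂.left = p₂.left ≫ h'.left := congrArg CommaMorphism.left e₂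
  have s1 : Q _ _ (p₁.left ≫ h.left) w := hQ.precomp _ _ w (by rw [hw1]; exact hh)
  have s2 : Q _ _ h''.left w := hQ.cancel _ q₁.left w (by rw [e₁']; exact s1)
  have s3 : Q _ _ (h''.left ≫ q₂.left) w := hQ.postcomp _ _ w s2
  rw [e₂'] at s3
  have s4 := hQ.descend _ _ w s3
  rwa [hw2] at s4

/-- An etale local pointwise property at a point can be tested on any one chart diagram through it. -/
theorem hasAtMor_iff_of_chart (hQ : EtLocalPt Q) (f : X ⟶ Y)
    {U V : Over S} (a : (yon S).obj U ⟶ X) (b : (yon S).obj V ⟶ Y) (h : U ⟶ V)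
    (ha : RepWith @Etale a) (hb : RepWith @Etale b)
    (comm : a ≫ f = (yon S).map h ≫ b) (u : U.left) :
    HasAtMor Q f (Points.ofPt a u) ↔ Q _ _ h.left u := by
  constructor
  · rintro ⟨U', V', a', b', h', u', ha', hb', comm', hu', hq⟩
    exact transfer hQ f a' b' h' ha' hb' comm' u' hq a b h ha hb comm u hu'
  · intro hq
    exact ⟨U, V, a, b, h, u, ha, hb, comm, rfl, hq⟩

end Transfer

section Locus

variable {X Y Z X' Y' Z' : AlgSp.Sp S}

/-- The locus of an etale local pointwise property is open as soon as it is on a good chart. -/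
theorem isOpen_hasAtMor (hQ : EtLocalPt Q) {f : X ⟶ Y} {h : Y ⟶ Z} (G : GoodChart f h)
    (hopen : IsOpen {u : G.U.left | Q _ _ G.k.left u}) :
    IsOpen {x : Points X | HasAtMor Q f x} := by
  rw [← (isQuotientMap_ofPt G.a G.ha G.has).isOpen_preimage]
  have : Points.ofPt G.a ⁻¹' {x : Points X | HasAtMor Q f x} = {u : G.U.left | Q _ _ G.k.left u} := by
    ext u
    exact hasAtMor_iff_of_chart hQ f G.a G.b G.k G.ha G.hb G.comm_f u
  rw [this]
  exact hopen

/-- **Formation of the locus of an etale local pointwise property commutes with base change**, as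
soon as it does so on the good chart (scheme level). -/
theorem hasAtMor_baseChange_iff (hQ : EtLocalPt Q) {f : X ⟶ Y} {h : Y ⟶ Z} (G : GoodChart f h)
    (hbc : ∀ {U'' V'' : Scheme.{u}} (mU : U'' ⟶ G.U.left) (k'' : U'' ⟶ V'') (mV : V'' ⟶ G.V.left),
      IsPullback mU k'' G.k.left mV → ∀ u'' : U'', Q _ _ k'' u'' ↔ Q _ _ G.k.left (mU u''))
    (hZ' : IsAlgSpace Z')
    (g : Z' ⟶ Z) (f' : X' ⟶ Y') (h' : Y' ⟶ Z') (pX : X' ⟶ X) (pY : Y' ⟶ Y)
    (sqY : IsPullback pY h' h g) (sqX : IsPullback pX f' f pY) (x' : Points X') :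
    HasAtMor Q f' x' ↔ HasAtMor Q f (Points.map pX x') := by
  obtain ⟨W'₁, c'₁, hc'₁, hc'₁s⟩ := hZ'.atlas
  -- the chart `W''` of `Z'`
  have sqW := G.hc.rep.isPullback' (c'₁ ≫ g)
  set W'' : Over S := G.hc.rep.pullback (c'₁ ≫ g) with hW''
  set m : W'' ⟶ G.W := G.hc.rep.fst' (c'₁ ≫ g) with hm
  set r₁ : W'' ⟶ W'₁ := G.hc.rep.snd (c'₁ ≫ g) with hr₁
  have hr₁e : Etale r₁.left := G.hc.property _ _ _ sqW
  have hr₁s : Surjective r₁.left := G.hcs.property _ _ _ sqW
  obtain ⟨c'', hc''def⟩ : ∃ c'' : (yon S).obj W'' ⟶ Z', c'' = (yon S).map r₁ ≫ c'₁ := ⟨_, rfl⟩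
  have hc''e : RepWith @Etale c'' := by
    rw [hc''def]
    exact (RepWith (S := S) @Etale).comp_mem _ _ ((repWith_yon_map_iff _ _).2 hr₁e) hc'₁
  have hc''s : RepWith @Surjective c'' := by
    rw [hc''def]
    exact (RepWith (S := S) @Surjective).comp_mem _ _ ((repWith_yon_map_iff _ _).2 hr₁s) hc'₁s
  have hcomm : (yon S).map m ≫ G.c = c'' ≫ g := by
    rw [hc''def, Category.assoc]; exact sqW.w
  -- the charts `V''`, `U''`
  obtain ⟨V'', mV, l'', sqVo, sqVs⟩ := Groth.Agent.Lib.Helper30.isPullback_over' G.l m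
  obtain ⟨U'', mU, k'', sqUo, sqUs⟩ := Groth.Agent.Lib.Helper30.isPullback_over' G.k mV
  have sqVy := sqVo.map (yon S)
  have sqUy := sqUo.map (yon S)
  -- the chart map of `Y'`
  have bigV : IsPullback ((yon S).map mV ≫ (yon S).map G.nV) ((yon S).map l'') (G.b₁ ≫ h)
      (c'' ≫ g) := by
    have := sqVy.paste_horiz G.sqV
    rwa [hcomm] at this
  have wV : ((yon S).map mV ≫ G.b) ≫ h = ((yon S).map l'' ≫ c'') ≫ g := by
    rw [Category.assoc, G.comm_h, ← Category.assoc, sqVy.w, Category.assoc, hcomm, Category.assoc]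
  obtain ⟨b'', hb''1, hb''2⟩ : ∃ b'' : (yon S).obj V'' ⟶ Y', b'' ≫ pY = (yon S).map mV ≫ G.b ∧
      b'' ≫ h' = (yon S).map l'' ≫ c'' :=
    ⟨sqY.lift _ _ wV, sqY.lift_fst _ _ _, sqY.lift_snd _ _ _⟩
  have hb''1' : b'' ≫ pY = ((yon S).map mV ≫ (yon S).map G.nV) ≫ G.b₁ := by
    rw [hb''1, Category.assoc]
  have hb''e : RepWith @Etale b'' :=
    repWith_lift_of_big @Etale sqY G.b₁ c'' G.hb₁ hc''e _ _ bigV b'' hb''1' hb''2
  have hb''s : RepWith @Surjective b'' :=
    repWith_lift_of_big @Surjective sqY G.b₁ c'' G.hb₁s hc''s _ _ bigV b'' hb''1' hb''2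
  -- the chart map of `X'`
  have bigU : IsPullback ((yon S).map mU ≫ (yon S).map G.nU) ((yon S).map k'') (G.a₁ ≫ f)
      (b'' ≫ pY) := by
    have := sqUy.paste_horiz G.sqU
    rwa [← hb''1] at this
  have wU : ((yon S).map mU ≫ G.a) ≫ f = ((yon S).map k'' ≫ b'') ≫ pY := by
    rw [Category.assoc, G.comm_f, ← Category.assoc, sqUy.w, Category.assoc, Category.assoc, hb''1]
  obtain ⟨a'', ha''1, ha''2⟩ : ∃ a'' : (yon S).obj U'' ⟶ X', a'' ≫ pX = (yon S).map mU ≫ G.a ∧
      a'' ≫ f' = (yon S).map k'' ≫ b'' :=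
    ⟨sqX.lift _ _ wU, sqX.lift_fst _ _ _, sqX.lift_snd _ _ _⟩
  have ha''1' : a'' ≫ pX = ((yon S).map mU ≫ (yon S).map G.nU) ≫ G.a₁ := by
    rw [ha''1, Category.assoc]
  have ha''e : RepWith @Etale a'' :=
    repWith_lift_of_big @Etale sqX G.a₁ b'' G.ha₁ hb''e _ _ bigU a'' ha''1' ha''2
  have ha''s : RepWith @Surjective a'' :=
    repWith_lift_of_big @Surjective sqX G.a₁ b'' G.ha₁s hb''s _ _ bigU a'' ha''1' ha''2
  -- conclusion
  obtain ⟨u'', rfl⟩ := surjective_ofPt_of_repWith_surjective a'' ha''s x'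
  rw [Points.map_ofPt, ha''1, ofPt_yon_map_comp,
    hasAtMor_iff_of_chart hQ f G.a G.b G.k G.ha G.hb G.comm_f,
    hasAtMor_iff_of_chart hQ f' a'' b'' k'' ha''e hb''e ha''2 u'']
  exact hbc mU.left k''.left mV.left sqUs u''

end Locus

end Groth.Agent.Lib.Helper98.AlgSpPtLocal
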