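import Mathlib
import Groth.Agent.Lib.Helper98.AlgSpPtLocal
import Groth.Agent.S7408
import Groth.Agent.S9358
import Groth.Agent.S0402
import Groth.Agent.S9355

/-!
# Relative dimension at a point as an etale local pointwise property (helper98)

Any predicate on the local fibre dimension `FlatMor.fibreDimAt h u` is etale local on the source
and target (by `S7408`), so the generic machinery of `AlgSpPtLocal` applies.
-/

set_option autoImplicit false
universe u

namespace Groth.Agent.Lib.Helper98.AlgSpFibreDimLocal

open CategoryTheory CategoryTheory.Limits AlgebraicGeometry AlgSp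
open Groth.Agent.Lib.Helper98.AlgSpPtLocal

theorem fibreDimAt_precomp {A B C : Scheme.{u}} (e : A ⟶ B) (h : B ⟶ C) [Etale e] (a : A) :
    FlatMor.fibreDimAt h (e a) = FlatMor.fibreDimAt (e ≫ h) a :=
  Groth.Agent.S7408.result h (e ≫ h) e (𝟙 C) (Category.comp_id _) a

theorem fibreDimAt_postcomp {A B C : Scheme.{u}} (h : A ⟶ B) (e : B ⟶ C) [Etale e] (a : A) :
    FlatMor.fibreDimAt (h ≫ e) a = FlatMor.fibreDimAt h a := by
  have := Groth.Agent.S7408.result (h ≫ e) h (𝟙 A) e (Category.id_comp _).symm a
  simpa using this

/-- Any predicate on the local fibre dimension is etale local on the source and target. -/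
theorem etLocalPt_fibreDim (P : WithBot ℕ∞ → Prop) :
    EtLocalPt.{u} (fun _ _ h u => P (FlatMor.fibreDimAt h u)) where
  precomp := by
    intro A B C e h _ a hq
    show P (FlatMor.fibreDimAt (e ≫ h) a)
    rw [← fibreDimAt_precomp]; exact hq
  postcomp := by
    intro A B C h e _ a hq
    show P (FlatMor.fibreDimAt (h ≫ e) a)
    rw [fibreDimAt_postcomp]; exact hq
  descend := by
    intro A B C e h _ a hq
    show P (FlatMor.fibreDimAt h (e a))
    rw [fibreDimAt_precomp]; exact hq
  cancel := by
    intro A B C g e _ a hq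
    show P (FlatMor.fibreDimAt g a)
    rw [← fibreDimAt_postcomp g e]; exact hq

/-- base change invariance of the local fibre dimension (scheme level, from `S9358`). -/
theorem fibreDimAt_baseChange {U V U'' V'' : Scheme.{u}} (k : U ⟶ V) [LocallyOfFiniteType k]
    (mU : U'' ⟶ U) (k'' : U'' ⟶ V'') (mV : V'' ⟶ V) (sq : IsPullback mU k'' k mV) (u'' : U'') :
    FlatMor.fibreDimAt k'' u'' = FlatMor.fibreDimAt k (mU u'') :=
  (Groth.Agent.S9358.result k mV mU k'' sq 0).1 u''

end Groth.Agent.Lib.Helper98.AlgSpFibreDimLocal
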