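import Mathlib
import Groth.Agent.Lib.Helper98.AlgSpPtLocal
import Groth.Agent.Lib.Helper98.AlgSpFibreDimLocal
import Groth.Agent.Lib.Helper73.QFAt2
import Groth.Agent.Lib.Helper78.AlgSpLocPLqf
import Groth.Agent.Lib.Helper31.AlgSpFibreDim
import Groth.Agent.Lib.Helper51.AlgSpOpen
import Groth.Agent.Lib.Helper62.DimLoc4

/-!
# The locally quasi-finite locus of a morphism of algebraic spaces (helper98)

`LqfNear h u`: the morphism of schemes `h` is locally quasi-finite and locally of finite type on an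
open neighbourhood of `u`.  It is etale local on the source and target (`etLocalPt_lqfNear`), for
`h` locally of finite type it is equivalent to `fibreDimAt h u = 0` (`lqfNear_iff_fibreDimAt`, via
helper73's `quasiFiniteAt_iff_fibreDimAt_eq_zero` and Mathlib's open quasi-finite locus), hence
compatible with arbitrary base change (`lqfNear_baseChange_iff`).  `exists_lqf_open`: the open
subspace of `X` on which a morphism `f : X ⟶ Y` of algebraic spaces, locally of finite type, is
locally quasi-finite.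
-/

set_option autoImplicit false
set_option linter.style.haveILetI false
universe u

namespace Groth.Agent.Lib.Helper98.AlgSpLqf

open CategoryTheory CategoryTheory.Limits AlgebraicGeometry AlgSp
open Groth.Agent.Lib.Helper52 Groth.Agent.Lib.Helper51
open Groth.Agent.Lib.Helper31.AlgSpFlatAt Groth.Agent.Lib.Helper98.AlgSpPtLocal
open Groth.Agent.Lib.Helper98.AlgSpFibreDimLocal Groth.Agent.Lib.Helper73.QFAt
open Groth.Agent.Lib.Helper78.AlgSpLocPLqf

/-- `h` is locally quasi-finite and locally of finite type on an open neighbourhood of `u`. -/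
abbrev LqfNear : ∀ (U V : Scheme.{u}), (U ⟶ V) → ↥U → Prop :=
  fun U _ h u => ∃ W : U.Opens, u ∈ W ∧ LocallyQuasiFinite (W.ι ≫ h) ∧ LocallyOfFiniteType (W.ι ≫ h)

theorem lqfNear_iff_quasiFiniteAt {U V : Scheme.{u}} (h : U ⟶ V) [LocallyOfFiniteType h] (u : U) :
    LqfNear U V h u ↔ h.QuasiFiniteAt u := by
  constructor
  · rintro ⟨W, hu, h1, h2⟩
    have := (W.ι ≫ h).quasiFiniteAt ⟨u, hu⟩
    rwa [Scheme.Hom.quasiFiniteAt_comp_iff_of_isOpenImmersion] at this
  · intro hq
    refine ⟨h.quasiFiniteLocus, hq, ?_, inferInstance⟩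
    apply locallyQuasiFinite_of_forall_quasiFiniteAt
    intro w
    rw [Scheme.Hom.quasiFiniteAt_comp_iff_of_isOpenImmersion]
    exact w.2

theorem lqfNear_iff_fibreDimAt {U V : Scheme.{u}} (h : U ⟶ V) [LocallyOfFiniteType h] (u : U) :
    LqfNear U V h u ↔ FlatMor.fibreDimAt h u = 0 :=
  (lqfNear_iff_quasiFiniteAt h u).trans (quasiFiniteAt_iff_fibreDimAt_eq_zero h u)

theorem isOpen_lqfNear {U V : Scheme.{u}} (h : U ⟶ V) : IsOpen {u : U | LqfNear _ _ h u} := by
  rw [isOpen_iff_forall_mem_open]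
  rintro u ⟨W, hu, h1, h2⟩
  exact ⟨W, fun u' hu' => ⟨W, hu', h1, h2⟩, W.2, hu⟩

theorem lqf_comp {X Y Z : Scheme.{u}} (f : X ⟶ Y) (g : Y ⟶ Z) [LocallyQuasiFinite f]
    [LocallyQuasiFinite g] : LocallyQuasiFinite (f ≫ g) :=
  MorphismProperty.comp_mem @LocallyQuasiFinite f g inferInstance inferInstance

theorem etLocalPt_lqfNear : EtLocalPt LqfNear.{u} where
  precomp := by
    rintro A B C e h _ a ⟨W, ha, h1, h2⟩
    have key : (e ⁻¹ᵁ W).ι ≫ e ≫ h = (e ∣_ W) ≫ W.ι ≫ h := by
      rw [← Category.assoc, ← Category.assoc, morphismRestrict_ι]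
    haveI : LocallyQuasiFinite (e ∣_ W) := lqf_of_etale _
    refine ⟨e ⁻¹ᵁ W, ha, ?_, ?_⟩
    · rw [key]; exact lqf_comp _ _
    · rw [key]; infer_instance
  postcomp := by
    rintro A B C h e _ a ⟨W, ha, h1, h2⟩
    haveI : LocallyQuasiFinite e := lqf_of_etale _
    refine ⟨W, ha, ?_, ?_⟩
    · rw [← Category.assoc]; exact lqf_comp _ _
    · rw [← Category.assoc]; infer_instance
  descend := by
    rintro A B C e h _ a ⟨W, ha, h1, h2⟩
    set j : (W : Scheme.{u}) ⟶ B := W.ι ≫ e with hj
    have hopen : IsOpen (Set.range j) := j.isOpenMap.isOpen_range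
    let W' : B.Opens := ⟨Set.range j, hopen⟩
    have hle : Set.range j ⊆ Set.range W'.ι := by
      rw [Scheme.Opens.range_ι]; exact subset_rfl
    let j' : (W : Scheme.{u}) ⟶ W' := IsOpenImmersion.lift W'.ι j hle
    have fac : j' ≫ W'.ι = j := IsOpenImmersion.lift_fac _ _ _
    have hj'e : Etale j' :=
      MorphismProperty.of_postcomp (W := @Etale) (W' := @Etale) j' W'.ι inferInstance
        (by rw [fac]; infer_instance)
    have hj's : Surjective j' := ⟨fun w' => by
      obtain ⟨w, hw⟩ := w'.2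
      refine ⟨w, ?_⟩
      apply W'.ι.isOpenEmbedding.injective
      rw [← Scheme.Hom.comp_apply, fac]
      exact hw⟩
    have e1 : j' ≫ (W'.ι ≫ h) = W.ι ≫ e ≫ h := by
      rw [← Category.assoc, fac, hj, Category.assoc]
    have H := lqf_descend j' (W'.ι ≫ h) hj'e hj's ⟨by rw [e1]; exact h1, by rw [e1]; exact h2⟩
    exact ⟨W', ⟨⟨a, ha⟩, rfl⟩, H.1, H.2⟩
  cancel := by
    rintro A B C g e _ a ⟨W, ha, h1, h2⟩
    have e1 : W.ι ≫ g ≫ e = (W.ι ≫ g) ≫ e := (Category.assoc _ _ _).symm
    rw [e1] at h1 h2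
    haveI := h1
    haveI := h2
    exact ⟨W, ha, LocallyQuasiFinite.of_comp (W.ι ≫ g) e, locallyOfFiniteType_of_comp (W.ι ≫ g) e⟩

/-- Formation of the quasi-finite locus of a morphism locally of finite type commutes with
arbitrary base change. -/
theorem lqfNear_baseChange_iff {U V U'' V'' : Scheme.{u}} (k : U ⟶ V) [LocallyOfFiniteType k]
    (mU : U'' ⟶ U) (k'' : U'' ⟶ V'') (mV : V'' ⟶ V) (sq : IsPullback mU k'' k mV) (u'' : U'') :
    LqfNear _ _ k'' u'' ↔ LqfNear _ _ k (mU u'') := by
  haveI : LocallyOfFiniteType k'' :=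
    MorphismProperty.of_isPullback (P := @LocallyOfFiniteType) sq inferInstance
  rw [lqfNear_iff_fibreDimAt, lqfNear_iff_fibreDimAt, fibreDimAt_baseChange k mU k'' mV sq u'']

theorem zero_le_localDim (X : Type*) [TopologicalSpace X] (x : X) :
    (0 : WithBot ℕ∞) ≤ FlatMor.localDim X x := by
  unfold FlatMor.localDim
  refine le_iInf fun U => ?_
  haveI : Nonempty (TopologicalSpace.IrreducibleCloseds (U.1 : Set X)) :=
    ⟨⟨closure {⟨x, U.2⟩}, isIrreducible_singleton.closure, isClosed_closure⟩⟩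
  exact Order.krullDim_nonneg

/-- For a morphism to a one point scheme the local fibre dimension is the local dimension. -/
theorem fibreDimAt_eq_localDim_of_subsingleton {U V : Scheme.{u}} [Subsingleton V] (h : U ⟶ V)
    (u : U) : FlatMor.fibreDimAt h u = FlatMor.localDim U u := by
  have hemb : Topology.IsOpenEmbedding (h.fiberι (h u)) := by
    refine ⟨(h.fiberι (h u)).isEmbedding, ?_⟩
    rw [Scheme.Hom.range_fiberι]
    have : h ⁻¹' {h u} = Set.univ := Set.eq_univ_of_forall fun x => Subsingleton.elim _ _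
    rw [this]; exact isOpen_univ
  unfold FlatMor.fibreDimAt
  rw [Groth.Agent.Lib.Helper62.DimLoc.localDim_eq_of_isOpenEmbedding _ hemb,
    Scheme.Hom.fiberι_asFiber]

variable {S : Scheme.{u}}

theorem hasAtMor_lqfNear_iff_fibreDim {X Y : AlgSp.Sp S} (f : X ⟶ Y)
    (hf : LocP @LocallyOfFiniteType f) (x : Points X) :
    HasAtMor LqfNear f x ↔ HasAtMor (fun _ _ h u => FlatMor.fibreDimAt h u = 0) f x := by
  constructor
  · rintro ⟨U, V, a, b, h, u, ha, hb, comm, hx, hq⟩
    haveI : LocallyOfFiniteType h.left := hf a b h ha hb comm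
    exact ⟨U, V, a, b, h, u, ha, hb, comm, hx, (lqfNear_iff_fibreDimAt h.left u).1 hq⟩
  · rintro ⟨U, V, a, b, h, u, ha, hb, comm, hx, hq⟩
    haveI : LocallyOfFiniteType h.left := hf a b h ha hb comm
    exact ⟨U, V, a, b, h, u, ha, hb, comm, hx, (lqfNear_iff_fibreDimAt h.left u).2 hq⟩

theorem hasAtMor_one_le_of_not_lqfNear {X Y : AlgSp.Sp S} (hX : IsAlgSpace X) (hY : IsAlgSpace Y)
    (f : X ⟶ Y) (hf : LocP @LocallyOfFiniteType f) (x : Points X)
    (hx : ¬ HasAtMor LqfNear f x) :
    HasAtMor (fun _ _ h u => 1 ≤ FlatMor.fibreDimAt h u) f x := by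
  obtain ⟨U, V, a, b, h, u, ha, hb, comm, rfl⟩ := exists_chart_at f hX hY x
  haveI : LocallyOfFiniteType h.left := hf a b h ha hb comm
  refine ⟨U, V, a, b, h, u, ha, hb, comm, rfl, ?_⟩
  have hne : FlatMor.fibreDimAt h.left u ≠ 0 := fun h0 =>
    hx ⟨U, V, a, b, h, u, ha, hb, comm, rfl, (lqfNear_iff_fibreDimAt h.left u).2 h0⟩
  have h0 : (0 : WithBot ℕ∞) ≤ FlatMor.fibreDimAt h.left u := zero_le_localDim _ _
  show (1 : WithBot ℕ∞) ≤ FlatMor.fibreDimAt h.left u
  generalize FlatMor.fibreDimAt h.left u = d at hne h0 ⊢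
  induction d using WithBot.recBotCoe with
  | bot => exact absurd h0 (by simp)
  | coe n =>
    have hn : n ≠ 0 := fun h => hne (by rw [h]; rfl)
    exact_mod_cast (Order.one_le_iff_ne_zero (x := n)).2 hn

/-- The open subspace on which a morphism locally of finite type is locally quasi-finite. -/
theorem exists_lqf_open {X Y : AlgSp.Space S} (f : X ⟶ Y) :
    ∃ (X' : AlgSp.Space S) (j : X' ⟶ X), AlgSp.RepWith @IsOpenImmersion j.hom ∧
      Set.range (Points.map j.hom) = {x : Points X.obj | HasAtMor LqfNear f.hom x} ∧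
      LocP (@LocallyQuasiFinite ⊓ @LocallyOfFiniteType) (j ≫ f).hom := by
  obtain ⟨G⟩ := exists_goodChart f.hom (𝟙 Y.obj) X.property Y.property Y.property
  have hO : IsOpen {x : Points X.obj | HasAtMor LqfNear f.hom x} :=
    isOpen_hasAtMor etLocalPt_lqfNear G (isOpen_lqfNear _)
  generalize hOdef : {x : Points X.obj | HasAtMor LqfNear f.hom x} = O at hO
  refine ⟨⟨openSp X.obj O, isAlgSpace_openSp O hO X.property⟩,
    ObjectProperty.homMk (openSpι X.obj O), repWith_isOpenImmersion_openSpι O hO,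
    range_map_openSpι O, ?_⟩
  intro U V a b h ha hb comm
  have hle : MorphismProperty.inverseImage (@IsOpenImmersion) (Over.forget S) ≤
      MorphismProperty.inverseImage (@Etale) (Over.forget S) := by
    intro A B g hg
    have : IsOpenImmersion ((Over.forget S).map g) := hg
    exact (inferInstance : Etale ((Over.forget S).map g))
  have hj : RepWith @Etale (openSpι X.obj O) :=
    MorphismProperty.relative_monotone hle _ (repWith_isOpenImmersion_openSpι O hO)
  have ha' : RepWith @Etale (a ≫ openSpι X.obj O) :=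
    (AlgSp.RepWith (S := S) @Etale).comp_mem _ _ ha hj
  have comm' : (a ≫ openSpι X.obj O) ≫ f.hom = (yon S).map h ≫ b := by
    rw [Category.assoc]; exact comm
  have hu : ∀ u : U.left, LqfNear _ _ h.left u := fun u =>
    (hasAtMor_iff_of_chart etLocalPt_lqfNear f.hom _ b h ha' hb comm' u).1 (by
      have hmem : Points.map (openSpι X.obj O) (Points.ofPt a u) ∈
          Set.range (Points.map (openSpι X.obj O)) := ⟨_, rfl⟩
      rw [range_map_openSpι] at hmem
      have hmem' : Points.map (openSpι X.obj O) (Points.ofPt a u) ∈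
          {x : Points X.obj | HasAtMor LqfNear f.hom x} := by rw [hOdef]; exact hmem
      exact hmem')
  choose W hW1 hW2 hW3 using hu
  have hcov : iSup W = ⊤ :=
    top_le_iff.1 fun u _ => TopologicalSpace.Opens.mem_iSup.2 ⟨u, hW1 u⟩
  exact ⟨IsZariskiLocalAtSource.of_iSup_eq_top W hcov hW2,
    IsZariskiLocalAtSource.of_iSup_eq_top W hcov hW3⟩

end Groth.Agent.Lib.Helper98.AlgSpLqf
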