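import Mathlib
import Groth.Agent.S8658
import Groth.Agent.S8662
import Groth.Agent.Lib.Helper9.RootLCI2

/-!
# Local complete intersection morphisms are local on the target for flat open covers (helper98)

`lci_of_flat_openMap_surjective`: if the base change of `h : U ⟶ V` along a flat, open, surjective
`g : V' ⟶ V` (e.g. an etale covering, NOT assumed quasi-compact) is Koszul at every point, then so
is `h`.  Reduces to the quasi-compact case (S8662) over affine opens of `V`.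
-/

set_option autoImplicit false
set_option linter.style.haveILetI false
universe u

namespace Groth.Agent.Lib.Helper98.LciLocal

open CategoryTheory CategoryTheory.Limits AlgebraicGeometry
open Groth.Agent.Lib.Helper9

/-- Koszul-ness at a point can be checked on an open neighbourhood of the point in the source. -/
theorem isKoszulAt_of_ι_comp {X Y : Scheme.{u}} (f : X ⟶ Y) (U₀ : X.Opens) (x : U₀.toScheme)
    (h : Synt.IsKoszulAt (U₀.ι ≫ f) x) : Synt.IsKoszulAt f (U₀.ι x) := by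
  obtain ⟨V, hV, hxV, -⟩ :=
    exists_isAffineOpen_mem_and_subset (x := f (U₀.ι x)) (U := ⊤) trivial
  have hxV' : (U₀.ι ≫ f) x ∈ V := hxV
  obtain ⟨W₀, e', hxW, hL⟩ :=
    LciMor2.exists_affine_isLCI_of_isKoszulAt (U₀.ι ≫ f) x h ⟨V, hV⟩ hxV'
  have haff : IsAffineOpen (U₀.ι ''ᵁ W₀.1) := W₀.2.image_of_isOpenImmersion U₀.ι
  have e : U₀.ι ''ᵁ W₀.1 ≤ f ⁻¹ᵁ V := by
    rintro _ ⟨y, hy, rfl⟩
    exact e' hy
  refine LciMor2.isKoszulAt_of_affine_isLCI f (U₀.ι x) ⟨U₀.ι ''ᵁ W₀.1, haff⟩ ⟨V, hV⟩ e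
    ⟨x, hxW, rfl⟩ ?_
  rw [LciMor2.appLE_ι_image f U₀ W₀.1 V e e']
  exact hL

/-- Koszul-ness at every point descends along flat, open, surjective base change of the target
(no quasi-compactness). -/
theorem lci_of_flat_openMap_surjective {U V V' : Scheme.{u}} (h : U ⟶ V) (g : V' ⟶ V) [Flat g]
    (hopen : IsOpenMap g) (hsurj : Function.Surjective g)
    (H : ∀ z, Synt.IsKoszulAt (pullback.snd h g) z) : ∀ x, Synt.IsKoszulAt h x := by
  intro x
  obtain ⟨V₀, hV₀, hxV₀, -⟩ :=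
    exists_isAffineOpen_mem_and_subset (x := h x) (U := ⊤) trivial
  have hex : ∀ v : V₀, ∃ N : V'.Opens, IsAffineOpen N ∧ N ≤ g ⁻¹ᵁ V₀ ∧
      v.1 ∈ g '' (N : Set V') := by
    intro v
    obtain ⟨t, ht⟩ := hsurj v.1
    have htW : t ∈ (g ⁻¹ᵁ V₀ : V'.Opens) := by
      show g t ∈ V₀
      rw [ht]; exact v.2
    obtain ⟨_, ⟨N, hN, rfl⟩, htN, hsub⟩ :=
      V'.isBasis_affineOpens.exists_subset_of_mem_open htW (g ⁻¹ᵁ V₀).2
    exact ⟨N, hN, hsub, t, htN, ht⟩
  choose N hNaff hNle hNmem using hex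
  obtain ⟨t, ht⟩ := hV₀.isCompact.elim_finite_subcover (fun v : V₀ => g '' (N v : Set V'))
    (fun v => hopen _ (N v).2) (fun y hy => Set.mem_iUnion.2 ⟨⟨y, hy⟩, hNmem _⟩)
  haveI : ∀ j : t, IsAffine ((N j.1 : V'.Opens) : Scheme.{u}) := fun j => hNaff j.1
  let k : (∐ fun j : t => ((N j.1 : V'.Opens) : Scheme.{u})) ⟶ V' :=
    Sigma.desc (fun j : t => (N j.1).ι)
  haveI : Flat k := IsZariskiLocalAtSource.sigmaDesc (P := @Flat) (fun j => inferInstance)
  have hkι : ∀ (j : t) (n : ((N j.1 : V'.Opens) : Scheme.{u})),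
      k ((Sigma.ι (fun j : t => ((N j.1 : V'.Opens) : Scheme.{u})) j) n) = (N j.1).ι n := by
    intro j n
    rw [← Scheme.Hom.comp_apply, Sigma.ι_desc]
  have hpt : ∀ z : ↥(∐ fun j : t => ((N j.1 : V'.Opens) : Scheme.{u})), (k ≫ g) z ∈ V₀ := by
    intro z
    obtain ⟨⟨j, n⟩, rfl⟩ :=
      (sigmaMk (fun j : t => ((N j.1 : V'.Opens) : Scheme.{u}))).surjective z
    rw [sigmaMk_mk, Scheme.Hom.comp_apply, hkι]
    exact hNle j.1 n.2
  have hrange : Set.range (k ≫ g) ⊆ Set.range V₀.ι := by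
    rintro _ ⟨z, rfl⟩
    rw [Scheme.Opens.range_ι]
    exact hpt z
  let g₀ : (∐ fun j : t => ((N j.1 : V'.Opens) : Scheme.{u})) ⟶ V₀.toScheme :=
    IsOpenImmersion.lift V₀.ι (k ≫ g) hrange
  have hg₀ : g₀ ≫ V₀.ι = k ≫ g := IsOpenImmersion.lift_fac _ _ _
  haveI : Flat g₀ :=
    MorphismProperty.of_postcomp (W := @Flat) (W' := @IsOpenImmersion) g₀ V₀.ι inferInstance
      (by rw [hg₀]; infer_instance)
  haveI : IsAffine V₀.toScheme := hV₀
  haveI : Surjective g₀ := by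
    refine ⟨fun v => ?_⟩
    obtain ⟨j, hj, n, hn, hgn⟩ := Set.mem_iUnion₂.1 (ht v.2)
    refine ⟨(Sigma.ι (fun j : t => ((N j.1 : V'.Opens) : Scheme.{u})) ⟨j, hj⟩) ⟨n, hn⟩, ?_⟩
    apply V₀.ι.injective
    rw [← Scheme.Hom.comp_apply, hg₀, Scheme.Hom.comp_apply, hkι]
    exact hgn
  -- the pullback squares
  have sqR := isPullback_morphismRestrict h V₀
  have hcond : (pullback.snd h (k ≫ g) ≫ g₀) ≫ V₀.ι = pullback.fst h (k ≫ g) ≫ h := by
    rw [Category.assoc, hg₀]; exact (pullback.condition).symm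
  have sq1 : IsPullback (sqR.lift (pullback.snd h (k ≫ g) ≫ g₀) (pullback.fst h (k ≫ g)) hcond)
      (pullback.snd h (k ≫ g)) (h ∣_ V₀) g₀ := by
    refine IsPullback.of_right ?_ (sqR.lift_fst _ _ _) sqR.flip
    rw [sqR.lift_snd, hg₀]
    exact IsPullback.of_hasPullback h (k ≫ g)
  have hcond2 : pullback.fst h (k ≫ g) ≫ h = (pullback.snd h (k ≫ g) ≫ k) ≫ g := by
    rw [Category.assoc]; exact pullback.condition
  have sq2 : IsPullback (pullback.lift (pullback.fst h (k ≫ g)) (pullback.snd h (k ≫ g) ≫ k) hcond2)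
      (pullback.snd h (k ≫ g)) (pullback.snd h g) k := by
    refine IsPullback.of_right ?_ (pullback.lift_snd _ _ _) (IsPullback.of_hasPullback h g)
    rw [pullback.lift_fst]
    exact IsPullback.of_hasPullback h (k ≫ g)
  have h1 : ∀ z, Synt.IsKoszulAt (pullback.snd h (k ≫ g)) z :=
    Groth.Agent.S8658.result (pullback.snd h g) k _ _ sq2 H
  have h2 : ∀ z, Synt.IsKoszulAt (h ∣_ V₀) z :=
    Groth.Agent.S8662.result (h ∣_ V₀) g₀ _ _ sq1 h1
  have h3 : ∀ z, Synt.IsKoszulAt ((h ⁻¹ᵁ V₀).ι ≫ h) z := by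
    rw [← morphismRestrict_ι]
    exact LciMor2.isKoszulAt_comp _ _ h2 (fun y => RootLCI2.isKoszulAt_of_smooth _ y)
  exact isKoszulAt_of_ι_comp h (h ⁻¹ᵁ V₀) ⟨x, hxV₀⟩ (h3 _)

end Groth.Agent.Lib.Helper98.LciLocal
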