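import Mathlib.RingTheory.RegularLocalRing.Defs
import Mathlib.RingTheory.Ideal.KrullsHeightTheorem
import Mathlib.RingTheory.LocalRing.Quotient
import Mathlib.RingTheory.Nakayama
import Mathlib.LinearAlgebra.FiniteDimensional.Lemmas
import Mathlib.LinearAlgebra.Basis.VectorSpace
import Mathlib.Algebra.Module.SpanRankOperations
import Groth.Agent.S19448

/-!
# Regularity of the fixed locus of a tame finite group action on a regular local ring

Helper library for S19445.
-/

set_option autoImplicit false
universe u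

namespace Groth.Agent.Lib.Helper98.FixedReg

open IsLocalRing

section Q

variable {A : Type*} [CommRing A]

/-- If `I ≤ 𝔪` is a proper ideal of a local ring then `A ⧸ I` is local with maximal ideal the image
of `𝔪`. -/
theorem isLocalRing_quotient [IsLocalRing A] (I : Ideal A) (hI : I ≤ maximalIdeal A) :
    IsLocalRing (A ⧸ I) := by
  have hne : I ≠ ⊤ := ne_top_of_le_ne_top (maximalIdeal.isMaximal A).ne_top hI
  have : Nontrivial (A ⧸ I) := Ideal.Quotient.nontrivial_iff.mpr hne
  exact IsLocalRing.of_surjective' (Ideal.Quotient.mk I) Ideal.Quotient.mk_surjective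

theorem map_mk_maximalIdeal [IsLocalRing A] (I : Ideal A) (hI : I ≤ maximalIdeal A)
    [IsLocalRing (A ⧸ I)] :
    (maximalIdeal A).map (Ideal.Quotient.mk I) = maximalIdeal (A ⧸ I) := by
  have hne : I ≠ ⊤ := ne_top_of_le_ne_top (maximalIdeal.isMaximal A).ne_top hI
  have := IsLocalHom.of_surjective (Ideal.Quotient.mk I) Ideal.Quotient.mk_surjective
  ext x
  obtain ⟨x, rfl⟩ := Ideal.Quotient.mk_surjective x
  simp [sup_eq_left.mpr (le_maximalIdeal hne)]

theorem mk_mem_maximalIdeal_iff [IsLocalRing A] (I : Ideal A)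
    [IsLocalRing (A ⧸ I)] (a : A) :
    Ideal.Quotient.mk I a ∈ maximalIdeal (A ⧸ I) ↔ a ∈ maximalIdeal A := by
  have := IsLocalHom.of_surjective (Ideal.Quotient.mk I) Ideal.Quotient.mk_surjective
  simp

/-- **Quotient of a regular local ring by part of a regular system of parameters**, in a
basis-free form: if `I₁ ⊔ I₂ = 𝔪` and the minimal numbers of generators of `I₁` and `I₂` add up
to at most `dim A`, then `A ⧸ I₁` is regular. -/
theorem isRegularLocalRing_quotient_of_sup [IsRegularLocalRing A] (I₁ I₂ : Ideal A)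
    (hsup : I₁ ⊔ I₂ = maximalIdeal A)
    (hle : I₁.spanFinrank + I₂.spanFinrank ≤ (maximalIdeal A).spanFinrank) :
    IsRegularLocalRing (A ⧸ I₁) := by
  have hI₁ : I₁ ≤ maximalIdeal A := hsup ▸ le_sup_left
  have := isLocalRing_quotient I₁ hI₁
  apply IsRegularLocalRing.of_spanFinrank_maximalIdeal_le
  have hmax : maximalIdeal (A ⧸ I₁) = I₂.map (Ideal.Quotient.mk I₁) := by
    rw [← map_mk_maximalIdeal I₁ hI₁, ← hsup, Ideal.map_sup, Ideal.map_quotient_self, bot_sup_eq]
  have h1 : (maximalIdeal (A ⧸ I₁)).spanFinrank ≤ I₂.spanFinrank :=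
    hmax ▸ Ideal.spanFinrank_map_le_of_fg _ (IsNoetherian.noetherian I₂)
  have h2 := ringKrullDim_le_ringKrullDim_quotient_add_spanFinrank I₁
    (by rw [IsLocalRing.ringJacobson_eq_maximalIdeal]; exact hI₁)
  have h3 : ((maximalIdeal A).spanFinrank : WithBot ℕ∞) = ringKrullDim A :=
    IsRegularLocalRing.spanFinrank_maximalIdeal
  obtain ⟨n, hn⟩ : ∃ n : ℕ∞, ringKrullDim (A ⧸ I₁) = n :=
    ⟨_, (WithBot.coe_unbot _ (ringKrullDim_ne_bot)).symm⟩
  rw [hn] at h2 ⊢
  rw [← h3] at h2
  have h4 : ((maximalIdeal A).spanFinrank : ℕ∞) ≤ n + I₁.spanFinrank := by exact_mod_cast h2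
  have h5 : (I₂.spanFinrank : ℕ∞) ≤ n := by
    have h6 : ((I₁.spanFinrank + I₂.spanFinrank : ℕ) : ℕ∞) ≤ n + I₁.spanFinrank :=
      le_trans (by exact_mod_cast hle) h4
    rw [Nat.cast_add, add_comm] at h6
    exact (ENat.add_le_add_iff_right (ENat.natCast_ne_top _)).mp h6
  calc ((maximalIdeal (A ⧸ I₁)).spanFinrank : WithBot ℕ∞) ≤ (I₂.spanFinrank : WithBot ℕ∞) := by
        exact_mod_cast h1
    _ ≤ (n : WithBot ℕ∞) := by exact_mod_cast h5

end Q

section Action

variable {A : Type*} [CommRing A] [IsLocalRing A] {G : Type*} [Group G] [MulSemiringAction G A]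

theorem smul_mem_maximalIdeal (g : G) {a : A} (ha : a ∈ maximalIdeal A) :
    g • a ∈ maximalIdeal A := by
  rw [mem_maximalIdeal, mem_nonunits_iff] at ha ⊢
  intro h
  apply ha
  have := IsUnit.map (MulSemiringAction.toRingHom G A g⁻¹) h
  simpa using this

theorem smul_mem_pow (g : G) (n : ℕ) {a : A} (ha : a ∈ maximalIdeal A ^ n) :
    g • a ∈ maximalIdeal A ^ n := by
  have h1 : (maximalIdeal A).map (MulSemiringAction.toRingHom G A g) ≤ maximalIdeal A := by
    rw [Ideal.map_le_iff_le_comap]
    intro x hx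
    exact smul_mem_maximalIdeal g hx
  have h2 := Ideal.mem_map_of_mem (MulSemiringAction.toRingHom G A g) ha
  rw [Ideal.map_pow] at h2
  exact Ideal.pow_right_mono h1 n h2

end Action

section QuotAction

variable {A : Type*} [CommRing A] {G : Type*} [Group G] [MulSemiringAction G A]
  (I : Ideal A) (hI : ∀ (g : G), ∀ a ∈ I, g • a ∈ I)

/-- The action induced on the quotient by a stable ideal. -/
@[reducible] noncomputable def quotAction : MulSemiringAction G (A ⧸ I) where
  smul g := Ideal.Quotient.lift I
    ((Ideal.Quotient.mk I).comp (MulSemiringAction.toRingHom G A g))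
    (fun a ha => by
      simp only [RingHom.comp_apply, MulSemiringAction.toRingHom_apply]
      exact Ideal.Quotient.eq_zero_iff_mem.mpr (hI g a ha))
  one_smul x := by
    obtain ⟨a, rfl⟩ := Ideal.Quotient.mk_surjective x
    change Ideal.Quotient.lift I _ _ _ = _
    simp
  mul_smul g h x := by
    obtain ⟨a, rfl⟩ := Ideal.Quotient.mk_surjective x
    change Ideal.Quotient.lift I _ _ _ = Ideal.Quotient.lift I _ _ (Ideal.Quotient.lift I _ _ _)
    simp [mul_smul]
  smul_zero g := map_zero _
  smul_add g x y := map_add _ x y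
  smul_one g := map_one _
  smul_mul g x y := map_mul _ x y

theorem quotAction_mk (g : G) (a : A) :
    letI := quotAction I hI
    g • (Ideal.Quotient.mk I a) = Ideal.Quotient.mk I (g • a) := rfl

end QuotAction

section Stable

variable {k : Type u} [Field k] {A : Type u} [CommRing A] [Algebra k A] [IsLocalRing A]

theorem exists_sub_mem (hres : Function.Surjective (algebraMap k (ResidueField A))) (a : A) :
    ∃ c : k, a - algebraMap k A c ∈ maximalIdeal A := by
  obtain ⟨c, hc⟩ := hres (residue A a)
  refine ⟨c, ?_⟩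
  rw [← IsLocalRing.residue_eq_zero_iff, map_sub, ← hc]
  rw [IsScalarTower.algebraMap_apply k A (ResidueField A)]
  simp [IsLocalRing.ResidueField.algebraMap_eq]

variable [IsNoetherianRing A]
  {G : Type u} [Group G] [Finite G] [MulSemiringAction G A] [SMulCommClass G k A]

/-- A generalisation of S19448 to stable ideals: if `G` acts trivially on the cotangent space of
`A ⧸ I` for a `G`-stable ideal `I`, then it acts trivially on `A ⧸ I`. -/
theorem smul_sub_mem_of_stable
    (hres : Function.Surjective (algebraMap k (ResidueField A)))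
    (hG : (Nat.card G : k) ≠ 0)
    (I : Ideal A) (hIM : I ≤ maximalIdeal A) (hI : ∀ (g : G), ∀ a ∈ I, g • a ∈ I)
    (hcot : ∀ (g : G), ∀ a ∈ maximalIdeal A, g • a - a ∈ I ⊔ maximalIdeal A ^ 2)
    (g : G) (a : A) : g • a - a ∈ I := by
  let _ : MulSemiringAction G (A ⧸ I) := quotAction I hI
  have hsmul : ∀ (h : G) (b : A),
      h • (Ideal.Quotient.mk I b) = Ideal.Quotient.mk I (h • b) := fun _ _ => rfl
  have hksmul : ∀ (c : k) (b : A),
      c • (Ideal.Quotient.mk I b) = Ideal.Quotient.mk I (c • b) := fun _ _ => rfl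
  have : SMulCommClass G k (A ⧸ I) := ⟨fun h c x => by
    obtain ⟨b, rfl⟩ := Ideal.Quotient.mk_surjective x
    rw [hksmul, hsmul, hsmul, hksmul, smul_comm]⟩
  have : IsLocalRing (A ⧸ I) := isLocalRing_quotient I hIM
  have hres' : Function.Surjective (algebraMap k (ResidueField (A ⧸ I))) := by
    intro x
    obtain ⟨y, rfl⟩ := IsLocalRing.residue_surjective x
    obtain ⟨b, rfl⟩ := Ideal.Quotient.mk_surjective y
    obtain ⟨c, hc⟩ := exists_sub_mem hres b
    refine ⟨c, ?_⟩
    rw [IsScalarTower.algebraMap_apply k (A ⧸ I) (ResidueField (A ⧸ I)),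
      IsLocalRing.ResidueField.algebraMap_eq]
    symm
    rw [← sub_eq_zero, ← map_sub, IsLocalRing.residue_eq_zero_iff]
    have : Ideal.Quotient.mk I b - algebraMap k (A ⧸ I) c
        = Ideal.Quotient.mk I (b - algebraMap k A c) := by
      rw [map_sub]; rfl
    rw [this, mk_mem_maximalIdeal_iff]
    exact hc
  have hg' : ∀ x ∈ maximalIdeal (A ⧸ I), g • x - x ∈ maximalIdeal (A ⧸ I) ^ 2 := by
    intro x hx
    obtain ⟨b, rfl⟩ := Ideal.Quotient.mk_surjective x
    rw [mk_mem_maximalIdeal_iff] at hx
    obtain ⟨i, hi, m, hm, him⟩ := Submodule.mem_sup.mp (hcot g b hx)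
    rw [hsmul, ← map_sub, ← him, map_add, Ideal.Quotient.eq_zero_iff_mem.mpr hi, zero_add,
      ← map_mk_maximalIdeal I hIM, ← Ideal.map_pow]
    exact Ideal.mem_map_of_mem _ hm
  have key := Groth.Agent.S19448.result k (A ⧸ I) hres' G hG g hg' (Ideal.Quotient.mk I a)
  rw [hsmul, Ideal.Quotient.eq] at key
  exact key

end Stable

section Avg

variable {k : Type*} [Field k] {A : Type*} [CommRing A] [Algebra k A] [IsLocalRing A]
  (G : Type*) [Group G] [MulSemiringAction G A] [SMulCommClass G k A]

/-- Averaging a `k`-linear endomorphism over a finite group acting by `k`-algebra maps. -/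
noncomputable def avgProj [Fintype G] (p₀ : A →ₗ[k] A) : A →ₗ[k] A :=
  ((Fintype.card G : k)⁻¹) • ∑ g : G,
    (DistribSMul.toLinearMap k A g⁻¹) ∘ₗ p₀ ∘ₗ (DistribSMul.toLinearMap k A g)

omit [IsLocalRing A] in
theorem avgProj_apply [Fintype G] (p₀ : A →ₗ[k] A) (x : A) :
    avgProj G p₀ x = (Fintype.card G : k)⁻¹ • ∑ g : G, g⁻¹ • p₀ (g • x) := by
  simp [avgProj, LinearMap.sum_apply, DistribSMul.toLinearMap_apply]

omit [IsLocalRing A] in
theorem avgProj_smul [Fintype G] (p₀ : A →ₗ[k] A) (h : G) (x : A) :
    avgProj G p₀ (h • x) = h • avgProj G p₀ x := by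
  rw [avgProj_apply, avgProj_apply, smul_comm h ((Fintype.card G : k)⁻¹)]
  congr 1
  rw [Finset.smul_sum]
  refine Fintype.sum_equiv (Equiv.mulRight h) (fun g : G => g⁻¹ • p₀ (g • h • x))
    (fun g : G => h • g⁻¹ • p₀ (g • x)) (fun g => ?_)
  change g⁻¹ • p₀ (g • h • x) = h • (g * h)⁻¹ • p₀ ((g * h) • x)
  rw [mul_smul, mul_inv_rev, mul_smul, smul_inv_smul]

/-- There is a `G`-equivariant `k`-linear projection of `A` onto `𝔪 ^ 2`. -/
theorem exists_equivariant_proj [Finite G] (hG : (Nat.card G : k) ≠ 0) :
    ∃ p : A →ₗ[k] A, (∀ x, p x ∈ maximalIdeal A ^ 2) ∧ (∀ x ∈ maximalIdeal A ^ 2, p x = x) ∧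
      ∀ (g : G) (x : A), p (g • x) = g • p x := by
  cases nonempty_fintype G
  rw [Nat.card_eq_fintype_card] at hG
  let N : Submodule k A := (maximalIdeal A ^ 2).restrictScalars k
  obtain ⟨f, hf⟩ := LinearMap.exists_leftInverse_of_injective N.subtype (Submodule.ker_subtype N)
  let p₀ : A →ₗ[k] A := N.subtype ∘ₗ f
  have hp₀1 : ∀ x, p₀ x ∈ maximalIdeal A ^ 2 := fun x => (f x).2
  have hp₀2 : ∀ x ∈ maximalIdeal A ^ 2, p₀ x = x := fun x hx => by
    have := LinearMap.congr_fun hf ⟨x, hx⟩
    simpa [p₀] using congrArg Subtype.val this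
  refine ⟨avgProj G p₀, ?_, ?_, avgProj_smul G p₀⟩
  · intro x
    rw [avgProj_apply]
    change _ ∈ N
    refine N.smul_mem _ (N.sum_mem fun g _ => ?_)
    exact smul_mem_pow g⁻¹ 2 (hp₀1 _)
  · intro x hx
    rw [avgProj_apply]
    have : ∀ g : G, g⁻¹ • p₀ (g • x) = x := fun g => by
      rw [hp₀2 _ (smul_mem_pow g 2 hx), inv_smul_smul]
    simp only [this, Finset.sum_const, Finset.card_univ]
    rw [← Nat.cast_smul_eq_nsmul k, smul_smul, inv_mul_cancel₀ hG, one_smul]

end Avg

section Main

/-- The ideal generated by a finite-dimensional `k`-subspace needs at most `dim_k` generators. -/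
theorem spanFinrank_span_le_finrank {k A : Type*} [Field k] [CommRing A] [Algebra k A]
    (U : Submodule k A) [FiniteDimensional k U] :
    (Ideal.span (U : Set A)).spanFinrank ≤ Module.finrank k U := by
  classical
  let b := Module.finBasis k U
  let s : Finset A := Finset.univ.image (fun i => (b i : A))
  have hU : U ≤ Submodule.span k (s : Set A) := by
    intro x hx
    have h1 : (⟨x, hx⟩ : U) ∈ Submodule.span k (Set.range b) := by rw [b.span_eq]; trivial
    have h2 := Submodule.mem_map_of_mem (f := U.subtype) h1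
    rw [Submodule.map_span, ← Set.range_comp] at h2
    have h3 : (s : Set A) = Set.range (U.subtype ∘ b) := by
      ext y; simp [s]
    rw [h3]
    exact h2
  have hI : Ideal.span (U : Set A) = Ideal.span (s : Set A) := by
    apply le_antisymm
    · rw [Ideal.span_le]
      intro x hx
      exact Submodule.span_le_restrictScalars k A (s : Set A) (hU hx)
    · apply Ideal.span_mono
      intro y hy
      simp only [s, Finset.coe_image, Finset.coe_univ, Set.image_univ, Set.mem_range] at hy
      obtain ⟨i, rfl⟩ := hy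
      exact (b i).2
  rw [hI]
  calc (Ideal.span (s : Set A)).spanFinrank ≤ (s : Set A).ncard :=
        Submodule.spanFinrank_span_le_ncard_of_finite s.finite_toSet
    _ = s.card := Set.ncard_coe_finset s
    _ ≤ (Finset.univ : Finset (Fin (Module.finrank k U))).card := Finset.card_image_le
    _ = Module.finrank k U := by simp

variable {k : Type u} [Field k] {A : Type u} [CommRing A] [Algebra k A] [IsRegularLocalRing A]
  {G : Type u} [Group G] [Finite G] [MulSemiringAction G A] [SMulCommClass G k A]

/-- **Smoothness of the fixed locus** (local form). -/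
theorem isRegularLocalRing_quotient_coinvariant
    (hres : Function.Surjective (algebraMap k (ResidueField A)))
    (hG : (Nat.card G : k) ≠ 0) :
    IsRegularLocalRing (A ⧸ Ideal.span {x : A | ∃ (g : G) (a : A), x = g • a - a}) := by
  obtain ⟨p, hp1, hp2, hp3⟩ := exists_equivariant_proj (k := k) (A := A) G hG
  have hM2 : maximalIdeal A ^ 2 ≤ maximalIdeal A := Ideal.pow_le_self two_ne_zero
  -- the `G`-stable complement of `𝔪 ^ 2` in `𝔪`
  let W : Submodule k A := LinearMap.ker p ⊓ (maximalIdeal A).restrictScalars k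
  have hWM : ∀ w ∈ W, w ∈ maximalIdeal A := fun w hw => hw.2
  have hWp : ∀ w ∈ W, p w = 0 := fun w hw => hw.1
  have hWG : ∀ (g : G), ∀ w ∈ W, g • w ∈ W := fun g w hw =>
    ⟨by change p (g • w) = 0; rw [hp3, hWp w hw, smul_zero],
      smul_mem_maximalIdeal g (hWM w hw)⟩
  have hdec : ∀ m ∈ maximalIdeal A, m - p m ∈ W := fun m hm =>
    ⟨by change p (m - p m) = 0; rw [map_sub, hp2 _ (hp1 m), sub_self],
      (maximalIdeal A).sub_mem hm (hM2 (hp1 m))⟩
  -- generators of the ideal
  let S : Set A := {x | ∃ (g : G), ∃ w ∈ W, x = g • w - w}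
  have hSW : S ⊆ W := by
    rintro _ ⟨g, w, hw, rfl⟩
    exact W.sub_mem (hWG g w hw) hw
  let W' : Submodule k A := Submodule.span k S
  have hW'W : W' ≤ W := Submodule.span_le.mpr hSW
  have hIS : Ideal.span (W' : Set A) = Ideal.span S := by
    apply le_antisymm
    · rw [Ideal.span_le]
      intro x hx
      exact Submodule.span_le_restrictScalars k A S hx
    · exact Ideal.span_mono Submodule.subset_span
  have hIG : ∀ (g : G), ∀ a ∈ Ideal.span S, g • a ∈ Ideal.span S := by
    intro g a ha
    have h1 : (Ideal.span S).map (MulSemiringAction.toRingHom G A g) ≤ Ideal.span S := by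
      rw [Ideal.map_span, Ideal.span_le]
      rintro _ ⟨_, ⟨h, w, hw, rfl⟩, rfl⟩
      apply Ideal.subset_span
      refine ⟨g * h * g⁻¹, g • w, hWG g w hw, ?_⟩
      simp [smul_sub, mul_smul]
    exact h1 (Ideal.mem_map_of_mem _ ha)
  have hIM : Ideal.span S ≤ maximalIdeal A := Ideal.span_le.mpr (fun x hx => hWM x (hSW hx))
  have hcot : ∀ (g : G), ∀ a ∈ maximalIdeal A,
      g • a - a ∈ Ideal.span S ⊔ maximalIdeal A ^ 2 := by
    intro g a ha
    have : g • a - a = (g • (a - p a) - (a - p a)) + (g • p a - p a) := by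
      rw [smul_sub]; ring
    rw [this]
    exact Submodule.add_mem_sup (Ideal.subset_span ⟨g, _, hdec a ha, rfl⟩)
      (Ideal.sub_mem _ (smul_mem_pow g 2 (hp1 a)) (hp1 a))
  have hJ : Ideal.span {x : A | ∃ (g : G) (a : A), x = g • a - a}
      = Ideal.span (W' : Set A) := by
    rw [hIS]
    apply le_antisymm
    · rw [Ideal.span_le]
      rintro _ ⟨g, a, rfl⟩
      exact smul_sub_mem_of_stable hres hG _ hIM hIG hcot g a
    · apply Ideal.span_mono
      rintro _ ⟨g, w, _, rfl⟩
      exact ⟨g, w, rfl⟩
  rw [hJ]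
  -- finiteness of `W`
  have hfg : (maximalIdeal A).FG := IsNoetherian.noetherian _
  have hgfin : (maximalIdeal A).generators.Finite :=
    Submodule.FG.finite_generators hfg
  have hgcard : (maximalIdeal A).generators.ncard = (maximalIdeal A).spanFinrank :=
    Submodule.FG.generators_ncard hfg
  have hgspan : Submodule.span A (maximalIdeal A).generators = maximalIdeal A :=
    (maximalIdeal A).span_generators
  let U : Submodule k A := Submodule.span k (maximalIdeal A).generators
  have hUM : ∀ u ∈ U, u ∈ maximalIdeal A := by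
    have : U ≤ (maximalIdeal A).restrictScalars k := by
      rw [Submodule.span_le]
      intro x hx
      have : x ∈ Submodule.span A (maximalIdeal A).generators := Submodule.subset_span hx
      rw [hgspan] at this
      exact this
    exact fun u hu => this hu
  have hMU : ∀ m ∈ maximalIdeal A, m ∈ U ⊔ (maximalIdeal A ^ 2).restrictScalars k := by
    intro m hm
    rw [← hgspan] at hm
    refine Submodule.span_induction ?_ ?_ ?_ ?_ hm
    · intro x hx
      exact Submodule.mem_sup_left (Submodule.subset_span hx)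
    · exact zero_mem _
    · intro x y _ _ hx hy
      exact add_mem hx hy
    · intro a x _ hx
      obtain ⟨u, hu, v, hv, rfl⟩ := Submodule.mem_sup.mp hx
      obtain ⟨c, hc⟩ := exists_sub_mem hres a
      have : a • (u + v) = c • u + ((a - algebraMap k A c) * u + a * v) := by
        rw [smul_eq_mul, Algebra.smul_def]; ring
      rw [this]
      refine Submodule.add_mem_sup (U.smul_mem c hu) ?_
      change _ ∈ maximalIdeal A ^ 2
      refine Ideal.add_mem _ ?_ (Ideal.mul_mem_left _ a hv)
      rw [pow_two]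
      exact Ideal.mul_mem_mul hc (hUM u hu)
  have hWle : W ≤ U.map (LinearMap.id - p) := by
    intro w hw
    obtain ⟨u, hu, v, hv, huv⟩ := Submodule.mem_sup.mp (hMU w (hWM w hw))
    refine ⟨u, hu, ?_⟩
    have h1 : p w = 0 := hWp w hw
    rw [← huv, map_add, hp2 v hv] at h1
    simp only [LinearMap.sub_apply, LinearMap.id_apply]
    rw [← huv]
    linear_combination (-1 : A) * h1
  let T : Finset A := (hgfin.image (LinearMap.id - p : A →ₗ[k] A)).toFinset
  have hT : (T : Set A) = (LinearMap.id - p : A →ₗ[k] A) '' (maximalIdeal A).generators :=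
    Set.Finite.coe_toFinset _
  have hmap : U.map (LinearMap.id - p) = Submodule.span k (T : Set A) := by
    rw [hT]
    exact Submodule.map_span _ _
  have hfinmap : FiniteDimensional k (U.map (LinearMap.id - p)) := by
    rw [hmap]
    exact FiniteDimensional.span_finset k _
  have hWfin : FiniteDimensional k W := Submodule.finiteDimensional_of_le hWle
  have hWrank : Module.finrank k W ≤ (maximalIdeal A).spanFinrank := by
    calc Module.finrank k W ≤ Module.finrank k (U.map (LinearMap.id - p)) :=
          Submodule.finrank_mono hWle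
      _ = Module.finrank k (Submodule.span k (T : Set A)) := by
          rw [hmap]
      _ ≤ T.card := finrank_span_finset_le_card _
      _ = ((LinearMap.id - p : A →ₗ[k] A) '' (maximalIdeal A).generators).ncard := by
          rw [← hT, Set.ncard_coe_finset]
      _ ≤ (maximalIdeal A).generators.ncard := Set.ncard_image_le hgfin
      _ = (maximalIdeal A).spanFinrank := hgcard
  -- split `W = W' ⊕ W''`
  obtain ⟨C, hC⟩ := Submodule.exists_isCompl W'
  let W'' : Submodule k A := C ⊓ W
  have hsupW : W' ⊔ W'' = W := by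
    rw [← sup_inf_assoc_of_le C hW'W, hC.sup_eq_top, top_inf_eq]
  have hinfW : W' ⊓ W'' = ⊥ := by
    rw [← inf_assoc, hC.inf_eq_bot, bot_inf_eq]
  have hW'fin : FiniteDimensional k W' := Submodule.finiteDimensional_of_le hW'W
  have hW''fin : FiniteDimensional k W'' := Submodule.finiteDimensional_of_le inf_le_right
  have hranks : Module.finrank k W' + Module.finrank k W'' = Module.finrank k W := by
    have := Submodule.finrank_sup_add_finrank_inf_eq W' W''
    rw [hsupW, hinfW, finrank_bot, add_zero] at this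
    exact this.symm
  apply isRegularLocalRing_quotient_of_sup (Ideal.span (W' : Set A)) (Ideal.span (W'' : Set A))
  · apply le_antisymm
    · rw [sup_le_iff, Ideal.span_le, Ideal.span_le]
      exact ⟨fun x hx => hWM x (hW'W hx), fun x hx => hWM x hx.2⟩
    · rw [← Ideal.span_union]
      have hWsub : ∀ w ∈ W, w ∈ Ideal.span ((W' : Set A) ∪ W'') := by
        intro w hw
        rw [← hsupW] at hw
        obtain ⟨a, ha, b, hb, rfl⟩ := Submodule.mem_sup.mp hw
        exact Ideal.add_mem _ (Ideal.subset_span (Or.inl ha)) (Ideal.subset_span (Or.inr hb))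
      apply Submodule.le_of_le_smul_of_le_jacobson_bot hfg
        (IsLocalRing.maximalIdeal_le_jacobson ⊥)
      intro m hm
      have : m = (m - p m) + p m := by ring
      rw [this]
      refine Submodule.add_mem_sup (hWsub _ (hdec m hm)) ?_
      rw [smul_eq_mul, ← pow_two]
      exact hp1 m
  · calc (Ideal.span (W' : Set A)).spanFinrank + (Ideal.span (W'' : Set A)).spanFinrank
        ≤ Module.finrank k W' + Module.finrank k W'' :=
          add_le_add (spanFinrank_span_le_finrank W') (spanFinrank_span_le_finrank W'')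
      _ = Module.finrank k W := hranks
      _ ≤ (maximalIdeal A).spanFinrank := hWrank

end Main

end Groth.Agent.Lib.Helper98.FixedReg
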