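import Groth.Agent.S0427
import Groth.Agent.Lib.Helper37.Hz31
import Groth.Agent.Lib.Helper37.Hz11
import Groth.Agent.Lib.Helper4.FlatDiag
import Groth.Agent.Lib.Helper3.WeaklyEtaleDescent
import Groth.Agent.Lib.Helper10.WEField

/-!
# Weakly étale local homomorphisms and strict henselizations

* `isStrictHenselization_of_bijective`: transport of the strict henselization property along a
  bijective ring map of the targets.
* `isStrictHenselization_of_weaklyEtale`: if `A → B` is a weakly étale local homomorphism and `R` is
  a strict henselization of `B`, then `R` is a strict henselization of `A`.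
* `weaklyEtale_of_isStrictHenselization_tower`: conversely, if a strict henselization `R` of `B` is
  also (via the composite) a strict henselization of `A`, then `A → B` is weakly étale.
-/

set_option autoImplicit false
universe u

namespace Groth.Agent.Lib.Helper98.WEStrictHens

open IsLocalRing

/-- Transport of the strict henselization property along a bijection. -/
theorem isStrictHenselization_of_bijective (A S R : Type u) [CommRing A] [IsLocalRing A]
    [CommRing S] [IsLocalRing S] [Algebra A S] [IsLocalHom (algebraMap A S)]
    [CommRing R] [IsLocalRing R] [Algebra A R] [IsLocalHom (algebraMap A R)]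
    [hS : Hensel.IsStrictHenselization A S] [hR : HenselianLocalRing R]
    [hsc : IsSepClosure (ResidueField A) (ResidueField R)]
    (g : S →+* R) [IsLocalHom g] (hbij : Function.Bijective g)
    (hg : g.comp (algebraMap A S) = algebraMap A R) :
    Hensel.IsStrictHenselization A R where
  henselian := hR
  isSepClosure := hsc
  universal T _ _ f _ τ hτ := by
    let e : S ≃+* R := RingEquiv.ofBijective g hbij
    have he : ∀ s, e s = g s := fun s => rfl
    have hga : ∀ a, g (algebraMap A S a) = algebraMap A R a := fun a => RingHom.congr_fun hg a
    let τS : ResidueField S →+* ResidueField T := τ.comp (ResidueField.map g)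
    have hτS : τS.comp (ResidueField.map (algebraMap A S)) = ResidueField.map f := by
      ext z
      obtain ⟨a, rfl⟩ := residue_surjective z
      have h1 := RingHom.congr_fun hτ (residue A a)
      simp only [τS, RingHom.comp_apply, ResidueField.map_residue] at h1 ⊢
      rw [hga, h1]
    obtain ⟨k, ⟨hk1, hk2⟩, hku⟩ := hS.universal T f τS hτS
    refine ⟨k.comp (e.symm : R →+* S), ⟨?_, ?_⟩, ?_⟩
    · ext a
      have h2 : e.symm (algebraMap A R a) = algebraMap A S a := by
        rw [RingEquiv.symm_apply_eq, he, hga]
      simp only [RingHom.comp_apply, RingHom.coe_coe, h2]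
      exact RingHom.congr_fun hk1 a
    · intro x
      simp only [RingHom.comp_apply, RingHom.coe_coe]
      rw [hk2]
      simp only [τS, RingHom.comp_apply, ResidueField.map_residue]
      rw [← he, RingEquiv.apply_symm_apply]
    · rintro g' ⟨hg'1, hg'2⟩
      have hk' : g'.comp g = k := by
        apply hku
        refine ⟨?_, ?_⟩
        · rw [RingHom.comp_assoc, hg, hg'1]
        · intro s
          simp only [RingHom.comp_apply]
          rw [hg'2]
          simp only [τS, RingHom.comp_apply, ResidueField.map_residue]
      ext x
      simp only [RingHom.comp_apply, RingHom.coe_coe]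
      rw [← hk']
      simp only [RingHom.comp_apply]
      rw [← he, RingEquiv.apply_symm_apply]

/-- Core statement, with an arbitrary strict henselization `S` of `A`. -/
theorem isStrictHenselization_of_weaklyEtale_aux (A B R S : Type u) [CommRing A] [IsLocalRing A]
    [CommRing B] [IsLocalRing B] [CommRing R] [IsLocalRing R] [CommRing S] [IsLocalRing S]
    [Algebra A B] [IsLocalHom (algebraMap A B)] [Algebra.WeaklyEtale A B]
    [Algebra B R] [IsLocalHom (algebraMap B R)] [hR : Hensel.IsStrictHenselization B R]
    [Algebra A R] [IsScalarTower A B R] [IsLocalHom (algebraMap A R)]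
    [Algebra A S] [IsLocalHom (algebraMap A S)] [hS : Hensel.IsStrictHenselization A S] :
    Hensel.IsStrictHenselization A R := by
  have hhens : HenselianLocalRing R := hR.henselian
  have hsc : IsSepClosure (ResidueField B) (ResidueField R) := hR.isSepClosure
  have htow : IsScalarTower (ResidueField A) (ResidueField B) (ResidueField R) := by
    refine IsScalarTower.of_algebraMap_eq' ?_
    change ResidueField.map (algebraMap A R) =
      (ResidueField.map (algebraMap B R)).comp (ResidueField.map (algebraMap A B))
    rw [← ResidueField.map_comp]
    congr 1
    exact IsScalarTower.algebraMap_eq A B R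
  have hsepBA : Algebra.IsSeparable (ResidueField A) (ResidueField B) :=
    Groth.Agent.Lib.Helper10.WE.isSeparable_residueField_of_weaklyEtale A B
  have hsepRB : Algebra.IsSeparable (ResidueField B) (ResidueField R) := IsSepClosure.separable
  have hscA : IsSepClosure (ResidueField A) (ResidueField R) :=
    ⟨IsSepClosure.sep_closed (ResidueField B),
      Algebra.IsSeparable.trans (ResidueField A) (ResidueField B) (ResidueField R)⟩
  have hscS : IsSepClosure (ResidueField A) (ResidueField S) := hS.isSepClosure
  have hhensS : HenselianLocalRing S := hS.henselian
  let σ : ResidueField S ≃ₐ[ResidueField A] ResidueField R :=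
    IsSepClosure.equiv (ResidueField A) (ResidueField S) (ResidueField R)
  have hσ : (σ : ResidueField S →+* ResidueField R).comp
      (ResidueField.map (algebraMap A S)) = ResidueField.map (algebraMap A R) := by
    ext z
    exact σ.commutes z
  obtain ⟨g, ⟨hg1, hg2⟩, -⟩ :=
    hS.universal R (algebraMap A R) (σ : ResidueField S →+* ResidueField R) hσ
  have hgloc : IsLocalHom g := by
    constructor
    intro s hs
    rw [← residue_ne_zero_iff_isUnit] at hs ⊢
    intro h0
    apply hs
    rw [hg2, h0, map_zero]
  let _ : Algebra S R := g.toAlgebra
  have : IsLocalHom (algebraMap S R) := hgloc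
  have : IsScalarTower A S R := IsScalarTower.of_algebraMap_eq' hg1.symm
  have weAS : Algebra.WeaklyEtale A S :=
    Groth.Agent.Lib.Helper37.Hz.weaklyEtale_of_isStrictHenselization A S
  have weBR : Algebra.WeaklyEtale B R :=
    Groth.Agent.Lib.Helper37.Hz.weaklyEtale_of_isStrictHenselization B R
  have weAR : Algebra.WeaklyEtale A R := Algebra.WeaklyEtale.trans A B R
  have weSR : Algebra.WeaklyEtale S R :=
    Groth.Agent.Lib.Helper4.FlatDiag.weaklyEtale_of_weaklyEtale A S R
  have : IsSepClosed (ResidueField S) := IsSepClosure.sep_closed (ResidueField A)
  have hbij : Function.Bijective (algebraMap S R) := Groth.Agent.S0427.result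
  exact isStrictHenselization_of_bijective A S R g hbij hg1

/-- If `A → B` is a weakly étale local homomorphism of local rings and `R` is a strict
henselization of `B`, then `R` is a strict henselization of `A`. -/
theorem isStrictHenselization_of_weaklyEtale (A B R : Type u) [CommRing A] [IsLocalRing A]
    [CommRing B] [IsLocalRing B] [CommRing R] [IsLocalRing R]
    [Algebra A B] [IsLocalHom (algebraMap A B)] [Algebra.WeaklyEtale A B]
    [Algebra B R] [IsLocalHom (algebraMap B R)] [hR : Hensel.IsStrictHenselization B R]
    [Algebra A R] [IsScalarTower A B R] [IsLocalHom (algebraMap A R)] :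
    Hensel.IsStrictHenselization A R :=
  isStrictHenselization_of_weaklyEtale_aux A B R (Groth.Agent.Lib.Helper37.Hz.SHens A)

/-- Conversely: if a strict henselization `R` of `B` is a strict henselization of `A` via the
composite `A → B → R`, then `A → B` is weakly étale. -/
theorem weaklyEtale_of_isStrictHenselization_tower (A B R : Type u) [CommRing A] [IsLocalRing A]
    [CommRing B] [IsLocalRing B] [CommRing R] [IsLocalRing R]
    [Algebra A B] [Algebra B R] [IsLocalHom (algebraMap B R)]
    [hR : Hensel.IsStrictHenselization B R]
    [Algebra A R] [IsScalarTower A B R] [IsLocalHom (algebraMap A R)]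
    [hAR : Hensel.IsStrictHenselization A R] :
    Algebra.WeaklyEtale A B := by
  have weAR : Algebra.WeaklyEtale A R :=
    Groth.Agent.Lib.Helper37.Hz.weaklyEtale_of_isStrictHenselization A R
  have ffBR : Module.FaithfullyFlat B R :=
    Groth.Agent.Lib.Helper37.Hz.faithfullyFlat_of_isStrictHenselization B R
  exact Groth.Agent.Lib.Helper3.weaklyEtale_of_faithfullyFlat A B R

end Groth.Agent.Lib.Helper98.WEStrictHens
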