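import Groth.Agent.Lib.Proj.TwistAmple

set_option autoImplicit false
universe u
open CategoryTheory CategoryTheory.Limits AlgebraicGeometry TopologicalSpace Opposite TopCat

namespace Groth.Agent.Lib.Helper98.TwistGen

open Twist Groth.Agent.Lib.Proj

variable {R A : Type u} [CommRing R] [CommRing A] [Algebra R A] {𝒜 : ℕ → Submodule R A} [GradedAlgebra 𝒜]

/-- `O(n)` is ample if `Proj 𝒜` is covered by finitely many `D₊(f i)` with `f i` homogeneous of
positive degree `deg i`, and `n = e i * deg i` with `e i > 0` for all `i`. -/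
theorem isAmple_twist_of_cover {s : ℕ} (f : Fin s → A) (deg : Fin s → ℕ) (hdeg : ∀ i, 0 < deg i)
    (hf : ∀ i, f i ∈ 𝒜 (deg i))
    (hcov : ∀ x : Proj 𝒜, ∃ i, f i ∉ x.asHomogeneousIdeal)
    (n : ℕ) (e : Fin s → ℕ) (he : ∀ i, 0 < e i) (hn : ∀ i, e i * deg i = n) :
    CohB1.IsAmple (twist 𝒜 (n : ℤ)) := by
  have hg : ∀ i, f i ^ e i ∈ 𝒜 n := by
    intro i
    have := SetLike.pow_mem_graded (e i) (hf i)
    rw [smul_eq_mul, hn i] at this
    exact this
  have hD : ∀ i, Proj.basicOpen 𝒜 (f i ^ e i) = Proj.basicOpen 𝒜 (f i) := by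
    intro i
    ext y
    simp only [SetLike.mem_coe, Proj.mem_basicOpen]
    exact ⟨fun h hg => h (Ideal.pow_mem_of_mem _ hg _ (he i)),
      fun h hgn => h (y.isPrime.mem_of_pow_mem _ hgn)⟩
  have hunit : HasUnitFrac 𝒜 (n : ℤ) := by
    intro x
    obtain ⟨i, hi⟩ := hcov x
    refine ⟨n, 0, ⟨f i ^ e i, hg i⟩, one0 𝒜, ?_, one_not_mem x, by simp⟩
    rw [hD i]
    exact hi
  refine ⟨?_, ?_, fun x => ?_⟩
  · intro y
    obtain ⟨i, hi⟩ := hcov y
    have := nonempty_twist_mul_restrict_iso_unit' (⟨f i ^ e i, hg i⟩ : 𝒜 n) 1 _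
      (le_refl (Proj.basicOpen 𝒜 (f i ^ e i)))
    simp only [one_mul] at this
    refine ⟨Proj.basicOpen 𝒜 (f i ^ e i), ?_, this⟩
    rw [hD i]
    exact hi
  · rw [← isCompact_univ_iff]
    have h2 : (Set.univ : Set (Proj 𝒜)) = ⋃ i : Fin s, (Proj.basicOpen 𝒜 (f i) : Set (Proj 𝒜)) := by
      symm
      apply Set.eq_univ_of_forall
      intro x
      obtain ⟨i, hi⟩ := hcov x
      exact Set.mem_iUnion.mpr ⟨i, hi⟩
    rw [h2]
    exact isCompact_iUnion fun i => (Proj.isAffineOpen_basicOpen 𝒜 (f i) (hf i) (hdeg i)).isCompact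
  · obtain ⟨i, hi⟩ := hcov x
    let a : 𝒜 n := ⟨f i ^ e i, hg i⟩
    have hgl : CohB1.genLocus (CohB1.tensorPow (Twist.twist 𝒜 (n : ℤ)) (0 + 1))
        (CategoryTheory.CategoryStruct.comp (sectHom a)
          (Groth.Agent.Lib.QCoh.tensorPowOneIso (Twist.twist 𝒜 (n : ℤ))).symm.hom) =
        Proj.basicOpen 𝒜 (f i) := by
      rw [Groth.Agent.Lib.Ample.genLocus_comp_iso]
      exact (genLocus_sectHom a hunit).trans (hD i)
    refine ⟨0, CategoryTheory.CategoryStruct.comp (sectHom a)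
      (Groth.Agent.Lib.QCoh.tensorPowOneIso (Twist.twist 𝒜 (n : ℤ))).symm.hom, ?_, ?_⟩
    · rw [hgl]; exact hi
    · rw [hgl]; exact Proj.isAffineOpen_basicOpen 𝒜 (f i) (hf i) (hdeg i)

end Groth.Agent.Lib.Helper98.TwistGen
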