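import Mathlib

open AlgebraicGeometry CategoryTheory Limits TensorProduct

universe u

namespace Groth.Agent.Lib.Helper98.WESch

set_option backward.isDefEq.respectTransparency.types false in
theorem weaklyEtale_SpecMap_iff {R S : Type u} [CommRing R] [CommRing S] [Algebra R S] :
    WeaklyEtale (Spec.map (CommRingCat.ofHom (algebraMap R S))) ↔ Algebra.WeaklyEtale R S := by
  rw [weaklyEtale_iff, Algebra.weaklyEtale_iff]
  refine and_congr ?_ ?_
  · rw [HasRingHomProperty.Spec_iff (P := @Flat)]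
    exact RingHom.flat_algebraMap_iff
  · rw [diagonal_SpecMap R S, MorphismProperty.cancel_right_of_respectsIso (@Flat : MorphismProperty Scheme.{u}),
      HasRingHomProperty.Spec_iff (P := @Flat)]
    rfl

theorem weaklyEtale_SpecMap_iff' {R S : CommRingCat.{u}} (φ : R ⟶ S) :
    WeaklyEtale (Spec.map φ) ↔ (letI := φ.hom.toAlgebra; Algebra.WeaklyEtale R S) := by
  let _ := φ.hom.toAlgebra
  exact weaklyEtale_SpecMap_iff (R := R) (S := S)

theorem weaklyEtale_iff_appLE {X S : Scheme.{u}} (f : X ⟶ S) :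
    WeaklyEtale f ↔ ∀ (U : X.Opens) (V : S.Opens) (_ : IsAffineOpen U) (_ : IsAffineOpen V)
      (hUV : U ≤ f ⁻¹ᵁ V),
      (letI := (f.appLE V U hUV).hom.toAlgebra
       Algebra.WeaklyEtale Γ(S, V) Γ(X, U)) := by
  constructor
  · intro hf U V hU hV hUV
    rw [← weaklyEtale_SpecMap_iff' (f.appLE V U hUV)]
    have h1 : WeaklyEtale (Spec.map (f.appLE V U hUV) ≫ hV.fromSpec) := by
      rw [hV.SpecMap_appLE_fromSpec f hU hUV]
      infer_instance
    exact WeaklyEtale.of_comp (Spec.map (f.appLE V U hUV)) hV.fromSpec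
  · intro H
    let ι := {U : X.Opens // IsAffineOpen U ∧ ∃ V : S.Opens, IsAffineOpen V ∧ U ≤ f ⁻¹ᵁ V}
    apply IsZariskiLocalAtSource.of_iSup_eq_top (P := @WeaklyEtale) (fun U : ι => U.1)
    · rw [eq_top_iff]
      rintro x -
      obtain ⟨_, ⟨V, hV, rfl⟩, hxV, -⟩ :=
        S.isBasis_affineOpens.exists_subset_of_mem_open (Set.mem_univ (f.base x)) isOpen_univ
      obtain ⟨_, ⟨U, hU, rfl⟩, hxU, hUV⟩ :=
        X.isBasis_affineOpens.exists_subset_of_mem_open (show x ∈ (f ⁻¹ᵁ V : Set X) from hxV)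
          (f ⁻¹ᵁ V).2
      exact TopologicalSpace.Opens.mem_iSup.mpr ⟨⟨U, hU, V, hV, hUV⟩, hxU⟩
    · rintro ⟨U, hU, V, hV, hUV⟩
      have h0 := H U V hU hV hUV
      rw [← weaklyEtale_SpecMap_iff' (f.appLE V U hUV)] at h0
      have h1 : WeaklyEtale (Spec.map (f.appLE V U hUV) ≫ hV.fromSpec) := inferInstance
      rw [hV.SpecMap_appLE_fromSpec f hU hUV] at h1
      have h2 : U.ι ≫ f = hU.isoSpec.hom ≫ hU.fromSpec ≫ f := by
        rw [IsAffineOpen.fromSpec, Category.assoc, Iso.hom_inv_id_assoc]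
      show WeaklyEtale (U.ι ≫ f)
      rw [h2]
      infer_instance

end Groth.Agent.Lib.Helper98.WESch
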