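import Mathlib
import Groth.Agent.Lib.Helper10.WEField
import Groth.Agent.Lib.Helper98.WESch
import Groth.Agent.S1967

open TensorProduct

universe u

namespace Groth.Agent.Lib.Helper98.WERed

section Tensor

variable {A : Type*} [CommRing A] {B : Type*} [AddCommGroup B] [Module A B]

lemma tmul_eq_zero_of_mem_smul_top {Q : Type*} [AddCommGroup Q] [Module A Q] (I : Ideal A) (q : Q)
    (hq : ∀ c ∈ I, c • q = 0) {x : B} (hx : x ∈ I • (⊤ : Submodule A B)) :
    q ⊗ₜ[A] x = 0 := by
  refine Submodule.smul_induction_on hx ?_ ?_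
  · intro c hc u _
    rw [TensorProduct.tmul_smul, TensorProduct.smul_tmul', hq c hc, TensorProduct.zero_tmul]
  · intro x y hx hy
    rw [TensorProduct.tmul_add, hx, hy, add_zero]

lemma mem_smul_top_of_tmul_eq_zero (I : Ideal A) {x : B}
    (hx : ((1 : A ⧸ I) ⊗ₜ[A] x : (A ⧸ I) ⊗[A] B) = 0) : x ∈ I • (⊤ : Submodule A B) := by
  have h := congrArg (TensorProduct.quotTensorEquivQuotSMul B I) hx
  rw [TensorProduct.quotTensorEquivQuotSMul_mk_one_tmul, map_zero] at h
  exact (Submodule.Quotient.mk_eq_zero _).mp h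

/-- for flat `B`, `I B ∩ I' B = (I ∩ I') B` -/
lemma mem_inf_smul_top [Module.Flat A B] (I I' : Ideal A) {x : B}
    (hx : x ∈ I • (⊤ : Submodule A B)) (hx' : x ∈ I' • (⊤ : Submodule A B)) :
    x ∈ (I ⊓ I') • (⊤ : Submodule A B) := by
  apply mem_smul_top_of_tmul_eq_zero
  let φ : (A ⧸ (I ⊓ I')) →ₗ[A] (A ⧸ I) × (A ⧸ I') :=
    LinearMap.prod
      (Submodule.liftQ _ (Submodule.mkQ I) (by rw [Submodule.ker_mkQ]; exact inf_le_left))
      (Submodule.liftQ _ (Submodule.mkQ I') (by rw [Submodule.ker_mkQ]; exact inf_le_right))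
  have hφ : Function.Injective φ := by
    rw [← LinearMap.ker_eq_bot, LinearMap.ker_eq_bot']
    intro z hz
    obtain ⟨a, rfl⟩ := Submodule.Quotient.mk_surjective _ z
    have h1 : (Submodule.Quotient.mk a : A ⧸ I) = 0 := congrArg Prod.fst hz
    have h2 : (Submodule.Quotient.mk a : A ⧸ I') = 0 := congrArg Prod.snd hz
    rw [Submodule.Quotient.mk_eq_zero] at h1 h2
    exact (Submodule.Quotient.mk_eq_zero _).mpr ⟨h1, h2⟩
  have hinj := Module.Flat.rTensor_preserves_injective_linearMap (M := B) φ hφ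
  apply hinj
  rw [map_zero, LinearMap.rTensor_tmul]
  have h1 : φ 1 = ((1 : A ⧸ I), (0 : A ⧸ I')) + ((0 : A ⧸ I), (1 : A ⧸ I')) := by
    rw [Prod.mk_add_mk, add_zero, zero_add]
    rfl
  have hq1 : ∀ c ∈ I, c • ((1 : A ⧸ I), (0 : A ⧸ I')) = 0 := by
    intro c hc
    rw [Prod.smul_mk, smul_zero, Algebra.smul_def, mul_one, Ideal.Quotient.algebraMap_eq,
      Ideal.Quotient.eq_zero_iff_mem.mpr hc]
    rfl
  have hq2 : ∀ c ∈ I', c • ((0 : A ⧸ I), (1 : A ⧸ I')) = 0 := by
    intro c hc
    rw [Prod.smul_mk, smul_zero, Algebra.smul_def, mul_one, Ideal.Quotient.algebraMap_eq,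
      Ideal.Quotient.eq_zero_iff_mem.mpr hc]
    rfl
  rw [h1, TensorProduct.add_tmul, tmul_eq_zero_of_mem_smul_top I _ hq1 hx,
    tmul_eq_zero_of_mem_smul_top I' _ hq2 hx', add_zero]

/-- for flat `B`: `t • b = 0` implies `b ∈ ann(t) B` -/
lemma mem_annihilator_smul_top [Module.Flat A B] (t : A) (b : B) (h : t • b = 0) :
    b ∈ (Submodule.annihilator (Ideal.span {t})) • (⊤ : Submodule A B) := by
  have h1 : ∑ i : Unit, (fun _ => t) i • (fun _ => b) i = 0 := by simpa using h
  obtain ⟨k, a, y, hy, ha⟩ := Module.Flat.isTrivialRelation_of_sum_smul_eq_zero h1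
  have hy' : b = ∑ j, a () j • y j := hy ()
  rw [hy']
  refine Submodule.sum_mem _ fun j _ => Submodule.smul_mem_smul ?_ Submodule.mem_top
  rw [Submodule.mem_annihilator_span_singleton]
  have := ha j
  simpa [mul_comm] using this

end Tensor

section Reduced

/-- weakly étale over a field ⇒ reduced -/
theorem isReduced_of_field (K : Type*) [Field K] (C : Type*) [CommRing C] [Algebra K C]
    [Algebra.WeaklyEtale K C] : IsReduced C := by
  rw [isReduced_iff_pow_one_lt 2 one_lt_two]
  intro z hz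
  obtain ⟨c, hc⟩ := Groth.Agent.Lib.Helper10.WE.exists_eq_sq_mul_of_field K C z
  rw [hc, ← pow_two, hz, zero_mul]

/-- weakly étale over a domain ⇒ reduced -/
theorem isReduced_of_isDomain (D : Type u) [CommRing D] [IsDomain D] (C : Type u) [CommRing C]
    [Algebra D C] [Algebra.WeaklyEtale D C] : IsReduced C := by
  have hinj : Function.Injective (algebraMap D (FractionRing D)) := IsFractionRing.injective D _
  have hι : Function.Injective (fun c : C => (1 : FractionRing D) ⊗ₜ[D] c) :=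
    Algebra.TensorProduct.includeRight_injective (R := D) (A := FractionRing D) (B := C) hinj
  have hred : IsReduced (FractionRing D ⊗[D] C) := isReduced_of_field (FractionRing D) _
  rw [isReduced_iff_pow_one_lt 2 one_lt_two]
  intro z hz
  apply hι
  show (1 : FractionRing D) ⊗ₜ[D] z = (1 : FractionRing D) ⊗ₜ[D] 0
  rw [TensorProduct.tmul_zero]
  have : ((1 : FractionRing D) ⊗ₜ[D] z) ^ 2 = 0 := by
    rw [Algebra.TensorProduct.tmul_pow, one_pow, hz, TensorProduct.tmul_zero]
  exact (isReduced_iff_pow_one_lt 2 one_lt_two).mp hred _ this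

variable (A B : Type u) [CommRing A] [CommRing B] [Algebra A B]

theorem mem_smul_top_of_sq_eq_zero [Algebra.WeaklyEtale A B] (p : Ideal A) [p.IsPrime] (b : B)
    (hb : b * b = 0) : b ∈ p • (⊤ : Submodule A B) := by
  have hred : IsReduced ((A ⧸ p) ⊗[A] B) := isReduced_of_isDomain (A ⧸ p) _
  apply mem_smul_top_of_tmul_eq_zero
  have : ((1 : A ⧸ p) ⊗ₜ[A] b) ^ 2 = 0 := by
    rw [Algebra.TensorProduct.tmul_pow, one_pow, pow_two, hb, TensorProduct.tmul_zero]
  exact (isReduced_iff_pow_one_lt 2 one_lt_two).mp hred _ this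

variable {A} in
lemma exists_mul_pow_mem_of_mem_minimalPrimes {J p : Ideal A} (hp : p ∈ J.minimalPrimes) {a : A}
    (ha : a ∈ p) : ∃ s ∉ p, ∃ n : ℕ, s * a ^ n ∈ J := by
  have := hp.1.1
  have h := IsLocalization.AtPrime.radical_map_of_mem_minimalPrimes
    (A := Localization.AtPrime p) p J hp
  have h1 : algebraMap A (Localization.AtPrime p) a ∈
      (J.map (algebraMap A (Localization.AtPrime p))).radical := by
    rw [h]; exact Ideal.mem_map_of_mem _ ha
  obtain ⟨n, hn⟩ := h1
  rw [← map_pow, IsLocalization.algebraMap_mem_map_algebraMap_iff p.primeCompl] at hn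
  obtain ⟨m, hm, hmJ⟩ := hn
  exact ⟨m, hm, n, hmJ⟩

/-- **Weakly étale over reduced is reduced.** -/
theorem isReduced_of_weaklyEtale [IsReduced A] [Algebra.WeaklyEtale A B] : IsReduced B := by
  classical
  rw [isReduced_iff_pow_one_lt 2 one_lt_two]
  intro b hb2
  have hb : b * b = 0 := by rw [← pow_two]; exact hb2
  by_contra hb0
  set J : Ideal A := LinearMap.ker (LinearMap.toSpanSingleton A B b) with hJ
  have hJmem : ∀ a : A, a ∈ J ↔ a • b = 0 := fun a => by
    rw [hJ, LinearMap.mem_ker, LinearMap.toSpanSingleton_apply]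
  have hJtop : J ≠ ⊤ := by
    intro h
    have : (1 : A) ∈ J := h ▸ Submodule.mem_top
    rw [hJmem, one_smul] at this
    exact hb0 this
  obtain ⟨⟨p, hp⟩⟩ := Ideal.nonempty_minimalPrimes hJtop
  have : p.IsPrime := hp.1.1
  have hbp : b ∈ p • (⊤ : Submodule A B) := mem_smul_top_of_sq_eq_zero A B p b hb
  have key : ∀ x ∈ p • (⊤ : Submodule A B), ∃ s ∉ p, ∃ I' : Ideal A,
      b ∈ I'.annihilator • (⊤ : Submodule A B) ∧ s • x ∈ I' • (⊤ : Submodule A B) := by
    intro x hx
    refine Submodule.smul_induction_on hx ?_ ?_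
    · intro a ha u _
      obtain ⟨s, hs, n, hn⟩ := exists_mul_pow_mem_of_mem_minimalPrimes hp ha
      have hn' : (s * a ^ (n + 1)) • b = 0 := by
        rw [← hJmem, pow_succ, ← mul_assoc]; exact J.mul_mem_right _ hn
      have h1 := mem_annihilator_smul_top (s * a ^ (n + 1)) b hn'
      refine ⟨s, hs, Ideal.span {s * a}, ?_, ?_⟩
      · refine Submodule.smul_mono_left ?_ h1
        intro c hc
        rw [Submodule.mem_annihilator_span_singleton] at hc ⊢
        have h2 : (c * (s * a)) ^ (n + 1) = 0 := by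
          have : (c * (s * a)) ^ (n + 1) = (c * (s * a ^ (n + 1))) * (c ^ n * s ^ n) := by ring
          rw [this, ← smul_eq_mul c, hc, zero_mul]
        rw [smul_eq_mul]
        exact IsNilpotent.eq_zero ⟨n + 1, h2⟩
      · rw [smul_smul]
        exact Submodule.smul_mem_smul (Ideal.mem_span_singleton_self _) Submodule.mem_top
    · rintro x y ⟨s, hs, I1, hb1, hx1⟩ ⟨s', hs', I2, hb2', hy2⟩
      refine ⟨s * s', fun h => (Ideal.IsPrime.mem_or_mem ‹_› h).elim hs hs', I1 ⊔ I2, ?_, ?_⟩
      · rw [Submodule.annihilator_sup]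
        exact mem_inf_smul_top _ _ hb1 hb2'
      · rw [smul_add]
        refine Submodule.add_mem _ ?_ ?_
        · rw [mul_comm, mul_smul]
          exact Submodule.smul_mem _ _ (Submodule.smul_mono_left le_sup_left hx1)
        · rw [mul_smul]
          exact Submodule.smul_mem _ _ (Submodule.smul_mono_left le_sup_right hy2)
  obtain ⟨s, hs, I', hbI, hsI⟩ := key b hbp
  have h1 : s • b ∈ (I' ⊓ I'.annihilator) • (⊤ : Submodule A B) :=
    mem_inf_smul_top _ _ hsI (Submodule.smul_mem _ _ hbI)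
  have h2 : I' ⊓ I'.annihilator = ⊥ := by
    rw [eq_bot_iff]
    rintro c ⟨hc1, hc2⟩
    have h3 : c * c = 0 := by
      have := (Submodule.mem_annihilator.mp hc2) c hc1
      simpa using this
    exact (Submodule.mem_bot A).mpr (IsNilpotent.eq_zero ⟨2, by rw [pow_two]; exact h3⟩)
  rw [h2, Submodule.bot_smul, Submodule.mem_bot] at h1
  exact hs (hp.1.2 ((hJmem s).mpr h1))

end Reduced

section Normal

/-- VNR + only trivial idempotents + nontrivial ⇒ field -/
theorem isField_of_vnr_of_idem {L : Type*} [CommRing L] [Nontrivial L]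
    (hvnr : ∀ x : L, ∃ c : L, x = x * x * c) (hidem : ∀ e : L, e * e = e → e = 0 ∨ e = 1) :
    IsField L := by
  refine ⟨exists_pair_ne L, mul_comm, ?_⟩
  intro x hx
  obtain ⟨c, hc⟩ := hvnr x
  have he : (x * c) * (x * c) = x * c := by
    calc (x * c) * (x * c) = (x * x * c) * c := by ring
      _ = x * c := by rw [← hc]
  rcases hidem _ he with h0 | h1
  · exfalso
    apply hx
    rw [hc]
    calc x * x * c = x * (x * c) := by ring
      _ = 0 := by rw [h0, mul_zero]
  · exact ⟨c, h1⟩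

/-- **A local ring weakly étale over a normal domain is a normal domain.** -/
theorem isDomain_and_isIntegrallyClosed (A B : Type u) [CommRing A] [IsDomain A]
    [IsIntegrallyClosed A] [CommRing B] [IsLocalRing B] [Algebra A B] [Algebra.WeaklyEtale A B] :
    IsDomain B ∧ IsIntegrallyClosed B := by
  have hic : IsIntegrallyClosedIn B (B ⊗[A] FractionRing A) :=
    Groth.Agent.S1967.result A (FractionRing A) B
  obtain ⟨hinj, hint⟩ := isIntegrallyClosedIn_iff.mp hic
  have hvnr : ∀ z : B ⊗[A] FractionRing A, ∃ c : B ⊗[A] FractionRing A, z = z * z * c := by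
    intro z
    let e := Algebra.TensorProduct.comm A B (FractionRing A)
    obtain ⟨c, hc⟩ := Groth.Agent.Lib.Helper10.WE.exists_eq_sq_mul_of_field (FractionRing A)
      (FractionRing A ⊗[A] B) (e z)
    refine ⟨e.symm c, ?_⟩
    apply e.injective
    rw [map_mul, map_mul, e.apply_symm_apply]
    exact hc
  have hnt : Nontrivial (B ⊗[A] FractionRing A) :=
    ⟨⟨algebraMap B _ 0, algebraMap B _ 1, fun h => zero_ne_one (hinj h)⟩⟩
  have hidem : ∀ e : B ⊗[A] FractionRing A, e * e = e → e = 0 ∨ e = 1 := by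
    intro e he
    have hint_e : IsIntegral B e := by
      refine ⟨Polynomial.X ^ 2 - Polynomial.X, Polynomial.monic_X_pow_sub ?_, ?_⟩
      · rw [Polynomial.degree_X]; exact_mod_cast one_lt_two
      · simp [pow_two, he]
    obtain ⟨b, rfl⟩ := hint hint_e
    have hb : b * b = b := hinj (by rw [map_mul]; exact he)
    rcases IsLocalRing.isUnit_or_isUnit_one_sub_self b with hu | hu
    · right
      have h6 : b * (b - 1) = 0 := by rw [mul_sub, hb, mul_one, sub_self]
      rw [sub_eq_zero.mp (hu.mul_right_eq_zero.mp h6), map_one]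
    · left
      have h6 : (1 - b) * b = 0 := by rw [sub_mul, one_mul, hb, sub_self]
      rw [hu.mul_right_eq_zero.mp h6, map_zero]
  have hF : IsField (B ⊗[A] FractionRing A) := isField_of_vnr_of_idem hvnr hidem
  let _ : Field (B ⊗[A] FractionRing A) := hF.toField
  have hdom : IsDomain B := hinj.isDomain (algebraMap B (B ⊗[A] FractionRing A))
  refine ⟨hdom, ?_⟩
  rw [isIntegrallyClosed_iff (FractionRing B)]
  intro x hx
  let ψ : FractionRing B →ₐ[B] (B ⊗[A] FractionRing A) :=
    IsFractionRing.liftAlgHom (g := Algebra.ofId B (B ⊗[A] FractionRing A)) hinj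
  have hψx : IsIntegral B (ψ x) := hx.map ψ
  obtain ⟨b, hb⟩ := hint hψx
  refine ⟨b, ?_⟩
  apply (ψ : FractionRing B →+* (B ⊗[A] FractionRing A)).injective
  show ψ (algebraMap B (FractionRing B) b) = ψ x
  rw [ψ.commutes, hb]

end Normal

section Stalk

open AlgebraicGeometry CategoryTheory

/-- the stalk maps of a weakly étale morphism are weakly étale -/
theorem weaklyEtale_stalkMap {X Y : Scheme.{u}} (f : X ⟶ Y) [WeaklyEtale f] (x : X) :
    letI := (f.stalkMap x).hom.toAlgebra
    Algebra.WeaklyEtale (Y.presheaf.stalk (f x)) (X.presheaf.stalk x) := by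
  obtain ⟨_, ⟨V, hV, rfl⟩, hxV, -⟩ :=
    Y.isBasis_affineOpens.exists_subset_of_mem_open (Set.mem_univ (f.base x)) isOpen_univ
  obtain ⟨_, ⟨U, hU, rfl⟩, hxU, hUV⟩ :=
    X.isBasis_affineOpens.exists_subset_of_mem_open (show x ∈ (f ⁻¹ᵁ V : Set X) from hxV)
      (f ⁻¹ᵁ V).2
  have hUV' : U ≤ f ⁻¹ᵁ V := hUV
  let algAB : Algebra Γ(Y, V) Γ(X, U) := (f.appLE V U hUV').hom.toAlgebra
  let algAA' : Algebra Γ(Y, V) (Y.presheaf.stalk (f x)) :=
    Y.presheaf.algebra_section_stalk ⟨f x, hxV⟩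
  let algBB' : Algebra Γ(X, U) (X.presheaf.stalk x) := X.presheaf.algebra_section_stalk ⟨x, hxU⟩
  let algA'B' : Algebra (Y.presheaf.stalk (f x)) (X.presheaf.stalk x) :=
    (f.stalkMap x).hom.toAlgebra
  let algAB' : Algebra Γ(Y, V) (X.presheaf.stalk x) :=
    ((algebraMap Γ(X, U) (X.presheaf.stalk x)).comp (algebraMap Γ(Y, V) Γ(X, U))).toAlgebra
  have : IsScalarTower Γ(Y, V) Γ(X, U) (X.presheaf.stalk x) :=
    IsScalarTower.of_algebraMap_eq (fun _ => rfl)
  have : IsScalarTower Γ(Y, V) (Y.presheaf.stalk (f x)) (X.presheaf.stalk x) :=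
    IsScalarTower.of_algebraMap_eq (fun a => by
      show (X.presheaf.germ U x hxU).hom ((f.appLE V U hUV').hom a) =
        (f.stalkMap x).hom ((Y.presheaf.germ V (f x) hxV).hom a)
      rw [Scheme.Hom.germ_stalkMap_apply]
      simp only [Scheme.Hom.appLE, homOfLE_leOfHom, CommRingCat.hom_comp, RingHom.coe_comp,
        Function.comp_apply, X.presheaf.germ_res_apply])
  have hAB : Algebra.WeaklyEtale Γ(Y, V) Γ(X, U) :=
    (Groth.Agent.Lib.Helper98.WESch.weaklyEtale_iff_appLE f).mp ‹_› U V hU hV hUV'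
  have hlocB : IsLocalization.AtPrime (X.presheaf.stalk x) (hU.primeIdealOf ⟨x, hxU⟩).asIdeal :=
    hU.isLocalization_stalk ⟨x, hxU⟩
  have hBB' : Algebra.WeaklyEtale Γ(X, U) (X.presheaf.stalk x) :=
    Groth.Agent.Lib.Helper10.WE.weaklyEtale_of_isLocalization
      (hU.primeIdealOf ⟨x, hxU⟩).asIdeal.primeCompl
  have hAB' : Algebra.WeaklyEtale Γ(Y, V) (X.presheaf.stalk x) :=
    Algebra.WeaklyEtale.trans Γ(Y, V) Γ(X, U) (X.presheaf.stalk x)
  have hlocA : IsLocalization.AtPrime (Y.presheaf.stalk (f x))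
      (hV.primeIdealOf ⟨f x, hxV⟩).asIdeal := hV.isLocalization_stalk ⟨f x, hxV⟩
  exact Groth.Agent.Lib.Helper10.WE.weaklyEtale_of_isLocalization_base
    (hV.primeIdealOf ⟨f x, hxV⟩).asIdeal.primeCompl (Y.presheaf.stalk (f x)) (X.presheaf.stalk x)

end Stalk

end Groth.Agent.Lib.Helper98.WERed
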