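import Mathlib
import Groth.Agent.Lib.Helper10.WEField
import Groth.Agent.Lib.Helper98.OlivierLocal

open TensorProduct IsLocalRing Polynomial

universe u

namespace Groth.Agent.Lib.Helper98.Olivier

/-- interface of the key idempotent lemma (helper4's part (I)) -/
def KeyLemma : Prop :=
  ∀ (R Ω C : Type u) [CommRing R] [Field Ω] [Algebra R Ω] [IsIntegrallyClosedIn R Ω]
    [CommRing C] [Algebra R C] [Algebra.WeaklyEtale R C] (s : R) (_hs : s ≠ 0) (b : C)
    (_hb : b * b = algebraMap R C s * b), ∃ w : C, b = algebraMap R C s * w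

theorem algebraMap_surjective_of_vnr {Ω F : Type*} [Field Ω] [IsAlgClosed Ω] [CommRing F]
    [Nontrivial F] [Algebra Ω F]
    (hvnr : ∀ x : F, ∃ c : F, x = x * x * c)
    (hidem : ∀ e : F, e * e = e → e = 0 ∨ e = 1)
    (halg : ∀ x : F, ∃ P : Polynomial Ω, P.Monic ∧ aeval x P = 0) :
    Function.Surjective (algebraMap Ω F) := by
  have hunit : ∀ x : F, x ≠ 0 → IsUnit x := by
    intro x hx
    obtain ⟨c, hc⟩ := hvnr x
    have he : (x * c) * (x * c) = x * c := by
      calc (x * c) * (x * c) = (x * x * c) * c := by ring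
        _ = x * c := by rw [← hc]
    rcases hidem _ he with h0 | h1
    · exfalso
      apply hx
      rw [hc]
      calc x * x * c = x * (x * c) := by ring
        _ = 0 := by rw [h0, mul_zero]
    · exact IsUnit.of_mul_eq_one c h1
  have hnzd : NoZeroDivisors F := ⟨fun {a b} hab => by
    by_cases ha : a = 0
    · exact Or.inl ha
    · right
      exact (hunit a ha).mul_right_eq_zero.mp hab⟩
  intro x
  obtain ⟨P, hPm, hPx⟩ := halg x
  have hsplit : P.Splits := IsAlgClosed.splits P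
  have hP := hsplit.eq_prod_roots_of_monic hPm
  rw [hP, map_multiset_prod, Multiset.map_map, Multiset.prod_eq_zero_iff] at hPx
  obtain ⟨ω, _, h0⟩ := Multiset.mem_map.mp hPx
  refine ⟨ω, ?_⟩
  simp only [Function.comp_apply, map_sub, aeval_X, aeval_C] at h0
  exact (sub_eq_zero.mp h0).symm

theorem algebraMap_surjective_tensor (H : KeyLemma.{u}) {R Ω C : Type u} [CommRing R] [IsDomain R]
    [Field Ω] [IsAlgClosed Ω] [Algebra R Ω] [IsIntegrallyClosedIn R Ω]
    (hfrac : ∀ ω : Ω, ∃ s c : R, s ≠ 0 ∧ algebraMap R Ω s * ω = algebraMap R Ω c)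
    [CommRing C] [IsLocalRing C] [Algebra R C] [Algebra.WeaklyEtale R C] :
    Function.Surjective (algebraMap Ω (Ω ⊗[R] C)) := by
  have hinj : Function.Injective (algebraMap R Ω) := IsIntegralClosure.algebraMap_injective R R Ω
  have hι : Function.Injective (fun c : C => (1 : Ω) ⊗ₜ[R] c) :=
    Algebra.TensorProduct.includeRight_injective (R := R) (A := Ω) (B := C) hinj
  have hmul : ∀ (ω : Ω) (c : C),
      algebraMap Ω (Ω ⊗[R] C) ω * ((1 : Ω) ⊗ₜ[R] c) = ω ⊗ₜ[R] c := by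
    intro ω c
    rw [Algebra.TensorProduct.algebraMap_apply, Algebra.algebraMap_self, RingHom.id_apply,
      Algebra.TensorProduct.tmul_mul_tmul, mul_one, one_mul]
  have hsm : ∀ (s : R) (c : C),
      (algebraMap R Ω s) ⊗ₜ[R] c = (1 : Ω) ⊗ₜ[R] (algebraMap R C s * c) := by
    intro s c
    rw [Algebra.algebraMap_eq_smul_one, TensorProduct.smul_tmul, Algebra.smul_def]
  have hS1 : ∀ (s : R) (c : C), algebraMap Ω (Ω ⊗[R] C) (algebraMap R Ω s) * ((1 : Ω) ⊗ₜ[R] c) =
      (1 : Ω) ⊗ₜ[R] (algebraMap R C s * c) := by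
    intro s c
    rw [hmul, hsm]
  have hform : ∀ x : Ω ⊗[R] C, ∃ s : R, s ≠ 0 ∧ ∃ c : C,
      algebraMap Ω (Ω ⊗[R] C) (algebraMap R Ω s) * x = (1 : Ω) ⊗ₜ[R] c := by
    intro x
    induction x using TensorProduct.induction_on with
    | zero => exact ⟨1, one_ne_zero, 0, by simp⟩
    | tmul ω c =>
      obtain ⟨s, c', hs, hsc⟩ := hfrac ω
      refine ⟨s, hs, algebraMap R C c' * c, ?_⟩
      rw [Algebra.TensorProduct.algebraMap_apply, Algebra.algebraMap_self, RingHom.id_apply,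
        Algebra.TensorProduct.tmul_mul_tmul, one_mul, hsc, hsm]
    | add x y hx hy =>
      obtain ⟨s, hs, c, hc⟩ := hx
      obtain ⟨t, ht, d, hd⟩ := hy
      refine ⟨s * t, mul_ne_zero hs ht, algebraMap R C t * c + algebraMap R C s * d, ?_⟩
      rw [TensorProduct.tmul_add, ← hS1, ← hS1, ← hc, ← hd, map_mul, map_mul]
      ring
  have hSunit : ∀ s : R, s ≠ 0 → IsUnit (algebraMap Ω (Ω ⊗[R] C) (algebraMap R Ω s)) :=
    fun s hs => (IsUnit.mk0 _ ((map_ne_zero_iff _ hinj).mpr hs)).map _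
  have hidem : ∀ e : Ω ⊗[R] C, e * e = e → e = 0 ∨ e = 1 := by
    intro e he
    obtain ⟨s, hs, b, hb⟩ := hform e
    have h1 : (1 : Ω) ⊗ₜ[R] (b * b) = (1 : Ω) ⊗ₜ[R] (algebraMap R C s * b) := by
      have : (1 : Ω) ⊗ₜ[R] (b * b) = ((1 : Ω) ⊗ₜ[R] b) * ((1 : Ω) ⊗ₜ[R] b) := by
        rw [Algebra.TensorProduct.tmul_mul_tmul, one_mul]
      rw [this, ← hS1, ← hb]
      calc algebraMap Ω (Ω ⊗[R] C) (algebraMap R Ω s) * e *
            (algebraMap Ω (Ω ⊗[R] C) (algebraMap R Ω s) * e)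
          = algebraMap Ω (Ω ⊗[R] C) (algebraMap R Ω s) *
            (algebraMap Ω (Ω ⊗[R] C) (algebraMap R Ω s) * (e * e)) := by ring
        _ = _ := by rw [he]
    have h2 : b * b = algebraMap R C s * b := hι h1
    obtain ⟨w, hw⟩ := H R Ω C s hs b h2
    have h3 : (1 : Ω) ⊗ₜ[R] (w * w) = (1 : Ω) ⊗ₜ[R] w := by
      have hu := hSunit s hs
      apply hu.mul_left_cancel
      apply hu.mul_left_cancel
      rw [hS1, hS1, hS1, hS1]
      congr 1
      calc algebraMap R C s * (algebraMap R C s * (w * w))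
          = (algebraMap R C s * w) * (algebraMap R C s * w) := by ring
        _ = b * b := by rw [← hw]
        _ = algebraMap R C s * b := h2
        _ = algebraMap R C s * (algebraMap R C s * w) := by rw [← hw]
    have h4 : w * w = w := hι h3
    have h5 : w = 0 ∨ w = 1 := by
      rcases IsLocalRing.isUnit_or_isUnit_one_sub_self w with hu | hu
      · right
        have h6 : w * (w - 1) = 0 := by rw [mul_sub, h4, mul_one, sub_self]
        exact sub_eq_zero.mp (hu.mul_right_eq_zero.mp h6)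
      · left
        have h6 : (1 - w) * w = 0 := by rw [sub_mul, one_mul, h4, sub_self]
        exact hu.mul_right_eq_zero.mp h6
    have h6 : e = (1 : Ω) ⊗ₜ[R] w := by
      apply (hSunit s hs).mul_left_cancel
      rw [hb, hS1, ← hw]
    rcases h5 with h | h
    · left
      rw [h6, h, TensorProduct.tmul_zero]
    · right
      rw [h6, h]
      rfl
  have : Nontrivial (Ω ⊗[R] C) :=
    ⟨⟨(1 : Ω) ⊗ₜ[R] (0 : C), (1 : Ω) ⊗ₜ[R] (1 : C), fun h => zero_ne_one (hι h)⟩⟩
  refine algebraMap_surjective_of_vnr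
    (Groth.Agent.Lib.Helper10.WE.exists_eq_sq_mul_of_field Ω (Ω ⊗[R] C)) hidem ?_
  intro x
  obtain ⟨P, hP1, _, hP3⟩ :=
    Groth.Agent.Lib.Helper10.WE.exists_monic_separable_aeval_eq_zero Ω (Ω ⊗[R] C) x
  exact ⟨P, hP1, hP3⟩

theorem algHom_ext_of_isAlgClosed (H : KeyLemma.{u}) {A B Ω : Type u} [CommRing A] [CommRing B]
    [HenselianLocalRing A] [IsLocalRing B] [IsSepClosed (ResidueField A)] [Algebra A B]
    [IsLocalHom (algebraMap A B)] [Algebra.WeaklyEtale A B] [Field Ω] [IsAlgClosed Ω]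
    [Algebra A Ω]
    (hΩ : ∀ ω : Ω, ∃ a : A, algebraMap A Ω a ≠ 0 ∧ IsIntegral A (algebraMap A Ω a * ω))
    (β₁ β₂ : B →ₐ[A] Ω) : β₁ = β₂ := by
  have hA'loc : IsLocalRing (integralClosure A Ω) := isLocalRing_integralClosure
  have hsep : Algebra.IsSeparable (ResidueField A) (ResidueField B) :=
    Groth.Agent.Lib.Helper10.WE.isSeparable_residueField_of_weaklyEtale A B
  have hsurj : Function.Surjective (algebraMap A (ResidueField B)) := by
    have h1 := IsSepClosed.algebraMap_surjective (ResidueField A) (ResidueField B)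
    intro y
    obtain ⟨z, hz⟩ := h1 y
    obtain ⟨a, ha⟩ := IsLocalRing.residue_surjective z
    refine ⟨a, ?_⟩
    rw [← hz, ← ha, IsScalarTower.algebraMap_apply A (ResidueField A) (ResidueField B)]
    rfl
  have : IsLocalRing ((integralClosure A Ω) ⊗[A] B) := isLocalRing_tensorProduct hsurj
  have hfrac : ∀ ω : Ω, ∃ s c : integralClosure A Ω, s ≠ 0 ∧
      algebraMap (integralClosure A Ω) Ω s * ω = algebraMap (integralClosure A Ω) Ω c := by
    intro ω
    obtain ⟨a, ha, hint⟩ := hΩ ω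
    refine ⟨⟨algebraMap A Ω a, isIntegral_algebraMap⟩, ⟨algebraMap A Ω a * ω, hint⟩, ?_, rfl⟩
    intro h
    exact ha (congrArg Subtype.val h)
  have hsF := algebraMap_surjective_tensor H (R := integralClosure A Ω) (Ω := Ω)
    (C := (integralClosure A Ω) ⊗[A] B) hfrac
  let δ : (B →ₐ[A] Ω) → ((integralClosure A Ω) ⊗[A] B →ₐ[integralClosure A Ω] Ω) :=
    fun β => Algebra.TensorProduct.lift (Algebra.ofId _ Ω) β (fun _ _ => Commute.all _ _)
  let γ : (B →ₐ[A] Ω) →
      (Ω ⊗[integralClosure A Ω] ((integralClosure A Ω) ⊗[A] B) →ₐ[Ω] Ω) :=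
    fun β => Algebra.TensorProduct.lift (AlgHom.id Ω Ω) (δ β) (fun _ _ => Commute.all _ _)
  have hγ : ∀ β b, γ β (1 ⊗ₜ (1 ⊗ₜ b)) = β b := by
    intro β b
    simp [γ, δ]
  have hγeq : ∀ x, γ β₁ x = γ β₂ x := by
    intro x
    obtain ⟨ω, rfl⟩ := hsF x
    rw [AlgHom.commutes, AlgHom.commutes]
  ext b
  rw [← hγ β₁ b, ← hγ β₂ b, hγeq]

end Groth.Agent.Lib.Helper98.Olivier
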