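import Mathlib
import Groth.Agent.Lib.Helper98.OlivierCore

open TensorProduct IsLocalRing Polynomial

universe u

namespace Groth.Agent.Lib.Helper98.Olivier

/-- If `Ω` is algebraic over the residue field `κ(p)` of a prime `p` of `A`, then every element of
`Ω` has a multiple by some `a ∉ ker (A → Ω)` which is integral over `A`. -/
theorem exists_isIntegral_mul_of_isAlgebraic_residueField {A Ω : Type*} [CommRing A] [Field Ω]
    [Algebra A Ω] (p : Ideal A) [p.IsPrime] [Algebra p.ResidueField Ω]
    [IsScalarTower A p.ResidueField Ω] [Algebra.IsAlgebraic p.ResidueField Ω] (ω : Ω) :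
    ∃ a : A, algebraMap A Ω a ≠ 0 ∧ IsIntegral A (algebraMap A Ω a * ω) := by
  let _ : Algebra (A ⧸ p) Ω :=
    ((algebraMap p.ResidueField Ω).comp (algebraMap (A ⧸ p) p.ResidueField)).toAlgebra
  have : IsScalarTower (A ⧸ p) p.ResidueField Ω := IsScalarTower.of_algebraMap_eq (fun _ => rfl)
  have hcomp : ∀ a : A, algebraMap A Ω a = algebraMap (A ⧸ p) Ω (Ideal.Quotient.mk p a) := by
    intro a
    rw [IsScalarTower.algebraMap_apply A p.ResidueField Ω,
      IsScalarTower.algebraMap_apply A (A ⧸ p) p.ResidueField]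
    rfl
  have : IsScalarTower A (A ⧸ p) Ω := IsScalarTower.of_algebraMap_eq hcomp
  have halg : IsAlgebraic (A ⧸ p) ω :=
    (IsFractionRing.isAlgebraic_iff (A ⧸ p) p.ResidueField Ω).mpr
      (Algebra.IsAlgebraic.isAlgebraic ω)
  have hinj : Function.Injective (algebraMap (A ⧸ p) Ω) :=
    (algebraMap p.ResidueField Ω).injective.comp (IsFractionRing.injective (A ⧸ p) p.ResidueField)
  obtain ⟨y, hy, hint⟩ := halg.exists_integral_multiple
  obtain ⟨a, rfl⟩ := Ideal.Quotient.mk_surjective y
  refine ⟨a, ?_, ?_⟩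
  · rw [hcomp]
    exact fun h => hy (hinj (h.trans (map_zero _).symm))
  · rw [Algebra.smul_def, ← hcomp] at hint
    have : Algebra.IsIntegral A (A ⧸ p) :=
      Algebra.isIntegral_of_surjective Ideal.Quotient.mk_surjective
    exact isIntegral_trans _ hint

/-- Variant of `algHom_ext_of_isAlgClosed` for `Ω` algebraic over a residue field `κ(p)` of `A`. -/
theorem algHom_ext_of_isAlgebraic_residueField (H : KeyLemma.{u}) {A B Ω : Type u} [CommRing A]
    [CommRing B] [HenselianLocalRing A] [IsLocalRing B] [IsSepClosed (ResidueField A)]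
    [Algebra A B] [IsLocalHom (algebraMap A B)] [Algebra.WeaklyEtale A B] [Field Ω]
    [IsAlgClosed Ω] [Algebra A Ω] (p : Ideal A) [p.IsPrime] [Algebra p.ResidueField Ω]
    [IsScalarTower A p.ResidueField Ω] [Algebra.IsAlgebraic p.ResidueField Ω]
    (β₁ β₂ : B →ₐ[A] Ω) : β₁ = β₂ :=
  algHom_ext_of_isAlgClosed H (exists_isIntegral_mul_of_isAlgebraic_residueField p) β₁ β₂

end Groth.Agent.Lib.Helper98.Olivier
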