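import Groth.Agent.Lib.Helper98.AzuLG

/-!
# Skolem–Noether over local rings

For an Azumaya algebra `A` over a local ring `R`, every `R`-algebra automorphism is inner.
The proof compares the two `A ⊗ Aᵐᵒᵖ`-module structures on `A` (the standard one and the one
twisted by the automorphism) using cancellation of projective modules over Azumaya algebras over
LG-rings.
-/

set_option autoImplicit false

namespace Groth.Agent.Lib.Helper98.SkolemLocal

open TensorProduct MulOpposite Module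

universe u v

theorem isLGRing_of_isLocalRing (R : Type u) [CommRing R] [IsLocalRing R] : LGRing.IsLGRing R := by
  intro n f h
  obtain ⟨s, hs⟩ := h (IsLocalRing.maximalIdeal R)
  choose t ht using fun i => Ideal.Quotient.mk_surjective (s i)
  refine ⟨t, ?_⟩
  have h1 := MvPolynomial.comp_aeval_apply (f := t)
    (Ideal.Quotient.mkₐ R (IsLocalRing.maximalIdeal R)) f
  have h2 : (fun i => Ideal.Quotient.mkₐ R (IsLocalRing.maximalIdeal R) (t i)) = s := funext ht
  rw [h2] at h1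
  rw [← h1] at hs
  by_contra hu
  have hmem : MvPolynomial.aeval t f ∈ IsLocalRing.maximalIdeal R := hu
  have h0 : Ideal.Quotient.mkₐ R (IsLocalRing.maximalIdeal R) (MvPolynomial.aeval t f) = 0 :=
    Ideal.Quotient.eq_zero_iff_mem.mpr hmem
  rw [h0] at hs
  exact not_isUnit_zero hs

variable {R : Type u} [CommRing R] {A : Type v} [Ring A] [Algebra R A]

/-- The twisted bimodule representation `a ⊗ b ↦ (x ↦ u a * x * b)`. -/
noncomputable def rho (u : A ≃ₐ[R] A) : (A ⊗[R] Aᵐᵒᵖ) →ₐ[R] Module.End R A :=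
  (AlgHom.mulLeftRight R A).comp
    (Algebra.TensorProduct.map (u : A →ₐ[R] A) (AlgHom.id R Aᵐᵒᵖ))

lemma rho_tmul (u : A ≃ₐ[R] A) (a : A) (b : Aᵐᵒᵖ) (x : A) :
    rho u (a ⊗ₜ b) x = u a * x * b.unop := by
  simp [rho]

lemma rho_bijective [IsAzumaya R A] (u : A ≃ₐ[R] A) : Function.Bijective (rho u) := by
  have h1 : Function.Bijective
      (Algebra.TensorProduct.map (u : A →ₐ[R] A) (AlgHom.id R Aᵐᵒᵖ)) :=
    (Algebra.TensorProduct.congr u (AlgEquiv.refl : Aᵐᵒᵖ ≃ₐ[R] Aᵐᵒᵖ)).bijective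
  exact (IsAzumaya.bij (R := R) (A := A)).comp h1

/-- `A` with the bimodule structure twisted by `u` on the left. -/
def Tw (_u : A ≃ₐ[R] A) : Type v := A

instance (u : A ≃ₐ[R] A) : AddCommGroup (Tw u) := inferInstanceAs (AddCommGroup A)
instance (u : A ≃ₐ[R] A) : Module R (Tw u) := inferInstanceAs (Module R A)

/-- view an element of `A` as an element of the twisted module -/
def toTw (u : A ≃ₐ[R] A) : A ≃ₗ[R] Tw u := LinearEquiv.refl R A

noncomputable instance (u : A ≃ₐ[R] A) : Module (A ⊗[R] Aᵐᵒᵖ) (Tw u) :=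
  Module.compHom A (rho u).toRingHom

lemma smul_def (u : A ≃ₐ[R] A) (l : A ⊗[R] Aᵐᵒᵖ) (x : A) :
    l • toTw u x = toTw u (rho u l x) := rfl

instance (u : A ≃ₐ[R] A) : IsScalarTower R (A ⊗[R] Aᵐᵒᵖ) (Tw u) := ⟨fun r l x => by
  obtain ⟨x, rfl⟩ := (toTw u).surjective x
  rw [smul_def, smul_def, map_smul, LinearMap.smul_apply, map_smul]⟩

variable [IsAzumaya R A]

/-- `rho u` as an algebra isomorphism. -/
noncomputable def Phi (u : A ≃ₐ[R] A) : (A ⊗[R] Aᵐᵒᵖ) ≃ₐ[R] Module.End R A :=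
  AlgEquiv.ofBijective (rho u) (rho_bijective u)

lemma Phi_apply (u : A ≃ₐ[R] A) (l : A ⊗[R] Aᵐᵒᵖ) : Phi u l = rho u l := rfl

/-- A section of evaluation at `x₀`, given a functional with `τ x₀ = 1`. -/
noncomputable def sec (u : A ≃ₐ[R] A) (τ : A →ₗ[R] R) :
    Tw u →ₗ[A ⊗[R] Aᵐᵒᵖ] (A ⊗[R] Aᵐᵒᵖ) where
  toFun x := (Phi u).symm (τ.smulRight ((toTw u).symm x))
  map_add' x y := by
    rw [← map_add]
    congr 1
    ext z
    simp [smul_add]
  map_smul' l x := by
    obtain ⟨x, rfl⟩ := (toTw u).surjective x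
    apply (Phi u).injective
    rw [smul_def]
    simp only [RingHom.id_apply, smul_eq_mul, map_mul, AlgEquiv.apply_symm_apply,
      LinearEquiv.symm_apply_apply]
    ext z
    simp [Phi_apply]

/-- Evaluation at `x₀`. -/
noncomputable def proj (u : A ≃ₐ[R] A) (x₀ : A) : (A ⊗[R] Aᵐᵒᵖ) →ₗ[A ⊗[R] Aᵐᵒᵖ] Tw u :=
  LinearMap.toSpanSingleton _ _ (toTw u x₀)

lemma proj_sec (u : A ≃ₐ[R] A) (τ : A →ₗ[R] R) (x₀ : A) (h : τ x₀ = 1) :
    (proj u x₀).comp (sec u τ) = LinearMap.id := by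
  ext x
  obtain ⟨x, rfl⟩ := (toTw u).surjective x
  simp only [proj, sec, LinearMap.comp_apply, LinearMap.coe_mk, AddHom.coe_mk,
    LinearMap.toSpanSingleton_apply, LinearMap.id_apply, LinearEquiv.symm_apply_apply]
  rw [smul_def, ← Phi_apply, AlgEquiv.apply_symm_apply]
  simp [h]

omit [IsAzumaya R A] in
theorem nontrivial_of_faithful [Nontrivial R] [FaithfulSMul R A] : Nontrivial A := by
  by_contra h
  rw [not_nontrivial_iff_subsingleton] at h
  exact zero_ne_one (α := R)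
    (FaithfulSMul.eq_of_smul_eq_smul (α := A) fun a => Subsingleton.elim _ _)

theorem exists_tau [IsLocalRing R] : ∃ (τ : A →ₗ[R] R) (x₀ : A), τ x₀ = 1 := by
  have : Module.Free R A := Module.free_of_flat_of_isLocalRing
  let b := Module.Free.chooseBasis R A
  have : Nontrivial A := nontrivial_of_faithful (R := R)
  obtain ⟨i⟩ := b.index_nonempty
  exact ⟨b.coord i, b i, by simp⟩

theorem projective_tw [IsLocalRing R] (u : A ≃ₐ[R] A) :
    Module.Projective (A ⊗[R] Aᵐᵒᵖ) (Tw u) := by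
  obtain ⟨τ, x₀, h⟩ := exists_tau (R := R) (A := A)
  exact Module.Projective.of_split (sec u τ) (proj u x₀) (proj_sec u τ x₀ h)

theorem finite_tw [IsLocalRing R] (u : A ≃ₐ[R] A) :
    Module.Finite (A ⊗[R] Aᵐᵒᵖ) (Tw u) := by
  obtain ⟨τ, x₀, h⟩ := exists_tau (R := R) (A := A)
  have hs : Function.Surjective (proj u x₀) := fun x =>
    ⟨sec u τ x, LinearMap.congr_fun (proj_sec u τ x₀ h) x⟩
  exact Module.Finite.of_surjective _ hs

theorem isAzumaya_env : IsAzumaya R (A ⊗[R] Aᵐᵒᵖ) := by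
  have : IsAzumaya R (Module.End R A) := Groth.Agent.Lib.Helper46.Azumaya.isAzumaya_end R A
  exact IsAzumaya.of_AlgEquiv _ _ _
    (AlgEquiv.ofBijective (AlgHom.mulLeftRight R A) (IsAzumaya.bij (R := R) (A := A))).symm

/-- **Skolem–Noether over a local ring.** -/
theorem exists_unit_conj [IsLocalRing R] (u : A ≃ₐ[R] A) :
    ∃ a : Aˣ, ∀ x : A, u x = (a : A) * x * (a⁻¹ : Aˣ) := by
  have hR := isLGRing_of_isLocalRing R
  have := isAzumaya_env (R := R) (A := A)
  have := projective_tw u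
  have := finite_tw u
  have := projective_tw (AlgEquiv.refl : A ≃ₐ[R] A)
  have := finite_tw (AlgEquiv.refl : A ≃ₐ[R] A)
  have key := AzuLG.nonempty_linearEquiv_of_rankAtStalk_eq (R := R) (Λ := A ⊗[R] Aᵐᵒᵖ)
    (P := Tw (AlgEquiv.refl : A ≃ₐ[R] A)) (Q := Tw u) hR
  obtain ⟨ψ⟩ := key (fun m _ => rfl)
  let e₀ := toTw (AlgEquiv.refl : A ≃ₐ[R] A)
  let c : A := (toTw u).symm (ψ (e₀ 1))
  have hc : ψ (e₀ 1) = toTw u c := rfl
  have h1 : ∀ x : A, (toTw u).symm (ψ (e₀ x)) = u x * c := by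
    intro x
    have h := ψ.map_smul (x ⊗ₜ (1 : Aᵐᵒᵖ)) (e₀ 1)
    rw [smul_def, hc, smul_def, rho_tmul, rho_tmul] at h
    rw [show e₀ ((AlgEquiv.refl : A ≃ₐ[R] A) x * 1 * (1 : Aᵐᵒᵖ).unop) = e₀ x by simp] at h
    rw [h]
    simp
  have h2 : ∀ x : A, (toTw u).symm (ψ (e₀ x)) = c * x := by
    intro x
    have h := ψ.map_smul ((1 : A) ⊗ₜ (op x : Aᵐᵒᵖ)) (e₀ 1)
    rw [smul_def, hc, smul_def, rho_tmul, rho_tmul] at h
    rw [show e₀ ((AlgEquiv.refl : A ≃ₐ[R] A) 1 * 1 * (op x : Aᵐᵒᵖ).unop) = e₀ x by simp] at h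
    rw [h]
    simp
  have h3 : ∀ x : A, u x * c = c * x := fun x => (h1 x).symm.trans (h2 x)
  obtain ⟨y', hy'⟩ := ψ.surjective (toTw u 1)
  obtain ⟨y, rfl⟩ := e₀.surjective y'
  have h4 : c * y = 1 := by rw [← h2 y, hy']; simp
  have h5 : u y * c = 1 := by rw [h3, h4]
  have h6 : u y = y := by
    calc u y = u y * (c * y) := by rw [h4, mul_one]
      _ = (u y * c) * y := by rw [mul_assoc]
      _ = y := by rw [h5, one_mul]
  rw [h6] at h5
  refine ⟨⟨c, y, h4, h5⟩, fun x => ?_⟩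
  change u x = c * x * y
  rw [← h3, mul_assoc, h4, mul_one]

/-- The centre of an Azumaya algebra over a local ring is the base ring. -/
theorem mem_range_of_central [IsLocalRing R] (z : A) (hz : ∀ x : A, z * x = x * z) :
    ∃ r : R, z = algebraMap R A r := by
  obtain ⟨τ, x₀, h⟩ := exists_tau (R := R) (A := A)
  let Lz : Module.End R A := LinearMap.mulLeft R z
  have hcomm : ∀ l : A ⊗[R] Aᵐᵒᵖ, AlgHom.mulLeftRight R A l * Lz = Lz * AlgHom.mulLeftRight R A l := by
    intro l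
    induction l using TensorProduct.induction_on with
    | zero => simp
    | tmul a b =>
      ext x
      simp only [Module.End.mul_apply, AlgHom.mulLeftRight_apply, Lz, LinearMap.mulLeft_apply]
      rw [← mul_assoc a z x, ← hz a, mul_assoc, mul_assoc, mul_assoc]
    | add l₁ l₂ h₁ h₂ => rw [map_add, add_mul, mul_add, h₁, h₂]
  have hall : ∀ f : Module.End R A, f * Lz = Lz * f := by
    intro f
    obtain ⟨l, rfl⟩ := (IsAzumaya.bij (R := R) (A := A)).2 f
    exact hcomm l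
  refine ⟨τ (z * x₀), ?_⟩
  have := LinearMap.congr_fun (hall (τ.smulRight (1 : A))) x₀
  simp only [Module.End.mul_apply, Lz, LinearMap.mulLeft_apply, LinearMap.smulRight_apply, h,
    one_smul, mul_one] at this
  rw [Algebra.algebraMap_eq_smul_one, this]

end Groth.Agent.Lib.Helper98.SkolemLocal
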