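import Groth.Prelude.Def_W4c4lgringredgrpLG
import Mathlib

/-!
# LG-rings: local-global principle for finitely generated projective modules

Main results (`R` an LG-ring):
* `IsLGRing.exists_isUnit_eval`: finite index type version of the LG property, with "value not in `m`"
  as the local hypothesis.
* `nonempty_linearEquiv_of_rankAtStalk_eq`: two f.g. projective modules with the same rank at every
  maximal ideal are isomorphic.
-/

namespace Groth.Agent.Lib.Helper98.LG

open MvPolynomial Module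

universe u v w

variable {R : Type u} [CommRing R]

lemma representsUnit_quotient_of_notMem {σ : Type} (f : MvPolynomial σ R) (m : Ideal R)
    [m.IsMaximal] (s : σ → R) (h : MvPolynomial.eval s f ∉ m) :
    LGRing.RepresentsUnit f (R ⧸ m) := by
  refine ⟨fun i => Ideal.Quotient.mk m (s i), ?_⟩
  have key : aeval (fun i => Ideal.Quotient.mk m (s i)) f = Ideal.Quotient.mk m (eval s f) := by
    have : (aeval (fun i => Ideal.Quotient.mk m (s i)) : MvPolynomial σ R →ₐ[R] R ⧸ m).toRingHom
        = (Ideal.Quotient.mk m).comp (eval s) := by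
      apply MvPolynomial.ringHom_ext
      · intro r; simp
      · intro i; simp
    exact congrArg (fun φ : MvPolynomial σ R →+* R ⧸ m => φ f) this
  rw [key]
  let _ := Ideal.Quotient.field m
  exact IsUnit.mk0 _ (by rwa [Ne, Ideal.Quotient.eq_zero_iff_mem])

/-- The LG property for an arbitrary finite index type, with a convenient local hypothesis. -/
theorem exists_isUnit_eval {σ : Type} [Finite σ] (hR : LGRing.IsLGRing R) (f : MvPolynomial σ R)
    (h : ∀ (m : Ideal R) [m.IsMaximal], ∃ s : σ → R, eval s f ∉ m) :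
    ∃ s : σ → R, IsUnit (eval s f) := by
  obtain ⟨n, ⟨e⟩⟩ := Finite.exists_equiv_fin σ
  have h2 : ∀ (m : Ideal R) [m.IsMaximal], LGRing.RepresentsUnit (rename e f) (R ⧸ m) := by
    intro m _
    obtain ⟨s, hs⟩ := h m
    apply representsUnit_quotient_of_notMem _ m (s ∘ e.symm)
    rw [eval_rename]
    have : (s ∘ e.symm) ∘ e = s := by ext i; simp
    rwa [this]
  obtain ⟨t, ht⟩ := hR n (rename e f) h2
  refine ⟨t ∘ e, ?_⟩
  rw [aeval_rename] at ht
  simpa [MvPolynomial.aeval_def, MvPolynomial.eval, MvPolynomial.eval₂_eq] using ht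


section LinAlg

variable {N : Type w} [AddCommGroup N] [Module R N]

/-- If `θ` is an endomorphism of a direct summand `N` of `R^b` and `i θ π + (1 - i π)` has unit
determinant, then `θ` is bijective. -/
lemma bijective_of_isUnit_det {b : ℕ} (π : (Fin b → R) →ₗ[R] N) (i : N →ₗ[R] (Fin b → R))
    (hπi : π ∘ₗ i = LinearMap.id) (θ : N →ₗ[R] N)
    (h : IsUnit (LinearMap.toMatrix' (i ∘ₗ θ ∘ₗ π + (LinearMap.id - i ∘ₗ π))).det) :
    Function.Bijective θ := by
  have hπi' : ∀ n, π (i n) = n := fun n => congrArg (fun φ : N →ₗ[R] N => φ n) hπi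
  set T : (Fin b → R) →ₗ[R] (Fin b → R) := i ∘ₗ θ ∘ₗ π + (LinearMap.id - i ∘ₗ π) with hT
  have hTe := LinearEquiv.ofIsUnitDet (v := Pi.basisFun R (Fin b)) (v' := Pi.basisFun R (Fin b))
    (f := T) (by rwa [LinearMap.toMatrix_eq_toMatrix'])
  have hTbij : Function.Bijective T := by
    have : (T : (Fin b → R) → (Fin b → R)) = (LinearEquiv.ofIsUnitDet (v := Pi.basisFun R (Fin b))
      (v' := Pi.basisFun R (Fin b)) (f := T) (by rwa [LinearMap.toMatrix_eq_toMatrix'])) := by
      ext x; simp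
    rw [this]; exact LinearEquiv.bijective _
  constructor
  · rw [← LinearMap.ker_eq_bot, LinearMap.ker_eq_bot']
    intro n hn
    have : T (i n) = 0 := by simp [hT, hπi', hn]
    have h0 : i n = 0 := hTbij.1 (by rw [this, map_zero])
    rw [← hπi' n, h0, map_zero]
  · intro n
    obtain ⟨v, hv⟩ := hTbij.2 (i n)
    refine ⟨π v, ?_⟩
    have := congrArg π hv
    simpa [hT, hπi'] using this

lemma det_sub_one_mem {b : ℕ} (m : Ideal R) (A : Matrix (Fin b) (Fin b) R)
    (h : ∀ i j, (A - 1) i j ∈ m) : A.det - 1 ∈ m := by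
  rw [← Ideal.Quotient.eq_zero_iff_mem, map_sub, map_one, sub_eq_zero, RingHom.map_det]
  have : (Ideal.Quotient.mk m).mapMatrix A = 1 := by
    ext i j
    have := h i j
    rw [← Ideal.Quotient.eq_zero_iff_mem] at this
    simp only [Matrix.sub_apply, map_sub, sub_eq_zero] at this
    simp only [RingHom.mapMatrix_apply, Matrix.map_apply, this]
    by_cases hij : i = j <;> simp [Matrix.one_apply, hij]
  rw [this, Matrix.det_one]

end LinAlg


section Poly

variable (R) (a b : ℕ)

/-- index type of the generic pair of matrices -/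
abbrev Idx : Type := (Fin b × Fin a) ⊕ (Fin a × Fin b)

/-- generic `b × a` matrix -/
noncomputable def gX : Matrix (Fin b) (Fin a) (MvPolynomial (Idx a b) R) :=
  Matrix.of fun i j => X (Sum.inl (i, j))

/-- generic `a × b` matrix -/
noncomputable def gY : Matrix (Fin a) (Fin b) (MvPolynomial (Idx a b) R) :=
  Matrix.of fun i j => X (Sum.inr (i, j))

variable {R} {a b}

def matX (s : Idx a b → R) : Matrix (Fin b) (Fin a) R := Matrix.of fun i j => s (Sum.inl (i, j))
def matY (s : Idx a b → R) : Matrix (Fin a) (Fin b) R := Matrix.of fun i j => s (Sum.inr (i, j))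

def tuple (X₀ : Matrix (Fin b) (Fin a) R) (Y₀ : Matrix (Fin a) (Fin b) R) : Idx a b → R :=
  Sum.elim (fun p => X₀ p.1 p.2) (fun p => Y₀ p.1 p.2)

omit [CommRing R] in
@[simp] lemma matX_tuple (X₀ : Matrix (Fin b) (Fin a) R) (Y₀ : Matrix (Fin a) (Fin b) R) :
    matX (tuple X₀ Y₀) = X₀ := by ext i j; simp [matX, tuple]
omit [CommRing R] in
@[simp] lemma matY_tuple (X₀ : Matrix (Fin b) (Fin a) R) (Y₀ : Matrix (Fin a) (Fin b) R) :
    matY (tuple X₀ Y₀) = Y₀ := by ext i j; simp [matY, tuple]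

/-- the polynomial whose unit values detect mutually "inverse up to units" pairs of maps between the
images of the idempotents `EM`, `EN`. -/
noncomputable def polyF (EM : Matrix (Fin a) (Fin a) R) (EN : Matrix (Fin b) (Fin b) R) :
    MvPolynomial (Idx a b) R :=
  let cM : Matrix (Fin a) (Fin a) (MvPolynomial (Idx a b) R) := EM.map C
  let cN : Matrix (Fin b) (Fin b) (MvPolynomial (Idx a b) R) := EN.map C
  (cN * gX R a b * cM * gY R a b * cN + (1 - cN)).det *
  (cM * gY R a b * cN * gX R a b * cM + (1 - cM)).det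

lemma eval_polyF (EM : Matrix (Fin a) (Fin a) R) (EN : Matrix (Fin b) (Fin b) R) (s : Idx a b → R) :
    eval s (polyF EM EN) =
      (EN * matX s * EM * matY s * EN + (1 - EN)).det *
      (EM * matY s * EN * matX s * EM + (1 - EM)).det := by
  have hX : (gX R a b).map (eval s) = matX s := by ext i j; simp [gX, matX]
  have hY : (gY R a b).map (eval s) = matY s := by ext i j; simp [gY, matY]
  have hEM : (EM.map (C : R →+* MvPolynomial (Idx a b) R)).map (eval s) = EM := by ext i j; simp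
  have hEN : (EN.map (C : R →+* MvPolynomial (Idx a b) R)).map (eval s) = EN := by ext i j; simp
  have one_b : (1 : Matrix (Fin b) (Fin b) (MvPolynomial (Idx a b) R)).map (eval s) = 1 :=
    Matrix.map_one _ (map_zero _) (map_one _)
  have one_a : (1 : Matrix (Fin a) (Fin a) (MvPolynomial (Idx a b) R)).map (eval s) = 1 :=
    Matrix.map_one _ (map_zero _) (map_one _)
  have hadd : ∀ {n : Type} (A B : Matrix n n (MvPolynomial (Idx a b) R)),
      (A + B).map (eval s) = A.map (eval s) + B.map (eval s) :=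
    fun A B => Matrix.map_add _ (map_add _) A B
  have hsub : ∀ {n : Type} (A B : Matrix n n (MvPolynomial (Idx a b) R)),
      (A - B).map (eval s) = A.map (eval s) - B.map (eval s) :=
    fun A B => Matrix.map_sub _ (map_sub _) A B
  simp only [polyF, map_mul, RingHom.map_det, RingHom.mapMatrix_apply, hadd, hsub,
    Matrix.map_mul, hX, hY, hEM, hEN, one_a, one_b]

end Poly


section Main

variable {M : Type v} {N : Type w} [AddCommGroup M] [Module R M] [Module.Finite R M]
  [Module.Projective R M] [AddCommGroup N] [Module R N] [Module.Finite R N] [Module.Projective R N]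

/-- Local-global principle for isomorphism of f.g. projective modules over an LG-ring, with the
local hypothesis expressed through lifts to `R`. -/
theorem nonempty_linearEquiv_of_local (hR : LGRing.IsLGRing R)
    (h : ∀ (m : Ideal R) [m.IsMaximal], ∃ (α : M →ₗ[R] N) (β : N →ₗ[R] M),
      (∀ (ℓ : N →ₗ[R] R) (n : N), ℓ (α (β n)) - ℓ n ∈ m) ∧
      (∀ (ℓ : M →ₗ[R] R) (x : M), ℓ (β (α x)) - ℓ x ∈ m)) : Nonempty (M ≃ₗ[R] N) := by
  obtain ⟨a, πM, iM, -, -, hM⟩ := Module.Finite.exists_comp_eq_id_of_projective R M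
  obtain ⟨b, πN, iN, -, -, hN⟩ := Module.Finite.exists_comp_eq_id_of_projective R N
  have hM' : ∀ x, πM (iM x) = x := fun x => congrArg (fun φ : M →ₗ[R] M => φ x) hM
  have hN' : ∀ x, πN (iN x) = x := fun x => congrArg (fun φ : N →ₗ[R] N => φ x) hN
  set EM := LinearMap.toMatrix' (iM ∘ₗ πM) with hEM
  set EN := LinearMap.toMatrix' (iN ∘ₗ πN) with hEN
  have hA : ∀ (x : (Fin a → R) →ₗ[R] (Fin b → R)) (y : (Fin b → R) →ₗ[R] (Fin a → R)),
      EN * LinearMap.toMatrix' x * EM * LinearMap.toMatrix' y * EN + (1 - EN) =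
        LinearMap.toMatrix' (iN ∘ₗ ((πN ∘ₗ x ∘ₗ iM) ∘ₗ (πM ∘ₗ y ∘ₗ iN)) ∘ₗ πN +
          (LinearMap.id - iN ∘ₗ πN)) := by
    intro x y
    rw [hEM, hEN, ← LinearMap.toMatrix'_comp, ← LinearMap.toMatrix'_comp,
      ← LinearMap.toMatrix'_comp, ← LinearMap.toMatrix'_comp, ← LinearMap.toMatrix'_id,
      ← map_sub, ← map_add]
    rfl
  have hB : ∀ (x : (Fin a → R) →ₗ[R] (Fin b → R)) (y : (Fin b → R) →ₗ[R] (Fin a → R)),
      EM * LinearMap.toMatrix' y * EN * LinearMap.toMatrix' x * EM + (1 - EM) =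
        LinearMap.toMatrix' (iM ∘ₗ ((πM ∘ₗ y ∘ₗ iN) ∘ₗ (πN ∘ₗ x ∘ₗ iM)) ∘ₗ πM +
          (LinearMap.id - iM ∘ₗ πM)) := by
    intro x y
    rw [hEM, hEN, ← LinearMap.toMatrix'_comp, ← LinearMap.toMatrix'_comp,
      ← LinearMap.toMatrix'_comp, ← LinearMap.toMatrix'_comp, ← LinearMap.toMatrix'_id,
      ← map_sub, ← map_add]
    rfl
  obtain ⟨s, hs⟩ := exists_isUnit_eval hR (polyF EM EN) (by
    intro m _
    obtain ⟨α, β, h1, h2⟩ := h m
    set x : (Fin a → R) →ₗ[R] (Fin b → R) := iN ∘ₗ α ∘ₗ πM with hx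
    set y : (Fin b → R) →ₗ[R] (Fin a → R) := iM ∘ₗ β ∘ₗ πN with hy
    refine ⟨tuple (LinearMap.toMatrix' x) (LinearMap.toMatrix' y), ?_⟩
    rw [eval_polyF, matX_tuple, matY_tuple, hA, hB]
    have e1 : πN ∘ₗ x ∘ₗ iM = α := by ext v; simp [hx, hM', hN']
    have e2 : πM ∘ₗ y ∘ₗ iN = β := by ext v; simp [hy, hM', hN']
    rw [e1, e2]
    have d1 := det_sub_one_mem m (LinearMap.toMatrix' (iN ∘ₗ (α ∘ₗ β) ∘ₗ πN +
          (LinearMap.id - iN ∘ₗ πN))) (by
      intro i j
      have := h1 ((LinearMap.proj i) ∘ₗ iN) (πN (Pi.single j 1))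
      simp only [Matrix.sub_apply, LinearMap.toMatrix'_apply, Matrix.one_apply]
      convert this using 1
      simp [Pi.single_apply]
      ring)
    have d2 := det_sub_one_mem m (LinearMap.toMatrix' (iM ∘ₗ (β ∘ₗ α) ∘ₗ πM +
          (LinearMap.id - iM ∘ₗ πM))) (by
      intro i j
      have := h2 ((LinearMap.proj i) ∘ₗ iM) (πM (Pi.single j 1))
      simp only [Matrix.sub_apply, LinearMap.toMatrix'_apply, Matrix.one_apply]
      convert this using 1
      simp [Pi.single_apply]
      ring)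
    intro hmem
    rw [← Ideal.Quotient.eq_zero_iff_mem] at d1 d2 hmem
    rw [map_sub, sub_eq_zero, map_one] at d1 d2
    rw [map_mul, d1, d2, one_mul] at hmem
    exact one_ne_zero hmem)
  rw [eval_polyF, IsUnit.mul_iff] at hs
  obtain ⟨hs1, hs2⟩ := hs
  set x : (Fin a → R) →ₗ[R] (Fin b → R) := Matrix.toLin' (matX s) with hx
  set y : (Fin b → R) →ₗ[R] (Fin a → R) := Matrix.toLin' (matY s) with hy
  have hx' : matX s = LinearMap.toMatrix' x := by simp [hx]
  have hy' : matY s = LinearMap.toMatrix' y := by simp [hy]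
  rw [hx', hy', hA] at hs1
  rw [hx', hy', hB] at hs2
  have b1 := bijective_of_isUnit_det πN iN hN _ hs1
  have b2 := bijective_of_isUnit_det πM iM hM _ hs2
  refine ⟨LinearEquiv.ofBijective (πN ∘ₗ x ∘ₗ iM) ⟨?_, ?_⟩⟩
  · exact Function.Injective.of_comp (f := (πM ∘ₗ y ∘ₗ iN)) b2.1
  · exact Function.Surjective.of_comp (g := (πM ∘ₗ y ∘ₗ iN)) b1.2


open TensorProduct in
/-- If `1 ⊗ n = 0` in `κ(m) ⊗ N` then every linear form sends `n` into `m`. -/
lemma form_mem_of_tmul_eq_zero (m : Ideal R) [m.IsMaximal] {N : Type w} [AddCommGroup N]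
    [Module R N] (n : N) (hn : (1 : m.ResidueField) ⊗ₜ[R] n = 0) (ℓ : N →ₗ[R] R) : ℓ n ∈ m := by
  have := congrArg (fun t => TensorProduct.rid R m.ResidueField (LinearMap.lTensor m.ResidueField ℓ t)) hn
  simp only [LinearMap.lTensor_tmul, TensorProduct.rid_tmul, map_zero] at this
  rwa [Algebra.smul_def, mul_one, Ideal.algebraMap_residueField_eq_zero] at this

open TensorProduct in
lemma mk_one_surjective (m : Ideal R) [m.IsMaximal] (N : Type w) [AddCommGroup N] [Module R N] :
    Function.Surjective (TensorProduct.mk R m.ResidueField N 1) := by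
  intro t
  induction t using TensorProduct.induction_on with
  | zero => exact ⟨0, map_zero _⟩
  | tmul c n =>
    obtain ⟨r, rfl⟩ := Ideal.algebraMap_residueField_surjective m c
    refine ⟨r • n, ?_⟩
    rw [TensorProduct.mk_apply, TensorProduct.tmul_smul, TensorProduct.smul_tmul', Algebra.smul_def,
      mul_one]
  | add x y hx hy =>
    obtain ⟨x', rfl⟩ := hx
    obtain ⟨y', rfl⟩ := hy
    exact ⟨x' + y', map_add _ _ _⟩

open TensorProduct in
/-- Equal ranks at a maximal ideal give mutually inverse (mod `m`) maps. -/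
theorem exists_lifts_of_rankAtStalk_eq (m : Ideal R) [hm : m.IsMaximal]
    (h : rankAtStalk M ⟨m, hm.isPrime⟩ = rankAtStalk N ⟨m, hm.isPrime⟩) :
    ∃ (α : M →ₗ[R] N) (β : N →ₗ[R] M),
      (∀ (ℓ : N →ₗ[R] R) (n : N), ℓ (α (β n)) - ℓ n ∈ m) ∧
      (∀ (ℓ : M →ₗ[R] R) (x : M), ℓ (β (α x)) - ℓ x ∈ m) := by
  have := hm.isPrime
  rw [rankAtStalk_eq, rankAtStalk_eq] at h
  let K := m.ResidueField
  let e : (K ⊗[R] M) ≃ₗ[K] (K ⊗[R] N) := LinearEquiv.ofFinrankEq _ _ h
  let tM := TensorProduct.mk R K M 1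
  let tN := TensorProduct.mk R K N 1
  obtain ⟨α, hα⟩ := Module.projective_lifting_property tN
    ((e.restrictScalars R).toLinearMap ∘ₗ tM) (mk_one_surjective m N)
  obtain ⟨β, hβ⟩ := Module.projective_lifting_property tM
    ((e.symm.restrictScalars R).toLinearMap ∘ₗ tN) (mk_one_surjective m M)
  have hα' : ∀ x, tN (α x) = e (tM x) := fun x => congrArg (fun φ : M →ₗ[R] K ⊗[R] N => φ x) hα
  have hβ' : ∀ y, tM (β y) = e.symm (tN y) := fun y => congrArg (fun φ : N →ₗ[R] K ⊗[R] M => φ y) hβ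
  refine ⟨α, β, ?_, ?_⟩
  · intro ℓ n
    rw [← map_sub]
    apply form_mem_of_tmul_eq_zero m
    have : tN (α (β n) - n) = 0 := by rw [map_sub, hα', hβ', e.apply_symm_apply, sub_self]
    exact this
  · intro ℓ x
    rw [← map_sub]
    apply form_mem_of_tmul_eq_zero m
    have : tM (β (α x) - x) = 0 := by rw [map_sub, hβ', hα', e.symm_apply_apply, sub_self]
    exact this

/-- **Local-global principle** for f.g. projective modules over an LG-ring: equal ranks at all
maximal ideals implies isomorphic. -/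
theorem nonempty_linearEquiv_of_rankAtStalk_eq (hR : LGRing.IsLGRing R)
    (h : ∀ (m : Ideal R) [hm : m.IsMaximal],
      rankAtStalk M ⟨m, hm.isPrime⟩ = rankAtStalk N ⟨m, hm.isPrime⟩) : Nonempty (M ≃ₗ[R] N) :=
  nonempty_linearEquiv_of_local hR fun m _ => exists_lifts_of_rankAtStalk_eq m (h m)

end Main

end Groth.Agent.Lib.Helper98.LG
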