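import Groth.Agent.Lib.Helper98.AzuCorner
import Groth.Agent.S16598

/-!
# Cancellation `A ⊗ End P ≅ B ⊗ End Q ⇒ A ≅ B` for Azumaya algebras of the same degree over an
LG-ring
-/

namespace Groth.Agent.Lib.Helper98.AzuBrauer

open Module TensorProduct AzuCorner AzuIdem

universe u v₁ v₂ w₁ w₂

variable {R : Type u} [CommRing R]

lemma rankAtStalk_end (P : Type w₁) [AddCommGroup P] [Module R P] [Module.Finite R P]
    [Module.Projective R P] (p : PrimeSpectrum R) :
    rankAtStalk (Module.End R P) p = rankAtStalk P p * rankAtStalk P p := by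
  rw [rankAtStalk_eq, rankAtStalk_eq]
  let κ := p.asIdeal.ResidueField
  let e : κ ⊗[R] Module.End R P ≃ₗ[κ] Module.End κ (κ ⊗[R] P) :=
    LinearEquiv.ofBijective (Groth.Agent.Lib.Helper46.Azumaya.endBC R κ P)
      (Groth.Agent.Lib.Helper46.Azumaya.endBC_bijective R κ P)
  rw [e.finrank_eq, Module.finrank_linearMap]

lemma rankAtStalk_pos_of_faithful (M : Type w₁) [AddCommGroup M] [Module R M] [Module.Finite R M]
    [Module.Projective R M] [FaithfulSMul R M] (p : PrimeSpectrum R) : 0 < rankAtStalk M p := by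
  rw [Module.rankAtStalk_pos_iff_mem_support, Module.support_eq_zeroLocus]
  have : Module.annihilator R M = ⊥ := by
    rw [eq_bot_iff]
    intro r hr
    rw [Module.mem_annihilator] at hr
    have : r = 0 := by
      apply FaithfulSMul.eq_of_smul_eq_smul (α := M)
      intro n; rw [hr n, zero_smul]
    simpa using this
  rw [this]
  simp


/-- transport of a left ideal `Λ' ε` along an algebra isomorphism -/
def lidMap {Λ' : Type v₁} {Λ : Type v₂} [Ring Λ'] [Ring Λ] [Algebra R Λ'] [Algebra R Λ]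
    (e : Λ' ≃ₐ[R] Λ) {ε : Λ'} (hε : ε * ε = ε) : Lid ε ≃ₗ[R] Lid (e ε) where
  toFun z := ⟨e z.1, (mem_Lid (by rw [← map_mul, hε])).mpr (by
    rw [← map_mul, (mem_Lid hε).mp z.2])⟩
  map_add' z w := by ext; simp
  map_smul' r z := by ext; simp
  invFun z := ⟨e.symm z.1, (mem_Lid hε).mpr (by
    have h := (mem_Lid (show e ε * e ε = e ε by rw [← map_mul, hε])).mp z.2
    apply e.injective
    rw [map_mul, e.apply_symm_apply, h])⟩
  left_inv z := by ext; simp
  right_inv z := by ext; simp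

theorem nonempty_algEquiv_of_tensor_end (hR : LGRing.IsLGRing R)
    (A : Type v₁) (B : Type v₂) [Ring A] [Algebra R A] [IsAzumaya R A] [Ring B] [Algebra R B]
    [IsAzumaya R B]
    (hdeg : ∀ p : PrimeSpectrum R, rankAtStalk A p = rankAtStalk B p)
    (P : Type w₁) (Q : Type w₂) [AddCommGroup P] [Module R P] [Module.Finite R P]
    [Module.Projective R P] [FaithfulSMul R P]
    [AddCommGroup Q] [Module R Q] [Module.Finite R Q] [Module.Projective R Q] [FaithfulSMul R Q]
    (e : A ⊗[R] Module.End R P ≃ₐ[R] B ⊗[R] Module.End R Q) : Nonempty (A ≃ₐ[R] B) := by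
  obtain ⟨p₀, f₁, h₁⟩ := Groth.Agent.S16598.result hR P
  obtain ⟨q₀, f₂, h₂⟩ := Groth.Agent.S16598.result hR Q
  have hEndQ : IsAzumaya R (Module.End R Q) := Groth.Agent.Lib.Helper46.Azumaya.isAzumaya_end R Q
  have hΛ : IsAzumaya R (B ⊗[R] Module.End R Q) :=
    Groth.Agent.Lib.Helper46.Azumaya.isAzumaya_tensorProduct R B (Module.End R Q)
  set ε₁ := epsE A p₀ f₁ with hε₁
  set ε₂ := epsE B q₀ f₂ with hε₂
  have i₁ : ε₁ * ε₁ = ε₁ := epsE_idem A h₁
  have i₂ : ε₂ * ε₂ = ε₂ := epsE_idem B h₂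
  have i₁' : e ε₁ * e ε₁ = e ε₁ := by rw [← map_mul, i₁]
  -- ranks
  have hrank : ∀ (m : Ideal R) [hm : m.IsMaximal],
      rankAtStalk (Lid (e ε₁)) ⟨m, hm.isPrime⟩ = rankAtStalk (Lid ε₂) ⟨m, hm.isPrime⟩ := by
    intro m hm
    set p : PrimeSpectrum R := ⟨m, hm.isPrime⟩
    have r1 : rankAtStalk (Lid (e ε₁)) p = rankAtStalk A p * rankAtStalk P p := by
      rw [← congrFun (rankAtStalk_eq_of_equiv (lidMap e i₁)) p,
        congrFun (rankAtStalk_eq_of_equiv (lidEquiv A h₁)) p, rankAtStalk_tensorProduct]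
      rfl
    have r2 : rankAtStalk (Lid ε₂) p = rankAtStalk B p * rankAtStalk Q p := by
      rw [congrFun (rankAtStalk_eq_of_equiv (lidEquiv B h₂)) p, rankAtStalk_tensorProduct]
      rfl
    have r3 := congrFun (rankAtStalk_eq_of_equiv e.toLinearEquiv) p
    rw [rankAtStalk_tensorProduct, rankAtStalk_tensorProduct] at r3
    simp only [Pi.mul_apply, rankAtStalk_end] at r3
    rw [hdeg p] at r3 r1
    have hpos := rankAtStalk_pos_of_faithful B p
    have r4 : rankAtStalk P p * rankAtStalk P p = rankAtStalk Q p * rankAtStalk Q p :=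
      Nat.eq_of_mul_eq_mul_left hpos r3
    have r5 : rankAtStalk P p = rankAtStalk Q p := Nat.mul_self_inj.mp r4
    rw [r1, r2, r5]
  obtain ⟨x, y, hxy, hyx, hax, hxa, hay, hya⟩ := exists_equiv_idem hR i₁' i₂ hrank
  -- the maps
  let ιA := iotaE A p₀ f₁
  let ιB := iotaE B q₀ f₂
  let τA := tauE A p₀ f₁
  let τB := tauE B q₀ f₂
  let Z : A → B ⊗[R] Module.End R Q := fun a => y * e (ιA a) * x
  let W : B → B ⊗[R] Module.End R Q := fun b => x * ιB b * y
  have hZc : ∀ a, ε₂ * Z a * ε₂ = Z a := by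
    intro a
    calc ε₂ * (y * e (ιA a) * x) * ε₂ = (ε₂ * y) * e (ιA a) * (x * ε₂) := by simp only [mul_assoc]
      _ = _ := by rw [hay, hxa]
  have hZmul : ∀ a a', Z (a * a') = Z a * Z a' := by
    intro a a'
    calc y * e (ιA (a * a')) * x = y * e (ιA a * ε₁ * ιA a') * x := by
          rw [iotaE_mul_epsE A h₁, ← iotaE_mul A h₁]
      _ = y * e (ιA a) * (e ε₁) * e (ιA a') * x := by simp only [map_mul, mul_assoc]
      _ = y * e (ιA a) * (x * y) * e (ιA a') * x := by rw [hxy]
      _ = y * e (ιA a) * x * (y * e (ιA a') * x) := by simp only [mul_assoc]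
  have hΦmul : ∀ a a', τB (Z (a * a')) = τB (Z a) * τB (Z a') := by
    intro a a'
    rw [hZmul]
    exact tauE_mul_of_corner B h₂ _ _ (hZc a) (hZc a')
  have hΦone : τB (Z 1) = 1 := by
    have : Z 1 = ιB 1 := by
      show y * e (ιA 1) * x = _
      rw [show ιA 1 = ε₁ from rfl, hya, hyx]
      rfl
    rw [this]
    exact tauE_iotaE B h₂ 1
  have hleft : ∀ a, τA (e.symm (W (τB (Z a)))) = a := by
    intro a
    have h1 : ιB (τB (Z a)) = Z a := by rw [show ιB (τB (Z a)) = _ from iotaE_tauE B _, hZc]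
    have h2 : W (τB (Z a)) = e (ε₁ * ιA a * ε₁) := by
      show x * ιB (τB (Z a)) * y = _
      rw [h1]
      calc x * (y * e (ιA a) * x) * y = (x * y) * e (ιA a) * (x * y) := by simp only [mul_assoc]
        _ = _ := by rw [hxy]; simp only [map_mul]
    rw [h2, e.symm_apply_apply, epsE_mul_iotaE A h₁, iotaE_mul_epsE A h₁]
    exact tauE_iotaE A h₁ a
  have hright : ∀ b, τB (Z (τA (e.symm (W b)))) = b := by
    intro b
    have h1 : ιA (τA (e.symm (W b))) = ε₁ * e.symm (W b) * ε₁ := iotaE_tauE A _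
    have h2 : e (ιA (τA (e.symm (W b)))) = W b := by
      rw [h1, map_mul, map_mul, e.apply_symm_apply]
      calc e ε₁ * (x * ιB b * y) * e ε₁ = (e ε₁ * x) * ιB b * (y * e ε₁) := by
            simp only [mul_assoc]
        _ = _ := by rw [hax, hya]
    show τB (y * e (ιA (τA (e.symm (W b)))) * x) = b
    rw [h2]
    calc τB (y * (x * ιB b * y) * x) = τB ((y * x) * ιB b * (y * x)) := by simp only [mul_assoc]
      _ = τB (ιB b) := by rw [hyx, epsE_mul_iotaE B h₂, iotaE_mul_epsE B h₂]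
      _ = b := tauE_iotaE B h₂ b
  have hΦadd : ∀ a a', τB (Z (a + a')) = τB (Z a) + τB (Z a') := by
    intro a a'
    show τB (y * e (ιA (a + a')) * x) = _
    rw [map_add, map_add, mul_add, add_mul, map_add]
  have hΦsmul : ∀ (r : R) a, τB (Z (r • a)) = r • τB (Z a) := by
    intro r a
    show τB (y * e (ιA (r • a)) * x) = _
    rw [map_smul, map_smul, mul_smul_comm, smul_mul_assoc, map_smul]
  exact ⟨{ toFun := fun a => τB (Z a)
           invFun := fun b => τA (e.symm (W b))
           left_inv := hleft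
           right_inv := hright
           map_mul' := hΦmul
           map_add' := hΦadd
           commutes' := fun r => by
             rw [Algebra.algebraMap_eq_smul_one, hΦsmul, hΦone, Algebra.algebraMap_eq_smul_one] }⟩

end Groth.Agent.Lib.Helper98.AzuBrauer
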