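import Groth.Agent.Lib.Helper98.AzuHensel
import Groth.Agent.Lib.Helper98.AzuBrauer
import Groth.Agent.Lib.Helper98.SkolemLocal
import Groth.Agent.Lib.Helper98.AzuMat

set_option autoImplicit false

namespace Groth.Agent.Lib.Helper98.AzuHenselIso
open IsLocalRing TensorProduct MulOpposite

universe u
variable (R : Type u) [CommRing R] [HenselianLocalRing R] (A : Type u) [Ring A] [Algebra R A]
  [IsAzumaya R A] (B : Type u) [Ring B] [Algebra R B] [IsAzumaya R B]

/-- the representation of `A ⊗ Bᵐᵒᵖ` on `k ⊗ B` induced by an isomorphism of special fibres -/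
noncomputable def rho (e₀ : (ResidueField R ⊗[R] A) ≃ₐ[ResidueField R] (ResidueField R ⊗[R] B)) :
    A ⊗[R] Bᵐᵒᵖ →ₐ[R] Module.End (ResidueField R) (ResidueField R ⊗[R] B) :=
  Algebra.TensorProduct.lift
    (((Algebra.lmul (ResidueField R) (ResidueField R ⊗[R] B)).restrictScalars R).comp
      ((e₀.toAlgHom.restrictScalars R).comp
        (Algebra.TensorProduct.includeRight : A →ₐ[R] ResidueField R ⊗[R] A)))
    ({ toFun := fun b => LinearMap.mulRight (ResidueField R) ((1 : ResidueField R) ⊗ₜ[R] b.unop)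
       map_one' := by ext; simp
       map_mul' := fun a b => by
         ext x
         simp [← mul_assoc, Algebra.TensorProduct.tmul_mul_tmul]
       map_zero' := by ext; simp
       map_add' := fun a b => by ext; simp [TensorProduct.tmul_add, mul_add]
       commutes' := fun r => by
         ext x
         simp [Algebra.algebraMap_eq_smul_one, TensorProduct.tmul_smul] } :
      Bᵐᵒᵖ →ₐ[R] Module.End (ResidueField R) (ResidueField R ⊗[R] B))
    (fun a b => show Commute _ _ from by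
      unfold Commute SemiconjBy
      ext x
      simp [mul_assoc])

variable {R A B}

lemma rho_tmul (e₀ : (ResidueField R ⊗[R] A) ≃ₐ[ResidueField R] (ResidueField R ⊗[R] B))
    (a : A) (b : Bᵐᵒᵖ) (x : ResidueField R ⊗[R] B) :
    rho R A B e₀ (a ⊗ₜ b) x = e₀ ((1 : ResidueField R) ⊗ₜ a) * x * ((1 : ResidueField R) ⊗ₜ b.unop) := by
  unfold rho
  rw [Algebra.TensorProduct.lift_tmul, Module.End.mul_apply]
  simp [mul_assoc]

lemma rho_surjective (e₀ : (ResidueField R ⊗[R] A) ≃ₐ[ResidueField R] (ResidueField R ⊗[R] B)) :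
    Function.Surjective (rho R A B e₀) := by
  have : IsAzumaya (ResidueField R) (ResidueField R ⊗[R] B) :=
    Groth.Agent.Lib.Helper46.Azumaya.isAzumaya_baseChange R (ResidueField R) B
  intro φ
  obtain ⟨t, rfl⟩ := (IsAzumaya.bij (R := ResidueField R) (A := ResidueField R ⊗[R] B)).2 φ
  induction t using TensorProduct.induction_on with
  | zero => exact ⟨0, by simp⟩
  | tmul v w =>
    obtain ⟨a, ha⟩ := TensorProduct.mk_surjective R A (ResidueField R) residue_surjective (e₀.symm v)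
    obtain ⟨b, hb⟩ := TensorProduct.mk_surjective R B (ResidueField R) residue_surjective w.unop
    refine ⟨a ⊗ₜ op b, ?_⟩
    apply LinearMap.ext
    intro x
    rw [rho_tmul, AlgHom.mulLeftRight_apply]
    simp only [TensorProduct.mk_apply] at ha hb
    rw [ha, unop_op, hb, AlgEquiv.apply_symm_apply]
  | add t₁ t₂ h₁ h₂ =>
    obtain ⟨d₁, h₁⟩ := h₁
    obtain ⟨d₂, h₂⟩ := h₂
    exact ⟨d₁ + d₂, by rw [map_add, map_add, h₁, h₂]⟩

lemma rho_ker (e₀ : (ResidueField R ⊗[R] A) ≃ₐ[ResidueField R] (ResidueField R ⊗[R] B))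
    (d : A ⊗[R] Bᵐᵒᵖ) (hd : rho R A B e₀ d = 0) :
    d ∈ (maximalIdeal R • ⊤ : Submodule R (A ⊗[R] Bᵐᵒᵖ)) := by
  have : IsAzumaya R Bᵐᵒᵖ := AzuHensel.isAzumaya_op R B
  have : IsAzumaya R (A ⊗[R] Bᵐᵒᵖ) :=
    Groth.Agent.Lib.Helper46.Azumaya.isAzumaya_tensorProduct R A Bᵐᵒᵖ
  have : IsAzumaya (ResidueField R) (ResidueField R ⊗[R] (A ⊗[R] Bᵐᵒᵖ)) :=
    Groth.Agent.Lib.Helper46.Azumaya.isAzumaya_baseChange R (ResidueField R) (A ⊗[R] Bᵐᵒᵖ)
  have : IsSimpleRing (ResidueField R ⊗[R] (A ⊗[R] Bᵐᵒᵖ)) :=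
    AzuField.isSimpleRing_of_isAzumaya (ResidueField R) (ResidueField R ⊗[R] (A ⊗[R] Bᵐᵒᵖ))
  have : IsAzumaya (ResidueField R) (ResidueField R ⊗[R] B) :=
    Groth.Agent.Lib.Helper46.Azumaya.isAzumaya_baseChange R (ResidueField R) B
  have : Nontrivial (ResidueField R ⊗[R] B) := AzuField.nontrivial_of_isAzumaya (ResidueField R) _
  let ρ₀ : ResidueField R ⊗[R] (A ⊗[R] Bᵐᵒᵖ) →ₐ[ResidueField R]
      Module.End (ResidueField R) (ResidueField R ⊗[R] B) :=
    Algebra.TensorProduct.lift (Algebra.ofId (ResidueField R) _) (rho R A B e₀)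
      (fun c d => show Commute (Algebra.ofId (ResidueField R) _ c) (rho R A B e₀ d) from
        Algebra.commute_algebraMap_left c _)
  have hinj : Function.Injective ρ₀ := fun x y h => RingHom.injective ρ₀.toRingHom h
  have h1 : ρ₀ ((1 : ResidueField R) ⊗ₜ d) = 0 := by
    show (Algebra.TensorProduct.lift (Algebra.ofId (ResidueField R) _) (rho R A B e₀) _)
      ((1 : ResidueField R) ⊗ₜ d) = 0
    rw [Algebra.TensorProduct.lift_tmul, map_one, one_mul]
    exact hd
  have h2 : (1 : ResidueField R) ⊗ₜ[R] d = 0 := hinj (by rw [h1, map_zero])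
  have h3 : (TensorProduct.quotTensorEquivQuotSMul (A ⊗[R] Bᵐᵒᵖ) (maximalIdeal R))
      ((1 : R ⧸ maximalIdeal R) ⊗ₜ[R] d) = 0 := by
    have : ((1 : R ⧸ maximalIdeal R) ⊗ₜ[R] d) = 0 := h2
    rw [this, map_zero]
  rw [TensorProduct.quotTensorEquivQuotSMul_mk_one_tmul] at h3
  exact (Submodule.Quotient.mk_eq_zero _).mp h3

/-- Azumaya algebras over a henselian local ring with isomorphic special fibres are isomorphic. -/
theorem nonempty_algEquiv
    (e₀ : (ResidueField R ⊗[R] A) ≃ₐ[ResidueField R] (ResidueField R ⊗[R] B)) :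
    Nonempty (A ≃ₐ[R] B) := by
  have hBop : IsAzumaya R Bᵐᵒᵖ := AzuHensel.isAzumaya_op R B
  have hD : IsAzumaya R (A ⊗[R] Bᵐᵒᵖ) :=
    Groth.Agent.Lib.Helper46.Azumaya.isAzumaya_tensorProduct R A Bᵐᵒᵖ
  have hV : IsAzumaya (ResidueField R) (ResidueField R ⊗[R] B) :=
    Groth.Agent.Lib.Helper46.Azumaya.isAzumaya_baseChange R (ResidueField R) B
  have hnt : Nontrivial (ResidueField R ⊗[R] B) :=
    AzuField.nontrivial_of_isAzumaya (ResidueField R) _
  obtain ⟨Q, iQ1, iQ2, hfin, hproj, hfaith, ⟨ψ⟩⟩ :=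
    AzuHensel.exists_algEquiv_end (D := A ⊗[R] Bᵐᵒᵖ) (V := ResidueField R ⊗[R] B)
      (rho R A B e₀) (rho_surjective e₀) (rho_ker e₀)
  let φB : B ⊗[R] Bᵐᵒᵖ ≃ₐ[R] Module.End R B :=
    AlgEquiv.ofBijective (AlgHom.mulLeftRight R B) IsAzumaya.bij
  let e' : A ⊗[R] Module.End R B ≃ₐ[R] B ⊗[R] Module.End R Q :=
    (Algebra.TensorProduct.congr AlgEquiv.refl φB.symm).trans <|
    (Algebra.TensorProduct.congr AlgEquiv.refl (Algebra.TensorProduct.comm R B Bᵐᵒᵖ)).trans <|
    (Algebra.TensorProduct.assoc R R R A Bᵐᵒᵖ B).symm.trans <|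
    (Algebra.TensorProduct.congr ψ AlgEquiv.refl).trans <|
    Algebra.TensorProduct.comm R (Module.End R Q) B
  have hR := SkolemLocal.isLGRing_of_isLocalRing R
  have hfreeA : Module.Free R A := Module.free_of_flat_of_isLocalRing
  have hfreeB : Module.Free R B := Module.free_of_flat_of_isLocalRing
  have hrk : Module.finrank R A = Module.finrank R B := by
    rw [← Module.finrank_baseChange (R := ResidueField R) (S := R) (M' := A),
      ← Module.finrank_baseChange (R := ResidueField R) (S := R) (M' := B)]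
    exact e₀.toLinearEquiv.finrank_eq
  have hdeg : ∀ p : PrimeSpectrum R, Module.rankAtStalk A p = Module.rankAtStalk B p := by
    intro p
    rw [Module.rankAtStalk_eq_finrank_of_free, Module.rankAtStalk_eq_finrank_of_free]
    simp only [Pi.natCast_apply, Nat.cast_id]
    exact hrk
  exact AzuBrauer.nonempty_algEquiv_of_tensor_end hR A B hdeg B Q e'

lemma mem_smul_top_of_tmul_eq_zero {M : Type*} [AddCommGroup M] [Module R M] (z : M)
    (h : (1 : ResidueField R) ⊗ₜ[R] z = 0) : z ∈ (maximalIdeal R • ⊤ : Submodule R M) := by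
  have h3 : (TensorProduct.quotTensorEquivQuotSMul M (maximalIdeal R))
      ((1 : R ⧸ maximalIdeal R) ⊗ₜ[R] z) = 0 := by
    have : ((1 : R ⧸ maximalIdeal R) ⊗ₜ[R] z) = 0 := h
    rw [this, map_zero]
  rw [TensorProduct.quotTensorEquivQuotSMul_mk_one_tmul] at h3
  exact (Submodule.Quotient.mk_eq_zero _).mp h3

/-- **Lifting isomorphisms of special fibres of Azumaya algebras over a henselian local ring.** -/
theorem exists_algEquiv_lift
    (e₀ : (ResidueField R ⊗[R] A) ≃ₐ[ResidueField R] (ResidueField R ⊗[R] B)) :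
    ∃ e : A ≃ₐ[R] B, ∀ a : A,
      e₀ ((1 : ResidueField R) ⊗ₜ[R] a) = (1 : ResidueField R) ⊗ₜ[R] (e a) := by
  obtain ⟨e₁⟩ := nonempty_algEquiv e₀
  have hV : IsAzumaya (ResidueField R) (ResidueField R ⊗[R] B) :=
    Groth.Agent.Lib.Helper46.Azumaya.isAzumaya_baseChange R (ResidueField R) B
  let ē₁ : (ResidueField R ⊗[R] A) ≃ₐ[ResidueField R] (ResidueField R ⊗[R] B) :=
    Algebra.TensorProduct.congr (AlgEquiv.refl : ResidueField R ≃ₐ[ResidueField R] ResidueField R) e₁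
  have hē₁ : ∀ a : A, ē₁ ((1 : ResidueField R) ⊗ₜ[R] a) = (1 : ResidueField R) ⊗ₜ[R] (e₁ a) := by
    intro a; simp [ē₁]
  let θ : (ResidueField R ⊗[R] B) ≃ₐ[ResidueField R] (ResidueField R ⊗[R] B) := ē₁.symm.trans e₀
  obtain ⟨u, hu⟩ := SkolemLocal.exists_unit_conj (R := ResidueField R)
    (A := ResidueField R ⊗[R] B) θ
  obtain ⟨b, hb⟩ := TensorProduct.mk_surjective R B (ResidueField R) residue_surjective
    (u : ResidueField R ⊗[R] B)
  obtain ⟨b', hb'⟩ := TensorProduct.mk_surjective R B (ResidueField R) residue_surjective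
    ((u⁻¹ : (ResidueField R ⊗[R] B)ˣ) : ResidueField R ⊗[R] B)
  simp only [TensorProduct.mk_apply] at hb hb'
  have hmul : ∀ y z : B, (1 : ResidueField R) ⊗ₜ[R] (y * z) =
      ((1 : ResidueField R) ⊗ₜ[R] y) * ((1 : ResidueField R) ⊗ₜ[R] z) := by
    intro y z
    rw [Algebra.TensorProduct.tmul_mul_tmul, one_mul]
  have h1 : b * b' - 1 ∈ (maximalIdeal R • ⊤ : Submodule R B) := by
    apply mem_smul_top_of_tmul_eq_zero
    rw [TensorProduct.tmul_sub, hmul, hb, hb', ← Algebra.TensorProduct.one_def]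
    simp
  have h2 : b' * b - 1 ∈ (maximalIdeal R • ⊤ : Submodule R B) := by
    apply mem_smul_top_of_tmul_eq_zero
    rw [TensorProduct.tmul_sub, hmul, hb, hb', ← Algebra.TensorProduct.one_def]
    simp
  obtain ⟨bu, hbu⟩ := HenselNC.isUnit_of_mul_sub_one_mem h1 h2
  have hinv : (1 : ResidueField R) ⊗ₜ[R] ((bu⁻¹ : Bˣ) : B) =
      ((u⁻¹ : (ResidueField R ⊗[R] B)ˣ) : ResidueField R ⊗[R] B) := by
    symm
    apply Units.inv_eq_of_mul_eq_one_right
    rw [← hb, ← hbu, ← hmul, Units.mul_inv, Algebra.TensorProduct.one_def]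
  let cj : B ≃ₐ[R] B := AzuMat.conjEquiv (R := R) ((bu⁻¹ : Bˣ) : B) (bu : B) (by simp) (by simp)
  refine ⟨e₁.trans cj, fun a => ?_⟩
  have h3 : e₀ ((1 : ResidueField R) ⊗ₜ[R] a) = θ (ē₁ ((1 : ResidueField R) ⊗ₜ[R] a)) := by
    simp [θ]
  rw [h3, hē₁, hu]
  show _ = (1 : ResidueField R) ⊗ₜ[R] ((bu : B) * e₁ a * ((bu⁻¹ : Bˣ) : B))
  rw [hmul, hmul, hinv, hbu, hb]

end Groth.Agent.Lib.Helper98.AzuHenselIso
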