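import Groth.Agent.Lib.Helper98.CornerAzu
set_option autoImplicit false
open scoped TensorProduct
open MulOpposite

/-! For an idempotent `e` of an Azumaya algebra `A` with corner `B = eAe`:
`A ⊗ Bᵐᵒᵖ ≃ₐ End_R(Ae)`. -/

namespace Groth.Agent.Lib.Helper98.CornerRing
universe u v
variable (R : Type u) [CommRing R] {A : Type v} [Ring A] [Algebra R A]

/-- the left ideal `Ae` as an `R`-submodule -/
def lidS (e : A) : Submodule R A where
  carrier := {x | x * e = x}
  add_mem' := by
    intro a b h1 h2
    show (a + b) * e = a + b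
    rw [add_mul, h1, h2]
  zero_mem' := zero_mul _
  smul_mem' := by
    intro c x h1
    show (c • x) * e = c • x
    rw [smul_mul_assoc, h1]

variable {R} {e : A} (he : IsIdempotentElem e)

theorem lid_mul (q : lidS R e) : q.1 * e = q.1 := q.2

/-- projection `A → Ae` -/
def projQ : A →ₗ[R] lidS R e where
  toFun x := ⟨x * e, by show x * e * e = x * e; rw [mul_assoc, he.eq]⟩
  map_add' x y := Subtype.ext (by show (x + y) * e = x * e + y * e; rw [add_mul])
  map_smul' r x := Subtype.ext (by show (r • x) * e = r • (x * e); rw [smul_mul_assoc])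

@[simp] theorem projQ_coe (x : A) : (projQ (R := R) he x).1 = x * e := rfl

theorem projQ_val (q : lidS R e) : projQ he q.1 = q := Subtype.ext (lid_mul q)

theorem projQ_comp_subtype : (projQ (R := R) he) ∘ₗ (lidS R e).subtype = LinearMap.id :=
  LinearMap.ext (projQ_val he)

include he in
theorem finite_lidS [Module.Finite R A] : Module.Finite R (lidS R e) :=
  Module.Finite.of_surjective (projQ he) fun x => ⟨x.1, projQ_val he x⟩

include he in
theorem projective_lidS [Module.Projective R A] : Module.Projective R (lidS R e) :=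
  Module.Projective.of_split (lidS R e).subtype (projQ he) (projQ_comp_subtype he)

/-- left multiplication on `Ae` -/
def LA : A →ₐ[R] Module.End R (lidS R e) :=
  AlgHom.ofLinearMap
    { toFun := fun a => projQ he ∘ₗ LinearMap.mulLeft R a ∘ₗ (lidS R e).subtype
      map_add' := fun a b => by
        ext q; simp [add_mul]
      map_smul' := fun r a => by
        ext q; simp }
    (by
      ext q
      simp [lid_mul])
    (by
      intro a b
      ext q
      simp only [LinearMap.coe_mk, AddHom.coe_mk, LinearMap.comp_apply, Submodule.subtype_apply,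
        LinearMap.mulLeft_apply, projQ_coe, Module.End.mul_apply]
      simp only [mul_assoc, he.eq])

theorem LA_apply (a : A) (q : lidS R e) : (LA he a q).1 = a * q.1 := by
  show a * q.1 * e = a * q.1
  rw [mul_assoc, lid_mul]

/-- right multiplication by the corner on `Ae` -/
noncomputable def RB : (Cor R he)ᵐᵒᵖ →ₐ[R] Module.End R (lidS R e) :=
  AlgHom.ofLinearMap
    { toFun := fun b => projQ he ∘ₗ LinearMap.mulRight R (val he b.unop) ∘ₗ (lidS R e).subtype
      map_add' := fun a b => by
        ext q; simp [mul_add]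
      map_smul' := fun r a => by
        ext q; simp }
    (by
      ext q
      simp [lid_mul])
    (by
      intro a b
      ext q
      simp only [LinearMap.coe_mk, AddHom.coe_mk, LinearMap.comp_apply, Submodule.subtype_apply,
        LinearMap.mulRight_apply, projQ_coe, Module.End.mul_apply, unop_mul, val_mul]
      simp only [mul_assoc, mul_right])

theorem RB_apply (b : (Cor R he)ᵐᵒᵖ) (q : lidS R e) : (RB he b q).1 = q.1 * val he b.unop := by
  show q.1 * val he b.unop * e = q.1 * val he b.unop
  rw [mul_assoc, mul_right]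

/-- the action of `A ⊗ Bᵐᵒᵖ` on `Ae` -/
noncomputable def PhiQ : A ⊗[R] (Cor R he)ᵐᵒᵖ →ₐ[R] Module.End R (lidS R e) :=
  Algebra.TensorProduct.lift (LA he) (RB he) (fun a b => by
    show LA he a * RB he b = RB he b * LA he a
    ext q
    simp only [Module.End.mul_apply, LA_apply, RB_apply, mul_assoc])

theorem PhiQ_tmul (a : A) (b : (Cor R he)ᵐᵒᵖ) (q : lidS R e) :
    (PhiQ he (a ⊗ₜ b) q).1 = a * q.1 * val he b.unop := by
  simp only [PhiQ, Algebra.TensorProduct.lift_tmul, Module.End.mul_apply, LA_apply, RB_apply,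
    mul_assoc]

variable [IsAzumaya R A]

/-- extension of endomorphisms of `Ae` to `A` -/
def extQ : Module.End R (lidS R e) →ₗ[R] Module.End R A where
  toFun g := (lidS R e).subtype ∘ₗ g ∘ₗ projQ he
  map_add' g h := by ext x; simp
  map_smul' r g := by ext x; simp

@[simp] theorem extQ_apply (g : Module.End R (lidS R e)) (x : A) :
    extQ he g x = (g (projQ he x)).1 := rfl

theorem PhiQ_map (t : A ⊗[R] Aᵐᵒᵖ) :
    PhiQ he (TensorProduct.map LinearMap.id (projOp he) t) =
      projQ he ∘ₗ (sand R A t) ∘ₗ (lidS R e).subtype := by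
  induction t using TensorProduct.induction_on with
  | zero => simp
  | tmul a b =>
    ext q
    simp only [TensorProduct.map_tmul, LinearMap.id_apply, PhiQ_tmul, projOp_apply, unop_op,
      val_proj, LinearMap.comp_apply, Submodule.subtype_apply, projQ_coe, sand_tmul]
    have h2 : ∀ y, q.1 * (e * y) = q.1 * y := fun y => by rw [← mul_assoc, lid_mul]
    simp only [mul_assoc, h2]
  | add t₁ t₂ h₁ h₂ =>
    rw [map_add, map_add, h₁, h₂, map_add, LinearMap.add_comp, LinearMap.comp_add]

theorem extQ_PhiQ (a : A) (b : (Cor R he)ᵐᵒᵖ) :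
    extQ he (PhiQ he (a ⊗ₜ b)) = sand R A (a ⊗ₜ op (val he b.unop)) := by
  ext x
  simp only [extQ_apply, PhiQ_tmul, projQ_coe, sand_tmul, unop_op]
  rw [mul_assoc, mul_assoc x, left_mul, ← mul_assoc]

theorem PhiQ_bijective : Function.Bijective (PhiQ (R := R) he) := by
  let Ψ : Module.End R (lidS R e) →ₗ[R] A ⊗[R] (Cor R he)ᵐᵒᵖ :=
    TensorProduct.map LinearMap.id (projOp he) ∘ₗ (sand R A).symm.toLinearMap ∘ₗ extQ he
  have h1 : ∀ g, PhiQ he (Ψ g) = g := by
    intro g
    simp only [Ψ, LinearMap.comp_apply, PhiQ_map]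
    ext x
    simp only [AlgEquiv.toLinearMap_apply, AlgEquiv.apply_symm_apply, LinearMap.comp_apply,
      extQ_apply, Submodule.subtype_apply, projQ_val]
  have h2 : Ψ ∘ₗ (PhiQ (R := R) he).toLinearMap = LinearMap.id := by
    apply TensorProduct.ext'
    intro a b
    simp only [Ψ, LinearMap.comp_apply, AlgHom.toLinearMap_apply, extQ_PhiQ,
      AlgEquiv.toLinearMap_apply, AlgEquiv.symm_apply_apply, TensorProduct.map_tmul,
      projOp_apply, unop_op, proj_val, op_unop, LinearMap.id_apply]
  refine Function.bijective_iff_has_inverse.mpr ⟨Ψ, fun t => ?_, h1⟩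
  exact LinearMap.congr_fun h2 t

end Groth.Agent.Lib.Helper98.CornerRing
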