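import Mathlib
set_option autoImplicit false
universe u v w
open scoped TensorProduct
open MvPolynomial LinearMap

namespace Groth.Agent.Lib.Helper98.PolyLawRestrict

variable {A : Type u} [CommRing A] {M : Type v} [AddCommGroup M] [Module A M]
  {N : Type w} [AddCommGroup N] [Module A N]

/-- compatible families on polynomial rings -/
def Compat (T : ∀ n : ℕ, MvPolynomial (Fin n) A ⊗[A] M → MvPolynomial (Fin n) A ⊗[A] N) : Prop :=
  ∀ (n m : ℕ) (φ : MvPolynomial (Fin n) A →ₐ[A] MvPolynomial (Fin m) A),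
    φ.toLinearMap.rTensor N ∘ T n = T m ∘ φ.toLinearMap.rTensor M

variable {T : ∀ n : ℕ, MvPolynomial (Fin n) A ⊗[A] M → MvPolynomial (Fin n) A ⊗[A] N}

theorem Compat.apply (hT : Compat T) {n m : ℕ}
    (φ : MvPolynomial (Fin n) A →ₐ[A] MvPolynomial (Fin m) A) (x : MvPolynomial (Fin n) A ⊗[A] M) :
    φ.toLinearMap.rTensor N (T n x) = T m (φ.toLinearMap.rTensor M x) :=
  congr_fun (hT n m φ) x

/-- one extra variable trick -/
theorem key_one (hT : Compat T) {S : Type u} [CommSemiring S] [Algebra A S] {k : ℕ}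
    (χ : MvPolynomial (Fin k) A →ₐ[A] S) (q : MvPolynomial (Fin k) A ⊗[A] M)
    (i : MvPolynomial (Fin k) A) (hi : χ i = 0) (m : M) :
    χ.toLinearMap.rTensor N (T k (q + i ⊗ₜ m)) = χ.toLinearMap.rTensor N (T k q) := by
  let ι : MvPolynomial (Fin k) A →ₐ[A] MvPolynomial (Fin (k+1)) A := rename Fin.castSucc
  let α : MvPolynomial (Fin k) A → MvPolynomial (Fin (k+1)) A →ₐ[A] MvPolynomial (Fin k) A :=
    fun j => aeval (Fin.snoc (α := fun _ => MvPolynomial (Fin k) A) X j)
  have hαι : ∀ j, (α j).comp ι = AlgHom.id A _ := by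
    intro j
    apply MvPolynomial.algHom_ext
    intro a
    simp [α, ι]
  let Q : MvPolynomial (Fin (k+1)) A ⊗[A] M := ι.toLinearMap.rTensor M q + X (Fin.last k) ⊗ₜ m
  have hQ : ∀ j, (α j).toLinearMap.rTensor M Q = q + j ⊗ₜ m := by
    intro j
    simp only [Q, map_add, rTensor_tmul, AlgHom.toLinearMap_apply]
    rw [← LinearMap.comp_apply, ← rTensor_comp, ← AlgHom.comp_toLinearMap, hαι]
    simp [α]
  have hχ : χ.comp (α i) = χ.comp (α 0) := by
    apply MvPolynomial.algHom_ext
    intro a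
    refine Fin.lastCases ?_ (fun b => ?_) a
    · simp [α, hi]
    · simp [α]
  have h1 : q + i ⊗ₜ m = (α i).toLinearMap.rTensor M Q := (hQ i).symm
  have h2 : q = (α 0).toLinearMap.rTensor M Q := by rw [hQ 0]; simp
  conv_lhs => rw [h1]
  conv_rhs => rw [h2]
  rw [← hT.apply, ← hT.apply, ← LinearMap.comp_apply, ← rTensor_comp, ← AlgHom.comp_toLinearMap,
    hχ, AlgHom.comp_toLinearMap, rTensor_comp, LinearMap.comp_apply]


/-- kernel-ideal version -/
theorem key_ideal (hT : Compat T) {S : Type u} [CommSemiring S] [Algebra A S] {k : ℕ}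
    (χ : MvPolynomial (Fin k) A →ₐ[A] S) (I : Ideal (MvPolynomial (Fin k) A))
    (hI : ∀ i ∈ I, χ i = 0) (q q' : MvPolynomial (Fin k) A ⊗[A] M)
    (h : q - q' ∈ LinearMap.range ((I.restrictScalars A).subtype.rTensor M)) :
    χ.toLinearMap.rTensor N (T k q) = χ.toLinearMap.rTensor N (T k q') := by
  obtain ⟨z, hz⟩ := h
  have hq : q = q' + (I.restrictScalars A).subtype.rTensor M z := by rw [hz]; abel
  rw [hq]
  clear hq hz
  induction z using TensorProduct.induction_on generalizing q' with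
  | zero => simp
  | tmul i m =>
    simp only [rTensor_tmul, Submodule.subtype_apply]
    exact key_one hT χ q' i.1 (hI _ i.2) m
  | add z₁ z₂ h₁ h₂ =>
    rw [map_add, ← add_assoc, h₂, h₁]

/-- the kernel of `P ⊗ M → B ⊗ M` for a surjective algebra map `P → B` onto a semiring. -/
theorem sub_mem_range_of_rTensor_eq {P : Type*} [CommRing P] [Algebra A P]
    {B : Type*} [Semiring B] [Algebra A B] (f : P →ₐ[A] B) (hf : Function.Surjective f)
    (q q' : P ⊗[A] M) (h : f.toLinearMap.rTensor M q = f.toLinearMap.rTensor M q') :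
    q - q' ∈ LinearMap.range
      (((RingHom.ker (f : P →+* B)).restrictScalars A).subtype.rTensor M) := by
  let I : Ideal P := RingHom.ker (f : P →+* B)
  let e : (P ⧸ I) ≃ₐ[A] B := Ideal.quotientKerAlgEquivOfSurjective hf
  have he : f = e.toAlgHom.comp (Ideal.Quotient.mkₐ A I) := by
    ext x
    exact (Ideal.quotientKerAlgEquivOfSurjective_mk hf x).symm
  have hmk : (Ideal.Quotient.mkₐ A I).toLinearMap.rTensor M q =
      (Ideal.Quotient.mkₐ A I).toLinearMap.rTensor M q' := by
    have hinj : Function.Injective (e.toAlgHom.toLinearMap.rTensor M) :=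
      (e.toLinearEquiv.rTensor M).injective
    apply hinj
    rw [he] at h
    simpa only [AlgHom.comp_toLinearMap, rTensor_comp, LinearMap.comp_apply] using h
  have hex : Function.Exact ((I.restrictScalars A).subtype) ((Ideal.Quotient.mkₐ A I).toLinearMap) := by
    intro y
    simp only [AlgHom.toLinearMap_apply, Ideal.Quotient.mkₐ_eq_mk, Ideal.Quotient.eq_zero_iff_mem]
    constructor
    · intro hy; exact ⟨⟨y, hy⟩, rfl⟩
    · rintro ⟨⟨z, hz⟩, rfl⟩; exact hz
  have hex' := rTensor_exact M hex (Ideal.Quotient.mkₐ_surjective A I)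
  have : (Ideal.Quotient.mkₐ A I).toLinearMap.rTensor M (q - q') = 0 := by
    rw [map_sub, hmk, sub_self]
  exact (hex' _).1 this


/-- the main well-definedness lemma: two lifts of the same element give the same value. -/
theorem key (hT : Compat T) {S : Type u} [CommSemiring S] [Algebra A S] {n m : ℕ}
    (ψ : MvPolynomial (Fin n) A →ₐ[A] S) (ψ' : MvPolynomial (Fin m) A →ₐ[A] S)
    (p : MvPolynomial (Fin n) A ⊗[A] M) (p' : MvPolynomial (Fin m) A ⊗[A] M)
    (h : ψ.toLinearMap.rTensor M p = ψ'.toLinearMap.rTensor M p') :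
    ψ.toLinearMap.rTensor N (T n p) = ψ'.toLinearMap.rTensor N (T m p') := by
  have hA : Subalgebra.FG (R := A) ψ.range := by
    rw [← Algebra.map_top]
    exact Subalgebra.FG.map _ Algebra.FiniteType.out
  have hA' : Subalgebra.FG (R := A) ψ'.range := by
    rw [← Algebra.map_top]
    exact Subalgebra.FG.map _ Algebra.FiniteType.out
  set u := rTensor M ψ.rangeRestrict.toLinearMap p with hu
  set u' := rTensor M ψ'.rangeRestrict.toLinearMap p' with hu'
  have huu' : rTensor M (Subalgebra.val _).toLinearMap u =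
      rTensor M (Subalgebra.val _).toLinearMap u' := by
    simp only [hu, hu', ← LinearMap.comp_apply, ← rTensor_comp, ← AlgHom.comp_toLinearMap,
      AlgHom.val_comp_rangeRestrict, h]
  obtain ⟨B, hAB, hA'B, ⟨t, hB⟩, hBeq⟩ :=
    TensorProduct.Algebra.eq_of_fg_of_subtype_eq' (R := A) hA hA' huu'
  let χ := PolynomialLaw.φ A t
  have hχ : χ.range = B := by rw [PolynomialLaw.range_φ, hB]
  subst hχ
  have hg : ∀ a : Fin n, ∃ g, χ g = ψ (X a) := fun a => hAB ⟨X a, rfl⟩
  have hg' : ∀ a : Fin m, ∃ g, χ g = ψ' (X a) := fun a => hA'B ⟨X a, rfl⟩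
  choose g hg using hg
  choose g' hg' using hg'
  let ι : MvPolynomial (Fin n) A →ₐ[A] MvPolynomial (Fin t.card) A := aeval g
  let ι' : MvPolynomial (Fin m) A →ₐ[A] MvPolynomial (Fin t.card) A := aeval g'
  have hι : χ.comp ι = ψ := by
    apply MvPolynomial.algHom_ext
    intro a
    simp [ι, hg]
  have hι' : χ.comp ι' = ψ' := by
    apply MvPolynomial.algHom_ext
    intro a
    simp [ι', hg']
  have hr : χ.rangeRestrict.comp ι = (Subalgebra.inclusion hAB).comp ψ.rangeRestrict := by
    ext x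
    simp [← hι]
  have hr' : χ.rangeRestrict.comp ι' = (Subalgebra.inclusion hA'B).comp ψ'.rangeRestrict := by
    ext x
    simp [← hι']
  have hmain : χ.rangeRestrict.toLinearMap.rTensor M (ι.toLinearMap.rTensor M p) =
      χ.rangeRestrict.toLinearMap.rTensor M (ι'.toLinearMap.rTensor M p') := by
    rw [← LinearMap.comp_apply, ← rTensor_comp, ← AlgHom.comp_toLinearMap, hr,
      ← LinearMap.comp_apply, ← rTensor_comp, ← AlgHom.comp_toLinearMap, hr',
      AlgHom.comp_toLinearMap, rTensor_comp, LinearMap.comp_apply,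
      AlgHom.comp_toLinearMap, rTensor_comp, LinearMap.comp_apply]
    exact hBeq
  have hmem := sub_mem_range_of_rTensor_eq χ.rangeRestrict χ.rangeRestrict_surjective _ _ hmain
  have hker : ∀ i ∈ RingHom.ker (χ.rangeRestrict : MvPolynomial (Fin t.card) A →+* χ.range),
      χ i = 0 := by
    intro i hi
    have : χ.rangeRestrict i = 0 := hi
    simpa using congrArg Subtype.val this
  have hfin := key_ideal hT χ _ hker _ _ hmem
  rw [← hι, ← hι']
  simp only [AlgHom.comp_toLinearMap, rTensor_comp, LinearMap.comp_apply]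
  rw [hT.apply, hT.apply, hfin]


/-- value on lifts -/
noncomputable def liftVal (T : ∀ n : ℕ, MvPolynomial (Fin n) A ⊗[A] M → MvPolynomial (Fin n) A ⊗[A] N)
    (S : Type u) [CommSemiring S] [Algebra A S] : PolynomialLaw.lifts A M S → S ⊗[A] N :=
  fun x => rTensor N (PolynomialLaw.φ A x.1).toLinearMap (T x.1.card x.2)

/-- the extension of a compatible family to all algebras -/
noncomputable def toFunT (T : ∀ n : ℕ, MvPolynomial (Fin n) A ⊗[A] M → MvPolynomial (Fin n) A ⊗[A] N)
    (S : Type u) [CommSemiring S] [Algebra A S] : S ⊗[A] M → S ⊗[A] N :=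
  Function.extend (PolynomialLaw.π A M S) (liftVal T S) (fun _ => 0)

theorem toFunT_apply (hT : Compat T) {S : Type u} [CommSemiring S] [Algebra A S] {n : ℕ}
    (ψ : MvPolynomial (Fin n) A →ₐ[A] S) (p : MvPolynomial (Fin n) A ⊗[A] M) :
    toFunT T S (ψ.toLinearMap.rTensor M p) = ψ.toLinearMap.rTensor N (T n p) := by
  obtain ⟨x, h⟩ := PolynomialLaw.π_surjective (R := A) (ψ.toLinearMap.rTensor M p)
  have hf : Function.FactorsThrough (liftVal T S) (PolynomialLaw.π A M S) := by
    rintro ⟨s₁, p₁⟩ ⟨s₂, p₂⟩ h12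
    exact key hT _ _ _ _ h12
  rw [toFunT, ← h, hf.extend_apply]
  exact key hT (PolynomialLaw.φ A x.1) ψ x.2 p h

/-- the polynomial law attached to a compatible family -/
noncomputable def lawOf (hT : Compat T) : M →ₚₗ[A] N where
  toFun' S _ _ := toFunT T S
  isCompat' {S _ _ S' _ _} φ := by
    ext x
    obtain ⟨n, ψ, p, rfl⟩ := PolynomialLaw.exists_lift x
    simp only [Function.comp_apply]
    rw [toFunT_apply hT, ← LinearMap.comp_apply, ← rTensor_comp, ← AlgHom.comp_toLinearMap,
      ← LinearMap.comp_apply, ← rTensor_comp, ← AlgHom.comp_toLinearMap, toFunT_apply hT]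

theorem lawOf_toFun' (hT : Compat T) (n : ℕ) :
    (lawOf hT).toFun' (MvPolynomial (Fin n) A) = T n := by
  funext p
  have := toFunT_apply hT (AlgHom.id A _) p
  simp only [AlgHom.toLinearMap_id, rTensor_id, LinearMap.id_apply] at this
  exact this

theorem law_ext {F G : M →ₚₗ[A] N}
    (h : ∀ n, F.toFun' (MvPolynomial (Fin n) A) = G.toFun' (MvPolynomial (Fin n) A)) : F = G := by
  ext S _ _ x
  obtain ⟨n, ψ, p, rfl⟩ := PolynomialLaw.exists_lift x
  rw [← PolynomialLaw.isCompat_apply', ← PolynomialLaw.isCompat_apply', h]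

end Groth.Agent.Lib.Helper98.PolyLawRestrict
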