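import Mathlib

/-!
# Pointwise fibre criterion for smoothness (helper98)

`isSmoothAt_of_flat_of_fiber`: for `S` finitely presented over `R`, a prime `𝔮` of the fibre
`κ(p) ⊗[R] S` with contraction `q ⊂ S`: if `S_q` is flat over `R` and the fibre is smooth over `κ(p)`
at `𝔮`, then `S` is smooth over `R` at `q`.  (Pointwise version of Mathlib's
`Algebra.IsSmoothAt.of_formallySmooth_fiber`, which needs the whole fibre smooth.)
-/

set_option autoImplicit false
universe u

namespace Groth.Agent.Lib.Helper98.SmoothFiberAt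

open TensorProduct IsLocalRing Algebra

noncomputable section

variable {R S : Type u} [CommRing R] [CommRing S] [Algebra R S]

/-- local form: `S_q` flat over `R` and `κ ⊗[R_p] S_q` formally smooth over `κ = κ(R_p)`. -/
theorem isSmoothAt_of_flat_of_residueField_tensor [Algebra.FinitePresentation R S]
    (p : Ideal R) [p.IsPrime] (q : Ideal S) [q.IsPrime] [q.LiesOver p]
    (hflat : Module.Flat R (Localization.AtPrime q))
    (h : letI := Localization.AtPrime.algebraOfLiesOver p q
      Algebra.FormallySmooth (ResidueField (Localization.AtPrime p))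
        (ResidueField (Localization.AtPrime p) ⊗[Localization.AtPrime p] Localization.AtPrime q)) :
    Algebra.IsSmoothAt R q := by
  let Rp := Localization.AtPrime p
  let Sp := Localization (algebraMapSubmonoid S p.primeCompl)
  let Sq := Localization.AtPrime q
  let := Localization.AtPrime.algebraOfLiesOver p q
  let f : Sp →ₐ[S] Sq := IsLocalization.liftAlgHom (M := algebraMapSubmonoid S p.primeCompl)
        (f := Algebra.ofId _ _) (by
      rintro ⟨_, x, hx, rfl⟩
      simpa using! IsLocalization.map_units (M := q.primeCompl) Sq ⟨algebraMap _ _ x,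
        by simp_all [q.over_def p]⟩)
  algebraize [f.toRingHom]
  have : IsScalarTower R Sp Sq := .to₁₃₄ _ S _ _
  have : IsScalarTower Rp Sp Sq := .of_algebraMap_eq' <| by
    apply IsLocalization.ringHom_ext p.primeCompl
    simp only [RingHom.comp_assoc, ← IsScalarTower.algebraMap_eq]
  have : IsLocalization (algebraMapSubmonoid Sp q.primeCompl) Sq :=
    .isLocalization_of_submonoid_le _ _ (algebraMapSubmonoid S p.primeCompl) _
    (by rintro _ ⟨x, hx, rfl⟩; simp_all [q.over_def p])
  have : FinitePresentation Rp Sp := by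
    have : Algebra.IsPushout R Rp S Sp :=
      .symm <| Algebra.isPushout_of_isLocalization p.primeCompl _ _ _
    exact .equiv (Algebra.IsPushout.equiv R Rp S Sp)
  have : Module.Flat Rp Sq := (Module.flat_iff_of_isLocalization Rp p.primeCompl Sq).mpr hflat
  have : FormallySmooth (ResidueField Rp) (ResidueField Rp ⊗[Rp] Sq) := h
  have := FormallySmooth.of_formallySmooth_residueField_tensor
    (R := Rp) (S := Sq) (P := Sp) (algebraMapSubmonoid _ q.primeCompl)
  exact .comp R Rp Sq

set_option backward.isDefEq.respectTransparency false in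
/-- **Pointwise fibre criterion**: flat at `q` and fibre smooth at `𝔮` (over `q`) implies smooth at
`q`. -/
theorem isSmoothAt_of_flat_of_fiber [Algebra.FinitePresentation R S] (p : Ideal R) [p.IsPrime]
    (𝔮 : Ideal (p.Fiber S)) [𝔮.IsPrime]
    (hflat : Module.Flat R (Localization.AtPrime
      (𝔮.comap (Algebra.TensorProduct.includeRight : S →ₐ[R] p.Fiber S))))
    (hsm : Algebra.IsSmoothAt p.ResidueField 𝔮) :
    Algebra.IsSmoothAt R (𝔮.comap (Algebra.TensorProduct.includeRight : S →ₐ[R] p.Fiber S)) := by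
  refine isSmoothAt_of_flat_of_residueField_tensor p _ hflat ?_
  let q : Ideal S := 𝔮.comap (Algebra.TensorProduct.includeRight : S →ₐ[R] p.Fiber S)
  let Rp := Localization.AtPrime p
  let Sq := Localization.AtPrime q
  let := Localization.AtPrime.algebraOfLiesOver p q
  let e₀ : Localization.AtPrime 𝔮 ≃ₐ[Rp] Sq ⧸ p.map (algebraMap R Sq) :=
    Ideal.Fiber.localizationAlgEquivQuotient p 𝔮
  have h1 : p.map (algebraMap R Sq) = (maximalIdeal Rp).map (algebraMap Rp Sq) := by
    rw [← Localization.AtPrime.map_eq_maximalIdeal, Ideal.map_map, ← IsScalarTower.algebraMap_eq]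
  let e₁ : (Sq ⧸ p.map (algebraMap R Sq)) ≃ₐ[Rp] Sq ⧸ (maximalIdeal Rp).map (algebraMap Rp Sq) :=
    Ideal.quotientEquivAlgOfEq Rp h1
  let _ : Algebra (ResidueField Rp) (Sq ⧸ (maximalIdeal Rp).map (algebraMap Rp Sq)) :=
    inferInstanceAs (Algebra (Rp ⧸ maximalIdeal Rp) (Sq ⧸ (maximalIdeal Rp).map (algebraMap Rp Sq)))
  have : IsScalarTower Rp (ResidueField Rp) (Sq ⧸ (maximalIdeal Rp).map (algebraMap Rp Sq)) :=
    inferInstanceAs (IsScalarTower Rp (Rp ⧸ maximalIdeal Rp)
      (Sq ⧸ (maximalIdeal Rp).map (algebraMap Rp Sq)))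
  let e₂ : (Sq ⧸ (maximalIdeal Rp).map (algebraMap Rp Sq)) ≃ₐ[ResidueField Rp]
      (ResidueField Rp) ⊗[Rp] Sq :=
    Algebra.TensorProduct.quotIdealMapEquivQuotTensor Sq (maximalIdeal Rp)
  have hsurj : Function.Surjective (algebraMap Rp (ResidueField Rp)) :=
    IsLocalRing.residue_surjective
  have : IsScalarTower Rp (ResidueField Rp) (Localization.AtPrime 𝔮) := inferInstance
  let e₀₁ : Localization.AtPrime 𝔮 ≃ₐ[ResidueField Rp]
      Sq ⧸ (maximalIdeal Rp).map (algebraMap Rp Sq) :=
    AlgEquiv.extendScalarsOfSurjective hsurj (e₀.trans e₁)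
  have : FormallySmooth (ResidueField Rp) (Localization.AtPrime 𝔮) := hsm
  have key : FormallySmooth (ResidueField Rp) (ResidueField Rp ⊗[Rp] Sq) :=
    FormallySmooth.of_equiv (R := ResidueField Rp) (A := Localization.AtPrime 𝔮)
      (B := ResidueField Rp ⊗[Rp] Sq) (e₀₁.trans e₂)
  exact key

end

end Groth.Agent.Lib.Helper98.SmoothFiberAt
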