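import Mathlib
import Groth.Agent.Lib.Helper35.StalkChart
import Groth.Agent.Lib.Helper35.PullbackChart
import Groth.Agent.Lib.Helper35.BaseChangeDescent

/-!
# Flatness at a point is stable under base change (helper98)

`flat_stalkMap_of_isPullback`: in a cartesian square `X' = X ×_Y Y'`, if `f : X ⟶ Y` is flat at the
image of `z ∈ X'`, then `f' : X' ⟶ Y'` is flat at `z`.
-/

set_option autoImplicit false
universe u

namespace Groth.Agent.Lib.Helper98.FlatAtBaseChange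

open AlgebraicGeometry CategoryTheory CategoryTheory.Limits

theorem flat_stalkMap_of_isPullback {X Y X' Y' : Scheme.{u}} {f : X ⟶ Y} {j : Y' ⟶ Y}
    {f' : X' ⟶ Y'} {j' : X' ⟶ X} (H : IsPullback j' f' f j) (z : X')
    (hf : (f.stalkMap (j' z)).hom.Flat) : (f'.stalkMap z).hom.Flat := by
  obtain ⟨_, ⟨U, hU, rfl⟩, hzU, -⟩ :=
    Y.isBasis_affineOpens.exists_subset_of_mem_open (Set.mem_univ (f (j' z))) isOpen_univ
  obtain ⟨_, ⟨V, hV, rfl⟩, hzV, hVU'⟩ :=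
    X.isBasis_affineOpens.exists_subset_of_mem_open hzU (U.2.preimage f.continuous)
  have hVU : V ≤ f ⁻¹ᵁ U := hVU'
  have hzU' : f' z ∈ j ⁻¹ᵁ U := by
    show j (f' z) ∈ U
    rw [← Scheme.Hom.comp_apply, ← H.w, Scheme.Hom.comp_apply]
    exact hzU
  obtain ⟨_, ⟨U', hU', rfl⟩, hzU'', hU'U'⟩ :=
    Y'.isBasis_affineOpens.exists_subset_of_mem_open hzU' (j ⁻¹ᵁ U).2
  have hU'U : U' ≤ j ⁻¹ᵁ U := hU'U'
  obtain ⟨W, hWdef⟩ : ∃ W : X'.Opens, W = j' ⁻¹ᵁ V ⊓ f' ⁻¹ᵁ U' := ⟨_, rfl⟩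
  have hW : IsAffineOpen W :=
    Groth.Agent.Lib.Helper35.isAffineOpen_pullback_chart H hU'U hVU hWdef hU hU' hV
  have hWV : W ≤ j' ⁻¹ᵁ V := by rw [hWdef]; exact inf_le_left
  have hWU' : W ≤ f' ⁻¹ᵁ U' := by rw [hWdef]; exact inf_le_right
  have hzW : z ∈ W := by rw [hWdef]; exact ⟨hzV, hzU''⟩
  have hpo := Groth.Agent.Lib.Helper35.isPushout_appLE_of_isAffineOpen H hU'U hVU hWdef hU hU' hV
  let _ : Algebra Γ(Y, U) Γ(X, V) := (f.appLE U V hVU).hom.toAlgebra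
  let _ : Algebra Γ(Y, U) Γ(Y', U') := (j.appLE U U' hU'U).hom.toAlgebra
  let _ : Algebra Γ(X, V) Γ(X', W) := (j'.appLE V W hWV).hom.toAlgebra
  let _ : Algebra Γ(Y', U') Γ(X', W) := (f'.appLE U' W hWU').hom.toAlgebra
  let _ : Algebra Γ(Y, U) Γ(X', W) :=
    ((j'.appLE V W hWV).hom.comp (f.appLE U V hVU).hom).toAlgebra
  have t1 : IsScalarTower Γ(Y, U) Γ(X, V) Γ(X', W) := .of_algebraMap_eq' rfl
  have t2 : IsScalarTower Γ(Y, U) Γ(Y', U') Γ(X', W) := .of_algebraMap_eq' (by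
    simp only [RingHom.algebraMap_toAlgebra]
    rw [← CommRingCat.hom_comp, ← CommRingCat.hom_comp]
    exact congrArg CommRingCat.Hom.hom hpo.w)
  have hpo' : Algebra.IsPushout Γ(Y, U) Γ(X, V) Γ(Y', U') Γ(X', W) :=
    CommRingCat.isPushout_iff_isPushout.mp hpo
  have hpo'' : Algebra.IsPushout Γ(Y, U) Γ(Y', U') Γ(X, V) Γ(X', W) := hpo'.symm
  have hfl := (Groth.Agent.Lib.Helper35.flat_stalkMap_iff U hU V hV hVU hzV).mp hf
  have : (hW.primeIdealOf ⟨z, hzW⟩).asIdeal.LiesOver (hV.primeIdealOf ⟨j' z, hzV⟩).asIdeal :=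
    ⟨congr($(IsAffineOpen.comap_primeIdealOf_appLE V hV W hW hWV hzW).1).symm⟩
  have hfl' : Module.Flat Γ(Y', U') (Localization.AtPrime (hW.primeIdealOf ⟨z, hzW⟩).asIdeal) :=
    Groth.Agent.Lib.Helper35.flat_atPrime_of_isPushout (R := Γ(Y, U)) (S := Γ(Y', U'))
      (R' := Γ(X, V)) (S' := Γ(X', W)) (hV.primeIdealOf ⟨j' z, hzV⟩).asIdeal
      (hW.primeIdealOf ⟨z, hzW⟩).asIdeal
  exact (Groth.Agent.Lib.Helper35.flat_stalkMap_iff U' hU' W hW hWU' hzW).mpr hfl'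

end Groth.Agent.Lib.Helper98.FlatAtBaseChange
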