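import Mathlib
import Groth.Agent.Lib.Helper98.SmoothFiberAt
import Groth.Agent.Lib.Helper35.BaseChangeDescentSmooth
import Groth.Agent.Lib.Helper62.SmoothReg5
import Groth.Agent.Lib.Helper6.FlatCancel
import Groth.Agent.S0565

/-!
# Smoothness descends along a map which is flat at a point (helper98)

Ring form of EGA IV 17.7.7: `R → P → Q` with `P` finitely presented and `Q` smooth over `R`,
`r ⊂ Q` a prime with `Q_r` flat over `P`; then `P` is smooth over `R` at `q = r ∩ P`.
-/

set_option autoImplicit false
universe u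

namespace Groth.Agent.Lib.Helper98.SmoothDescFlat

open TensorProduct IsLocalRing Algebra

noncomputable section

/-- flatness descends: `Q` flat over `R`, `Q_r` flat over `P` ⇒ `P_q` flat over `R`. -/
theorem flat_atPrime_of_flat_of_flat {R P Q : Type u} [CommRing R] [CommRing P] [CommRing Q]
    [Algebra R P] [Algebra R Q] [Algebra P Q] [IsScalarTower R P Q] [Module.Flat R Q]
    (q : Ideal P) [q.IsPrime] (r : Ideal Q) [r.IsPrime] [r.LiesOver q]
    (hflat : Module.Flat P (Localization.AtPrime r)) :
    Module.Flat R (Localization.AtPrime q) := by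
  let Pq := Localization.AtPrime q
  let Qr := Localization.AtPrime r
  let := Localization.AtPrime.algebraOfLiesOver q r
  have h1 : Module.Flat Pq Qr := (Module.flat_iff_of_isLocalization Pq q.primeCompl Qr).mpr hflat
  have : IsLocalHom (algebraMap Pq Qr) := inferInstance
  have hff : Module.FaithfullyFlat Pq Qr := Module.FaithfullyFlat.of_flat_of_isLocalHom
  have h2 : Module.Flat R Qr := Module.Flat.trans R Q Qr
  have : IsScalarTower R Pq Qr := inferInstance
  exact Groth.Agent.Lib.Helper6.flat_of_flat_of_factor_faithfullyFlat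
    (A := R) (B := Pq) (C := Qr) (D := Qr)

section Core

attribute [local instance] Algebra.TensorProduct.rightAlgebra

variable {R P Q L : Type u} [CommRing R] [CommRing P] [CommRing Q] [Field L] [IsAlgClosed L]
  [Algebra R P] [Algebra R Q] [Algebra P Q] [IsScalarTower R P Q] [Algebra R L]

/-- core statement, in terms of a geometric point `σ : Q → L`. -/
theorem isSmoothAt_of_flat_of_geomPoint
    [Algebra.FinitePresentation R P] [Algebra.Smooth R Q] (σ : Q →ₐ[R] L)
    (q : Ideal P) [q.IsPrime]
    (hq : q = RingHom.ker (σ.comp (IsScalarTower.toAlgHom R P Q)))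
    (r : Ideal Q) [r.IsPrime] (hr : r = RingHom.ker σ)
    (hflat : Module.Flat P (Localization.AtPrime r)) :
    Algebra.IsSmoothAt R q := by
  let σP : P →ₐ[R] L := σ.comp (IsScalarTower.toAlgHom R P Q)
  have hrq : r.LiesOver q := ⟨by
    rw [hq, hr, Ideal.under_def]
    ext x
    simp [RingHom.mem_ker]⟩
  have hflatq : Module.Flat R (Localization.AtPrime q) :=
    flat_atPrime_of_flat_of_flat (R := R) q r hflat
  -- the prime `p` of `R` and `κ(p) → L`
  let p : Ideal R := RingHom.ker (algebraMap R L)
  have hp : p.IsPrime := RingHom.ker_isPrime _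
  let ι : p.ResidueField →+* L := Ideal.ResidueField.lift p (algebraMap R L) le_rfl
    (fun x hx => by
      simp only [Submonoid.mem_comap, IsUnit.mem_submonoid_iff]
      exact isUnit_iff_ne_zero.mpr hx)
  let _ : Algebra p.ResidueField L := ι.toAlgebra
  have hιR : ∀ x : R, ι (algebraMap R p.ResidueField x) = algebraMap R L x := fun x =>
    Ideal.ResidueField.lift_algebraMap _ _ _ _ x
  have : IsScalarTower R p.ResidueField L := .of_algebraMap_eq fun x => (hιR x).symm
  -- the three algebras
  let κ := p.ResidueField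
  let D := p.Fiber P
  let D' := L ⊗[R] P
  let E' := L ⊗[R] Q
  let φD : D →ₐ[R] D' :=
    Algebra.TensorProduct.map (IsScalarTower.toAlgHom R κ L) (AlgHom.id R P)
  let φE : D' →ₐ[L] E' :=
    Algebra.TensorProduct.map (AlgHom.id L L) (IsScalarTower.toAlgHom R P Q)
  let _ : Algebra D D' := φD.toRingHom.toAlgebra
  let _ : Algebra D' E' := φE.toRingHom.toAlgebra
  let _ : Algebra P E' := ((algebraMap Q E').comp (algebraMap P Q)).toAlgebra
  have hφD : ∀ x, algebraMap D D' x = φD x := fun _ => rfl
  have hφE : ∀ x, algebraMap D' E' x = φE x := fun _ => rfl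
  have tPQE : IsScalarTower P Q E' := .of_algebraMap_eq' rfl
  have tPDE : IsScalarTower P D' E' :=
    IsScalarTower.of_algebraMap_eq (R := P) (S := D') (A := E') fun x => by
      rw [hφE]
      change (1 : L) ⊗ₜ[R] (algebraMap P Q x) =
        Algebra.TensorProduct.map (AlgHom.id L L) (IsScalarTower.toAlgHom R P Q) ((1 : L) ⊗ₜ[R] x)
      rw [Algebra.TensorProduct.map_tmul]
      rfl
  have tLDE : IsScalarTower L D' E' := IsScalarTower.of_algHom φE
  have tRDE : IsScalarTower R D' E' :=
    IsScalarTower.of_algebraMap_eq (R := R) (S := D') (A := E') fun x => by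
      rw [hφE, IsScalarTower.algebraMap_apply R L D', IsScalarTower.algebraMap_apply R L E']
      exact (φE.commutes _).symm
  have tRDD : IsScalarTower R D D' := IsScalarTower.of_algHom φD
  have tκDD : IsScalarTower κ D D' :=
    IsScalarTower.of_algebraMap_eq (R := κ) (S := D) (A := D') fun x => by
      rw [hφD]
      change (algebraMap κ L x) ⊗ₜ[R] (1 : P) =
        Algebra.TensorProduct.map (IsScalarTower.toAlgHom R κ L) (AlgHom.id R P) (x ⊗ₜ[R] (1 : P))
      rw [Algebra.TensorProduct.map_tmul]
      rfl
  have tPDD : IsScalarTower P D D' :=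
    IsScalarTower.of_algebraMap_eq (R := P) (S := D) (A := D') fun x => by
      rw [hφD]
      change (1 : L) ⊗ₜ[R] x =
        Algebra.TensorProduct.map (IsScalarTower.toAlgHom R κ L) (AlgHom.id R P)
          ((1 : κ) ⊗ₜ[R] x)
      rw [Algebra.TensorProduct.map_tmul]
      simp
  -- the two pushout squares
  have po1 : Algebra.IsPushout P Q D' E' :=
    (Algebra.IsPushout.comp_iff R P L D' (T := Q) (T' := E')).mp inferInstance
  have po2 : Algebra.IsPushout κ L D D' :=
    (Algebra.IsPushout.comp_iff R κ P D (T := L) (T' := D')).mp inferInstance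
  -- the points
  let ψ : D' →ₐ[L] L :=
    Algebra.TensorProduct.lift (AlgHom.id L L) σP (fun _ _ => Commute.all _ _)
  let χ : E' →ₐ[L] L :=
    Algebra.TensorProduct.lift (AlgHom.id L L) σ (fun _ _ => Commute.all _ _)
  have hχφ : ∀ x, χ (φE x) = ψ x := by
    intro x
    induction x using TensorProduct.induction_on with
    | zero => simp
    | tmul a b =>
      simp only [φE, ψ, χ, σP]
      rw [Algebra.TensorProduct.map_tmul, Algebra.TensorProduct.lift_tmul,
        Algebra.TensorProduct.lift_tmul]
      rfl
    | add a b ha hb => simp only [map_add, ha, hb]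
  let q' : Ideal D' := RingHom.ker ψ
  let r' : Ideal E' := RingHom.ker χ
  have hq' : q'.IsPrime := RingHom.ker_isPrime ψ
  have hr' : r'.IsPrime := RingHom.ker_isPrime χ
  have hr'q' : r'.LiesOver q' := ⟨by
    ext x
    simp only [Ideal.under_def, Ideal.mem_comap, q', r', RingHom.mem_ker, hφE, hχφ]⟩
  have hr'r : r'.LiesOver r := ⟨by
    rw [hr]
    ext x
    have h1 : χ (algebraMap Q E' x) = σ x := by
      change Algebra.TensorProduct.lift (AlgHom.id L L) σ _ ((1 : L) ⊗ₜ[R] x) = σ x
      rw [Algebra.TensorProduct.lift_tmul]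
      simp
    simp only [Ideal.under_def, Ideal.mem_comap, r', RingHom.mem_ker, h1]⟩
  -- flatness and regularity upstairs
  have : Algebra.IsPushout P D' Q E' := po1.symm
  have hfl : Module.Flat D' (Localization.AtPrime r') :=
    Groth.Agent.Lib.Helper35.flat_atPrime_of_isPushout (R := P) (S := D') (R' := Q) (S' := E') r r'
  let _ := Localization.AtPrime.algebraOfLiesOver q' r'
  have hfl' : Module.Flat (Localization.AtPrime q') (Localization.AtPrime r') :=
    (Module.flat_iff_of_isLocalization (Localization.AtPrime q') q'.primeCompl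
      (Localization.AtPrime r')).mpr hfl
  have hsmr' : Algebra.IsSmoothAt L r' := by
    show Algebra.FormallySmooth L (Localization.AtPrime r')
    have : Algebra.FormallySmooth E' (Localization.AtPrime r') := .of_isLocalization r'.primeCompl
    exact .comp L E' _
  have hregE : IsRegularLocalRing (Localization.AtPrime r') :=
    (Groth.Agent.Lib.Helper62.SmoothReg.isSmoothAt_iff_isRegularLocalRing_of_perfectField
      L E' r').mp hsmr'
  have : IsNoetherianRing D' := Algebra.FiniteType.isNoetherianRing L D'
  have hregD : IsRegularLocalRing (Localization.AtPrime q') :=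
    Groth.Agent.S0565.result (Localization.AtPrime q') (Localization.AtPrime r')
  have hsmq' : Algebra.IsSmoothAt L q' :=
    (Groth.Agent.Lib.Helper62.SmoothReg.isSmoothAt_iff_isRegularLocalRing_of_perfectField
      L D' q').mpr hregD
  -- descent to `κ`
  let 𝔮 : Ideal D := q'.under D
  have h𝔮 : 𝔮.IsPrime := inferInstance
  let p' : Ideal L := q'.under L
  have : Algebra.IsPushout κ D L D' := po2.symm
  have hsm𝔮 : Algebra.FormallySmooth κ (Localization.AtPrime 𝔮) :=
    Groth.Agent.Lib.Helper35.formallySmooth_atPrime_of_isPushout (R := κ) (S := D) (R' := L)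
      (S' := D') p' 𝔮 q'
  -- conclusion via the fibre criterion
  have hcomap : 𝔮.comap (Algebra.TensorProduct.includeRight : P →ₐ[R] p.Fiber P) = q := by
    rw [hq]
    ext x
    have h1 : ψ (φD ((Algebra.TensorProduct.includeRight : P →ₐ[R] p.Fiber P) x)) = σP x := by
      change ψ (Algebra.TensorProduct.map (IsScalarTower.toAlgHom R κ L) (AlgHom.id R P)
        ((1 : κ) ⊗ₜ[R] x)) = _
      rw [Algebra.TensorProduct.map_tmul]
      simp only [ψ]
      rw [Algebra.TensorProduct.lift_tmul]
      simp
    simp only [Ideal.mem_comap, 𝔮, Ideal.under_def, q', RingHom.mem_ker, hφD, h1]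
    rfl
  subst hcomap
  exact Groth.Agent.Lib.Helper98.SmoothFiberAt.isSmoothAt_of_flat_of_fiber p 𝔮 hflatq hsm𝔮

end Core

/-- **Smoothness descends along a map flat at a point** (EGA IV 17.7.7, ring form). -/
theorem isSmoothAt_of_flat_of_smooth {R P Q : Type u} [CommRing R] [CommRing P] [CommRing Q]
    [Algebra R P] [Algebra R Q] [Algebra P Q] [IsScalarTower R P Q]
    [Algebra.FinitePresentation R P] [Algebra.Smooth R Q]
    (q : Ideal P) [q.IsPrime] (r : Ideal Q) [r.IsPrime] [hrq : r.LiesOver q]
    (hflat : Module.Flat P (Localization.AtPrime r)) :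
    Algebra.IsSmoothAt R q := by
  let L := AlgebraicClosure r.ResidueField
  let σ : Q →ₐ[R] L := IsScalarTower.toAlgHom R Q L
  have hσ : RingHom.ker σ = r := by
    ext x
    rw [RingHom.mem_ker]
    show algebraMap Q L x = 0 ↔ _
    rw [IsScalarTower.algebraMap_apply Q r.ResidueField L,
      map_eq_zero_iff _ (algebraMap r.ResidueField L).injective,
      Ideal.algebraMap_residueField_eq_zero]
  refine isSmoothAt_of_flat_of_geomPoint σ q ?_ r hσ.symm hflat
  have h2 : ∀ y, y ∈ r ↔ σ y = 0 := fun y => by rw [← RingHom.mem_ker, hσ]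
  rw [hrq.over, Ideal.under_def]
  ext x
  rw [Ideal.mem_comap, h2, RingHom.mem_ker]
  rfl

end

end Groth.Agent.Lib.Helper98.SmoothDescFlat
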