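import Groth.Agent.Lib.Helper78.AlgSpLocPSrc
import Groth.Agent.Lib.Helper78.AlgSpLocP2
import Groth.Agent.Lib.Helper51.AlgSpCharts
import Groth.Prelude.Def_AlgSpCov

/-!
# `LocP P` descends along source covers by `LocP Q`-morphisms (helper98)

Generic form of helper78's `AlgSpLocPSrc` / `S10548.locP_flat_of_fpqc_cover`: if `P` descends
along surjective `Q`-morphisms of schemes (`hdesc`), then `LocP P` descends along jointly
surjective families of `LocP Q`-morphisms of algebraic spaces.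
-/

set_option autoImplicit false
universe u
open CategoryTheory CategoryTheory.Limits AlgebraicGeometry
open AlgSp

namespace Groth.Agent.Lib.Helper98.AlgSpSrcDesc

open Groth.Agent.Lib.Helper52 Groth.Agent.Lib.Helper51 Groth.Agent.Lib.Helper78.AlgSpLocP

/-- source descent along a jointly surjective family of `Q`-morphisms of schemes. -/
theorem descend_family' {P Q : MorphismProperty Scheme.{u}}
    [IsZariskiLocalAtSource P] [IsZariskiLocalAtSource Q]
    (hdesc : ∀ {A B C : Scheme.{u}} (e : A ⟶ B) (h : B ⟶ C), Q e → Surjective e →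
      P (e ≫ h) → P h)
    {ι : Type u} {B C : Scheme.{u}} (A : ι → Scheme.{u})
    (e : ∀ i, A i ⟶ B) (he : ∀ i, Q (e i)) (hsurj : ∀ x : B, ∃ i, x ∈ Set.range (e i))
    (h : B ⟶ C) (H : ∀ i, P (e i ≫ h)) : P h := by
  let E : ∐ A ⟶ B := Sigma.desc e
  have hE : Q E := IsZariskiLocalAtSource.sigmaDesc (P := Q) he
  have hEs : Surjective E := ⟨fun x => by
    obtain ⟨i, w, hw⟩ := hsurj x
    refine ⟨Sigma.ι A i w, ?_⟩
    rw [← Scheme.Hom.comp_apply, Sigma.ι_desc]
    exact hw⟩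
  have hEh : E ≫ h = Sigma.desc (fun i => e i ≫ h) := by
    apply Sigma.hom_ext
    intro i
    rw [Sigma.ι_desc_assoc, Sigma.ι_desc]
  refine hdesc E h hE hEs ?_
  rw [hEh]
  exact IsZariskiLocalAtSource.sigmaDesc (P := P) H

variable {S : Scheme.{u}}

/-- **Generic source descent for `LocP`.** -/
theorem locP_of_cover {P Q : MorphismProperty Scheme.{u}}
    [IsZariskiLocalAtSource P] [IsZariskiLocalAtSource Q]
    (hdesc : ∀ {A B C : Scheme.{u}} (e : A ⟶ B) (h : B ⟶ C), Q e → Surjective e →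
      P (e ≫ h) → P h)
    {X Y : Sp S} {ι : Type u} (Xi : ι → Sp S) (g : ∀ i, Xi i ⟶ X)
    (hXi : ∀ i, IsAlgSpace (Xi i)) (hQ : ∀ i, LocP Q (g i))
    (hsurj : ∀ x : Points X, ∃ i, x ∈ Set.range (Points.map (g i)))
    (f : X ⟶ Y) (H : ∀ i, LocP P (g i ≫ f)) : LocP P f := by
  intro U V a b h ha hb comm
  choose T aT haT haTs using fun i => (hXi i).atlas
  have sqT := fun i => ha.rep.isPullback' (aT i ≫ g i)
  let τ₁ : ∀ i, ha.rep.pullback (aT i ≫ g i) ⟶ U := fun i => ha.rep.fst' (aT i ≫ g i)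
  let τ₂ : ∀ i, ha.rep.pullback (aT i ≫ g i) ⟶ T i := fun i => ha.rep.snd (aT i ≫ g i)
  have hτ₂e : ∀ i, Etale (τ₂ i).left := fun i => ha.property _ _ _ (sqT i)
  have hτ₂aT : ∀ i, RepWith @Etale ((yon S).map (τ₂ i) ≫ aT i) := fun i =>
    (RepWith (S := S) @Etale).comp_mem _ _ ((repWith_yon_map_iff _ _).2 (hτ₂e i)) (haT i)
  have hτ₁Q : ∀ i, Q (τ₁ i).left := by
    intro i
    refine hQ i ((yon S).map (τ₂ i) ≫ aT i) a (τ₁ i) (hτ₂aT i) ha ?_
    rw [Category.assoc]; exact (sqT i).w.symm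
  have hcomp : ∀ i, P ((τ₁ i).left ≫ h.left) := by
    intro i
    refine H i ((yon S).map (τ₂ i) ≫ aT i) b (τ₁ i ≫ h) (hτ₂aT i) hb ?_
    calc ((yon S).map (τ₂ i) ≫ aT i) ≫ g i ≫ f
        = ((yon S).map (τ₂ i) ≫ (aT i ≫ g i)) ≫ f := by simp only [Category.assoc]
      _ = ((yon S).map (τ₁ i) ≫ a) ≫ f := by rw [(sqT i).w]
      _ = (yon S).map (τ₁ i ≫ h) ≫ b := by
          rw [Category.assoc, comm, Functor.map_comp, Category.assoc]
  refine descend_family' hdesc (fun i => (ha.rep.pullback (aT i ≫ g i)).left)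
    (fun i => (τ₁ i).left) hτ₁Q ?_ h.left hcomp
  intro x
  obtain ⟨i, ξ, hξ⟩ := hsurj (Points.ofPt a x)
  obtain ⟨t, ht⟩ := surjective_ofPt_of_repWith_surjective (aT i) (haTs i) ξ
  have hxt : Points.ofPt a x = Points.ofPt (aT i ≫ g i) t := by
    rw [← hξ, ← ht, Points.ofPt_eq_map_ofScheme (aT i), Points.ofPt_eq_map_ofScheme (aT i ≫ g i),
      Points.map_comp]
  obtain ⟨w, hw1, -⟩ := exists_of_ofPt_eq_ofPt (sqT i) hxt
  exact ⟨i, w, hw1⟩

/-- `LocP P` is local on the source for covers by `LocP Q`-morphisms, given composition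
(`hcomp`) and scheme-level descent (`hdesc`). -/
theorem isLocalOnSource_locP {P Q : MorphismProperty Scheme.{u}}
    [IsZariskiLocalAtSource P] [IsZariskiLocalAtSource Q]
    (hdesc : ∀ {A B C : Scheme.{u}} (e : A ⟶ B) (h : B ⟶ C), Q e → Surjective e →
      P (e ≫ h) → P h)
    (hcomp : ∀ {X Y Z : Sp S} (g : X ⟶ Y) (f : Y ⟶ Z), IsAlgSpace Y → LocP Q g → LocP P f →
      LocP P (g ≫ f)) :
    AlgSp.IsLocalOnSource (fun _ _ Y g => AlgSp.IsCover (LocP Q) Y g) (AlgSp.LocP (S := S) P) := by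
  intro ι X Xi g hX hXi hcov Y f hY
  constructor
  · intro hf i
    exact hcomp (g i) f hX (hcov.1 i) hf
  · intro H
    exact locP_of_cover hdesc Xi g hXi hcov.1 hcov.2 f H

end Groth.Agent.Lib.Helper98.AlgSpSrcDesc
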