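import Mathlib
import Groth.Agent.Lib.Helper98.AlgSpPtLocal
import Groth.Agent.S16765
import Groth.Agent.Lib.Helper38.EtaleSource

/-!
# The unramified locus of a morphism of algebraic spaces (helper98)

`UnrNear h u`: the morphism of schemes `h` is unramified (locally of finite type and formally
unramified) on an open neighbourhood of `u`.  It is etale local on the source and target
(`etLocalPt_unrNear`), compatible with arbitrary base change for `h` locally of finite type
(`unrNear_baseChange_iff`, via helper35's stalk criterion in `S16765`), and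
`LocP (lft ⊓ formally unramified) f ↔ ∀ x, HasAtMor UnrNear f x` for algebraic spaces.
-/

set_option autoImplicit false
universe u

namespace Groth.Agent.Lib.Helper98.AlgSpUnram

open CategoryTheory CategoryTheory.Limits AlgebraicGeometry AlgSp
open Groth.Agent.Lib.Helper52 Groth.Agent.Lib.Helper51
open Groth.Agent.Lib.Helper31.AlgSpFlatAt Groth.Agent.Lib.Helper98.AlgSpPtLocal
open Groth.Agent.Lib.Helper38.EtaleSource

/-- `h` is unramified on an open neighbourhood of `u`. -/
abbrev UnrNear : ∀ (U V : Scheme.{u}), (U ⟶ V) → ↥U → Prop :=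
  fun U _ h u => ∃ W : U.Opens, u ∈ W ∧ LocallyOfFiniteType (W.ι ≫ h) ∧ FormallyUnramified (W.ι ≫ h)

theorem unrNear_iff_stalk {U V : Scheme.{u}} (h : U ⟶ V) [LocallyOfFiniteType h] (u : U) :
    UnrNear U V h u ↔ (h.stalkMap u).hom.FormallyUnramified := by
  constructor
  · rintro ⟨W, hu, _, hW⟩
    exact Groth.Agent.Lib.Helper35.stalkMap_of_formallyUnramified_nhd h u W hu
  · intro hst
    obtain ⟨W, hu, hW⟩ := Groth.Agent.Lib.Helper35.exists_formallyUnramified_nhd_of_stalkMap h u hst
    exact ⟨W, hu, inferInstance, hW⟩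

theorem fu_comp {X Y Z : Scheme.{u}} (f : X ⟶ Y) (g : Y ⟶ Z) [FormallyUnramified f]
    [FormallyUnramified g] : FormallyUnramified (f ≫ g) :=
  MorphismProperty.comp_mem @FormallyUnramified f g inferInstance inferInstance

theorem isOpen_unrNear {U V : Scheme.{u}} (h : U ⟶ V) : IsOpen {u : U | UnrNear _ _ h u} := by
  rw [isOpen_iff_forall_mem_open]
  rintro u ⟨W, hu, h1, h2⟩
  exact ⟨W, fun u' hu' => ⟨W, hu', h1, h2⟩, W.2, hu⟩

theorem etLocalPt_unrNear : EtLocalPt UnrNear.{u} where
  precomp := by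
    rintro A B C e h _ a ⟨W, ha, h1, h2⟩
    have key : (e ⁻¹ᵁ W).ι ≫ e ≫ h = (e ∣_ W) ≫ W.ι ≫ h := by
      rw [← Category.assoc, ← Category.assoc, morphismRestrict_ι]
    refine ⟨e ⁻¹ᵁ W, ha, ?_, ?_⟩
    · rw [key]; infer_instance
    · rw [key]; exact fu_comp _ _
  postcomp := by
    rintro A B C h e _ a ⟨W, ha, h1, h2⟩
    refine ⟨W, ha, ?_, ?_⟩
    · rw [← Category.assoc]; infer_instance
    · rw [← Category.assoc]; exact fu_comp _ _
  descend := by
    rintro A B C e h _ a ⟨W, ha, h1, h2⟩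
    set j : (W : Scheme.{u}) ⟶ B := W.ι ≫ e with hj
    have hopen : IsOpen (Set.range j) := j.isOpenMap.isOpen_range
    let W' : B.Opens := ⟨Set.range j, hopen⟩
    have hle : Set.range j ⊆ Set.range W'.ι := by
      rw [Scheme.Opens.range_ι]; exact subset_rfl
    let j' : (W : Scheme.{u}) ⟶ W' := IsOpenImmersion.lift W'.ι j hle
    have fac : j' ≫ W'.ι = j := IsOpenImmersion.lift_fac _ _ _
    have hj'e : Etale j' :=
      MorphismProperty.of_postcomp (W := @Etale) (W' := @Etale) j' W'.ι inferInstance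
        (by rw [fac]; infer_instance)
    have hj's : Surjective j' := ⟨fun w' => by
      obtain ⟨w, hw⟩ := w'.2
      refine ⟨w, ?_⟩
      apply W'.ι.isOpenEmbedding.injective
      rw [← Scheme.Hom.comp_apply, fac]
      exact hw⟩
    have e1 : j' ≫ (W'.ι ≫ h) = W.ι ≫ e ≫ h := by
      rw [← Category.assoc, fac, hj, Category.assoc]
    haveI : LocallyOfFiniteType (j' ≫ (W'.ι ≫ h)) := by rw [e1]; exact h1
    haveI : FormallyUnramified (j' ≫ (W'.ι ≫ h)) := by rw [e1]; exact h2
    refine ⟨W', ⟨⟨a, ha⟩, rfl⟩, locallyOfFiniteType_of_comp_etale_surjective j' _,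
      formallyUnramified_of_comp_etale_surjective j' _⟩
  cancel := by
    rintro A B C g e _ a ⟨W, ha, h1, h2⟩
    have e1 : W.ι ≫ g ≫ e = (W.ι ≫ g) ≫ e := (Category.assoc _ _ _).symm
    rw [e1] at h1 h2
    haveI := h1
    haveI := h2
    exact ⟨W, ha, locallyOfFiniteType_of_comp (W.ι ≫ g) e, FormallyUnramified.of_comp (W.ι ≫ g) e⟩

/-- Formation of the unramified locus of a morphism locally of finite type commutes with
arbitrary base change. -/
theorem unrNear_baseChange_iff {U V U'' V'' : Scheme.{u}} (k : U ⟶ V) [LocallyOfFiniteType k]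
    (mU : U'' ⟶ U) (k'' : U'' ⟶ V'') (mV : V'' ⟶ V) (sq : IsPullback mU k'' k mV) (u'' : U'') :
    UnrNear _ _ k'' u'' ↔ UnrNear _ _ k (mU u'') := by
  haveI : LocallyOfFiniteType k'' :=
    MorphismProperty.of_isPullback (P := @LocallyOfFiniteType) sq inferInstance
  rw [unrNear_iff_stalk, unrNear_iff_stalk]
  exact Groth.Agent.S16765.formallyUnramified_stalkMap_iff_of_isPullback sq u''

variable {S : Scheme.{u}}

/-- A morphism of algebraic spaces is unramified iff it is unramified at every point. -/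
theorem locP_unram_iff {X Y : AlgSp.Sp S} (hX : IsAlgSpace X) (hY : IsAlgSpace Y) (f : X ⟶ Y) :
    LocP (@LocallyOfFiniteType ⊓ @FormallyUnramified : MorphismProperty Scheme.{u}) f ↔
      ∀ x, HasAtMor UnrNear f x := by
  constructor
  · intro hL x
    obtain ⟨U₀, a₀, ha₀, ha₀s⟩ := hX.atlas
    obtain ⟨V, b, hb, hbs⟩ := hY.atlas
    obtain ⟨U, j, h, sq, hja, hjs⟩ :=
      Groth.Agent.Lib.Helper78.AlgSpBasic.exists_chart_diagram f a₀ ha₀ b hb
    obtain ⟨u, rfl⟩ := surjective_ofPt_of_repWith_surjective _ (hjs ha₀s hbs) x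
    have comm : ((yon S).map j ≫ a₀) ≫ f = (yon S).map h ≫ b := by
      rw [Category.assoc]; exact sq.w.symm
    have hP := hL _ b h hja hb comm
    haveI := hP.1
    haveI := hP.2
    exact ⟨U, V, _, b, h, u, hja, hb, comm, rfl, ⊤, trivial, inferInstance, fu_comp _ _⟩
  · intro H U V a b h ha hb comm
    have hu : ∀ u : U.left, UnrNear _ _ h.left u := fun u =>
      (hasAtMor_iff_of_chart etLocalPt_unrNear f a b h ha hb comm u).1 (H _)
    choose W hW1 hW2 hW3 using hu
    have hcov : iSup W = ⊤ :=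
      top_le_iff.1 fun u _ => TopologicalSpace.Opens.mem_iSup.2 ⟨u, hW1 u⟩
    exact ⟨IsZariskiLocalAtSource.of_iSup_eq_top W hcov hW2,
      IsZariskiLocalAtSource.of_iSup_eq_top W hcov hW3⟩

end Groth.Agent.Lib.Helper98.AlgSpUnram
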