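import Mathlib
import Groth.Agent.Lib.Helper98.AlgSpUnram
import Groth.Agent.Lib.Helper98.AlgSpLqf
import Groth.Agent.Lib.Helper78.AlgSpFibre

/-!
# Pointwise base change of etale local properties and pseudo-torsors (helper98)

* `hasAtMor_baseChange_iff'`: for `f` locally of finite type, an etale-local pointwise property whose
  scheme-level locus commutes with base change has `HasAtMor`-locus commuting with base change.
* `locP_lqf_iff`: locally quasi-finite iff quasi-finite at every point.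
* `locP_of_torsor_square`: the transfer of such a property from `G ⟶ B` to `X ⟶ B` when
  `G ×_B X ≅ X ×_B X` (pseudo-torsor), in a form free of monoidal structure.
-/

set_option autoImplicit false
set_option linter.style.haveILetI false
universe u

namespace Groth.Agent.Lib.Helper98.AlgSpPtBC

open CategoryTheory CategoryTheory.Limits AlgebraicGeometry AlgSp
open Groth.Agent.Lib.Helper52 Groth.Agent.Lib.Helper51
open Groth.Agent.Lib.Helper31.AlgSpFlatAt
open Groth.Agent.Lib.Helper98.AlgSpPtLocal Groth.Agent.Lib.Helper98.AlgSpUnram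
  Groth.Agent.Lib.Helper98.AlgSpLqf

variable {S : Scheme.{u}}
variable {Q : ∀ (U V : Scheme.{u}), (U ⟶ V) → ↥U → Prop}

/-- Base change of the locus of an etale local pointwise property, for `f` locally of finite type. -/
theorem hasAtMor_baseChange_iff' (hQ : EtLocalPt Q)
    (hbc : ∀ {U V U'' V'' : Scheme.{u}} (k : U ⟶ V) [LocallyOfFiniteType k] (mU : U'' ⟶ U)
      (k'' : U'' ⟶ V'') (mV : V'' ⟶ V), IsPullback mU k'' k mV →
      ∀ u'' : U'', Q _ _ k'' u'' ↔ Q _ _ k (mU u''))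
    {X Y X' Y' : AlgSp.Sp S} (hX : IsAlgSpace X) (hY : IsAlgSpace Y) (hY' : IsAlgSpace Y')
    (f : X ⟶ Y) (hf : LocP @LocallyOfFiniteType f) (g : Y' ⟶ Y) (f' : X' ⟶ Y') (pX : X' ⟶ X)
    (sq : IsPullback pX f' f g) (x' : Points X') :
    HasAtMor Q f' x' ↔ HasAtMor Q f (Points.map pX x') := by
  obtain ⟨G⟩ := exists_goodChart f (𝟙 Y) hX hY hY
  haveI : LocallyOfFiniteType G.k.left := hf G.a G.b G.k G.ha G.hb G.comm_f
  exact hasAtMor_baseChange_iff hQ G
    (fun mU k'' mV sq u'' => hbc G.k.left mU k'' mV sq u'')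
    hY' g f' (𝟙 Y') pX g IsPullback.of_id_snd sq x'

/-- A morphism of algebraic spaces is locally quasi-finite iff it is quasi-finite at every point. -/
theorem locP_lqf_iff {X Y : AlgSp.Sp S} (hX : IsAlgSpace X) (hY : IsAlgSpace Y) (f : X ⟶ Y) :
    LocP (@LocallyQuasiFinite ⊓ @LocallyOfFiniteType : MorphismProperty Scheme.{u}) f ↔
      ∀ x, HasAtMor LqfNear f x := by
  constructor
  · intro hL x
    obtain ⟨U₀, a₀, ha₀, ha₀s⟩ := hX.atlas
    obtain ⟨V, b, hb, hbs⟩ := hY.atlas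
    obtain ⟨U, j, h, sq, hja, hjs⟩ :=
      Groth.Agent.Lib.Helper78.AlgSpBasic.exists_chart_diagram f a₀ ha₀ b hb
    obtain ⟨u, rfl⟩ := surjective_ofPt_of_repWith_surjective _ (hjs ha₀s hbs) x
    have comm : ((yon S).map j ≫ a₀) ≫ f = (yon S).map h ≫ b := by
      rw [Category.assoc]; exact sq.w.symm
    have hP := hL _ b h hja hb comm
    haveI : LocallyQuasiFinite h.left := hP.1
    haveI : LocallyOfFiniteType h.left := hP.2
    exact ⟨U, V, _, b, h, u, hja, hb, comm, rfl, ⊤, trivial, lqf_comp _ _, inferInstance⟩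
  · intro H U V a b h ha hb comm
    have hu : ∀ u : U.left, LqfNear _ _ h.left u := fun u =>
      (hasAtMor_iff_of_chart etLocalPt_lqfNear f a b h ha hb comm u).1 (H _)
    choose W hW1 hW2 hW3 using hu
    have hcov : iSup W = ⊤ :=
      top_le_iff.1 fun u _ => TopologicalSpace.Opens.mem_iSup.2 ⟨u, hW1 u⟩
    exact ⟨IsZariskiLocalAtSource.of_iSup_eq_top W hcov hW2,
      IsZariskiLocalAtSource.of_iSup_eq_top W hcov hW3⟩

/-- Transfer along a "torsor square": if `T = G ×_B X` (projections `p₁`, `p₂`) is also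
`X ×_B X` via `(act, p₂)`, and `act` has a section, then a base-change-compatible pointwise
property passes from `γ : G ⟶ B` to `ξ : X ⟶ B`. -/
theorem locP_of_torsor_square (hQ : EtLocalPt Q)
    (hbc : ∀ {U V U'' V'' : Scheme.{u}} (k : U ⟶ V) [LocallyOfFiniteType k] (mU : U'' ⟶ U)
      (k'' : U'' ⟶ V'') (mV : V'' ⟶ V), IsPullback mU k'' k mV →
      ∀ u'' : U'', Q _ _ k'' u'' ↔ Q _ _ k (mU u''))
    (P : MorphismProperty Scheme.{u})
    (hP : ∀ {X Y : AlgSp.Sp S}, IsAlgSpace X → IsAlgSpace Y → ∀ f : X ⟶ Y,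
      (LocP P f ↔ ∀ x, HasAtMor Q f x))
    {B Gl Xl T : AlgSp.Sp S} (hB : IsAlgSpace B) (hG : IsAlgSpace Gl) (hX : IsAlgSpace Xl)
    (γ : Gl ⟶ B) (ξ : Xl ⟶ B) (hγ : LocP @LocallyOfFiniteType γ)
    (hξ : LocP @LocallyOfFiniteType ξ) (p₁ : T ⟶ Gl) (p₂ : T ⟶ Xl)
    (sqG : IsPullback p₁ p₂ γ ξ) (act : T ⟶ Xl) (sqA : IsPullback act p₂ ξ ξ)
    (σ : Xl ⟶ T) (hσ : σ ≫ act = 𝟙 Xl) (hPγ : LocP P γ) : LocP P ξ := by
  rw [hP hX hB]
  intro x
  have h1 : ∀ t : Points T, HasAtMor Q p₂ t := fun t =>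
    (hasAtMor_baseChange_iff' hQ hbc hG hB hX γ hγ ξ p₂ p₁ sqG t).2 ((hP hG hB γ).1 hPγ _)
  have h2 := (hasAtMor_baseChange_iff' hQ hbc hX hB hX ξ hξ ξ p₂ act sqA (Points.map σ x)).1 (h1 _)
  rwa [← Points.map_comp, hσ, Points.map_id] at h2

end Groth.Agent.Lib.Helper98.AlgSpPtBC
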