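import Mathlib
import Groth.Prelude.Def_AlgSpGpd
import Groth.Agent.Lib.Helper98.AlgSpPtBC
import Groth.Agent.Lib.Helper51.AlgSpOpen
import Groth.Agent.Lib.Helper51.AlgSpPoints2

/-!
# The largest open over which a group algebraic space has an etale-local pointwise property (helper98)

For a group algebraic space `G ⟶ B` locally of finite type and an etale-local pointwise property `Q`
whose locus commutes with base change (unramified, quasi-finite), the locus of `G ⟶ B` is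
"homogeneous": `g` lies in it iff `e(γ(g))` does.  Hence `G_W ⟶ W` has the property iff
`W ⊆ e⁻¹(locus)`, and this description commutes with arbitrary base change.
-/

set_option autoImplicit false
set_option linter.style.haveILetI false
universe u

namespace Groth.Agent.Lib.Helper98.AlgSpGrpOpen

open CategoryTheory CategoryTheory.Limits AlgebraicGeometry AlgSp
open Groth.Agent.Lib.Helper52 Groth.Agent.Lib.Helper51
open Groth.Agent.Lib.Helper31.AlgSpFlatAt
open Groth.Agent.Lib.Helper98.AlgSpPtLocal Groth.Agent.Lib.Helper98.AlgSpPtBC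

section Shear

open CartesianMonoidalCategory MonObj

/-- The shear map `(a, b) ↦ (a * b, b)` of a group object is an isomorphism. -/
theorem isIso_shear {C : Type*} [Category C] [CartesianMonoidalCategory C] (G : C) [GrpObj G] :
    IsIso (lift μ[G] (snd G G)) := by
  refine ⟨lift (fst G G * (snd G G)⁻¹) (snd G G), ?_, ?_⟩
  · apply CartesianMonoidalCategory.hom_ext
    · rw [Category.assoc, lift_fst, Category.id_comp, MonObj.comp_mul, lift_fst, GrpObj.comp_inv,
        lift_snd, MonObj.mul_eq_mul, mul_inv_cancel_right]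
    · rw [Category.assoc, lift_snd, lift_snd, Category.id_comp]
  · apply CartesianMonoidalCategory.hom_ext
    · rw [Category.assoc, lift_fst, Category.id_comp, MonObj.mul_eq_mul, MonObj.comp_mul, lift_fst,
        lift_snd, inv_mul_cancel_right]
    · rw [Category.assoc, lift_snd, lift_snd, Category.id_comp]

end Shear

variable {S : Scheme.{u}}
variable {Q : ∀ (U V : Scheme.{u}), (U ⟶ V) → ↥U → Prop}

/-- An open subspace of an algebraic space is an algebraic space. -/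
theorem isAlgSpace_of_openImm {W B : AlgSp.Sp S} (w : W ⟶ B) (hw : RepWith @IsOpenImmersion w)
    (hB : IsAlgSpace B) : IsAlgSpace W := by
  haveI : Mono w := mono_of_repWith (fun g (_ : IsOpenImmersion g) => inferInstance) hw
  refine ⟨representable_diag_of_mono w hB.diag, ?_⟩
  obtain ⟨U, p, hp, hs⟩ := hB.atlas
  have sq := hw.1.isPullback p
  exact ⟨hw.1.pullback p, hw.1.fst p, MorphismProperty.of_isPullback sq.flip hp,
    MorphismProperty.of_isPullback sq.flip hs⟩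

/-- Homogeneity of the locus for a "group-like" square. -/
theorem hasAtMor_homogeneous (hQ : EtLocalPt Q)
    (hbc : ∀ {U V U'' V'' : Scheme.{u}} (k : U ⟶ V) [LocallyOfFiniteType k] (mU : U'' ⟶ U)
      (k'' : U'' ⟶ V'') (mV : V'' ⟶ V), IsPullback mU k'' k mV →
      ∀ u'' : U'', Q _ _ k'' u'' ↔ Q _ _ k (mU u''))
    {B Gl T : AlgSp.Sp S} (hB : IsAlgSpace B) (hG : IsAlgSpace Gl)
    (γ : Gl ⟶ B) (hγ : LocP @LocallyOfFiniteType γ) (p₁ p₂ : T ⟶ Gl)
    (sqG : IsPullback p₁ p₂ γ γ) (m : T ⟶ Gl) (sqM : IsPullback m p₂ γ γ)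
    (e : B ⟶ Gl) (σ : Gl ⟶ T) (hσm : σ ≫ m = 𝟙 Gl) (hσp : σ ≫ p₁ = γ ≫ e) (g : Points Gl) :
    HasAtMor Q γ g ↔ HasAtMor Q γ (Points.map (γ ≫ e) g) := by
  have h1 := hasAtMor_baseChange_iff' hQ hbc hG hB hG γ hγ γ p₂ m sqM (Points.map σ g)
  have h2 := hasAtMor_baseChange_iff' hQ hbc hG hB hG γ hγ γ p₂ p₁ sqG (Points.map σ g)
  rw [← Points.map_comp, hσm, Points.map_id] at h1
  rw [← Points.map_comp, hσp] at h2
  exact h1.symm.trans h2

/-- The key description: over a base change `φ : W'' ⟶ B`, the pulled back morphism has `P` iff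
`φ` lands in the open `e⁻¹(locus)`. -/
theorem locP_iff_range_subset (hQ : EtLocalPt Q)
    (hbc : ∀ {U V U'' V'' : Scheme.{u}} (k : U ⟶ V) [LocallyOfFiniteType k] (mU : U'' ⟶ U)
      (k'' : U'' ⟶ V'') (mV : V'' ⟶ V), IsPullback mU k'' k mV →
      ∀ u'' : U'', Q _ _ k'' u'' ↔ Q _ _ k (mU u''))
    (P : MorphismProperty Scheme.{u})
    (hP : ∀ {X Y : AlgSp.Sp S}, IsAlgSpace X → IsAlgSpace Y → ∀ f : X ⟶ Y,
      (LocP P f ↔ ∀ x, HasAtMor Q f x))
    {B Gl : AlgSp.Sp S} (hB : IsAlgSpace B) (hG : IsAlgSpace Gl)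
    (γ : Gl ⟶ B) (hγ : LocP @LocallyOfFiniteType γ) (e : B ⟶ Gl) (he : e ≫ γ = 𝟙 B)
    (hom : ∀ g : Points Gl, HasAtMor Q γ g ↔ HasAtMor Q γ (Points.map (γ ≫ e) g))
    {W'' G'' : AlgSp.Sp S} (hW'' : IsAlgSpace W'') (φ : W'' ⟶ B) (pG : G'' ⟶ Gl) (p : G'' ⟶ W'')
    (sq : IsPullback pG p γ φ) :
    LocP P p ↔ Set.range (Points.map φ) ⊆ (Points.map e) ⁻¹' {g | HasAtMor Q γ g} := by
  have hG'' : IsAlgSpace G'' :=
    Groth.Agent.Lib.Helper78.AlgSpFibre.isAlgSpace_of_isPullback sq hB.diag hG hW''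
  rw [hP hG'' hW'' p]
  have key : ∀ x'' : Points G'', HasAtMor Q p x'' ↔
      Points.map φ (Points.map p x'') ∈ (Points.map e) ⁻¹' {g | HasAtMor Q γ g} := by
    intro x''
    have h1 : Points.map (γ ≫ e) (Points.map pG x'') =
        Points.map e (Points.map φ (Points.map p x'')) := by
      rw [← Points.map_comp pG (γ ≫ e) x'', ← Points.map_comp p φ x'',
        ← Points.map_comp (p ≫ φ) e x'', ← Category.assoc, sq.w]
    rw [hasAtMor_baseChange_iff' hQ hbc hG hB hW'' γ hγ φ p pG sq x'', hom, h1]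
    rfl
  let s : W'' ⟶ G'' := sq.lift (φ ≫ e) (𝟙 W'') (by rw [Category.assoc, he, Category.comp_id,
    Category.id_comp])
  have hs : s ≫ p = 𝟙 W'' := sq.lift_snd _ _ _
  constructor
  · rintro H _ ⟨y, rfl⟩
    have := (key (Points.map s y)).1 (H _)
    rwa [← Points.map_comp s p y, hs, Points.map_id] at this
  · intro H x''
    exact (key x'').2 (H ⟨_, rfl⟩)

/-- Monoidal-free form of the existence of the largest open. -/
theorem exists_largest_open_aux (hQ : EtLocalPt Q)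
    (hbc : ∀ {U V U'' V'' : Scheme.{u}} (k : U ⟶ V) [LocallyOfFiniteType k] (mU : U'' ⟶ U)
      (k'' : U'' ⟶ V'') (mV : V'' ⟶ V), IsPullback mU k'' k mV →
      ∀ u'' : U'', Q _ _ k'' u'' ↔ Q _ _ k (mU u''))
    (hopen : ∀ {U V : Scheme.{u}} (h : U ⟶ V), IsOpen {u : U | Q _ _ h u})
    (P : MorphismProperty Scheme.{u})
    (hP : ∀ {X Y : AlgSp.Sp S}, IsAlgSpace X → IsAlgSpace Y → ∀ f : X ⟶ Y,
      (LocP P f ↔ ∀ x, HasAtMor Q f x))
    {B Gl T : AlgSp.Sp S} (hB : IsAlgSpace B) (hG : IsAlgSpace Gl)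
    (γ : Gl ⟶ B) (hγ : LocP @LocallyOfFiniteType γ) (p₁ p₂ : T ⟶ Gl)
    (sqG : IsPullback p₁ p₂ γ γ) (m : T ⟶ Gl) (sqM : IsPullback m p₂ γ γ)
    (e : B ⟶ Gl) (he : e ≫ γ = 𝟙 B) (σ : Gl ⟶ T) (hσm : σ ≫ m = 𝟙 Gl)
    (hσp : σ ≫ p₁ = γ ≫ e) :
    ∃ (W : AlgSp.Sp S) (w : W ⟶ B), RepWith @IsOpenImmersion w ∧
      (∀ (W' : AlgSp.Sp S) (w' : W' ⟶ B), RepWith @IsOpenImmersion w' →
        (LocP P (pullback.snd γ w') ↔ ∃ k : W' ⟶ W, k ≫ w = w')) ∧
      (∀ (B' : AlgSp.Sp S), IsAlgSpace B' → ∀ (f : B' ⟶ B) (W'' : AlgSp.Sp S) (w'' : W'' ⟶ B'),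
        RepWith @IsOpenImmersion w'' →
        (LocP P (pullback.snd (pullback.snd γ f) w'') ↔
          ∃ k : W'' ⟶ pullback w f, k ≫ pullback.snd w f = w'')) := by
  have hom := hasAtMor_homogeneous hQ hbc hB hG γ hγ p₁ p₂ sqG m sqM e σ hσm hσp
  obtain ⟨Gc⟩ := exists_goodChart γ (𝟙 B) hG hB hB
  have hU : IsOpen {g : Points Gl | HasAtMor Q γ g} := isOpen_hasAtMor hQ Gc (hopen Gc.k.left)
  have hWo : IsOpen ((Points.map e) ⁻¹' {g : Points Gl | HasAtMor Q γ g}) :=
    hU.preimage (Points.continuous_map e)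
  set Wp : Set (Points B) := (Points.map e) ⁻¹' {g : Points Gl | HasAtMor Q γ g} with hWp
  have hw : RepWith @IsOpenImmersion (openSpι B Wp) := repWith_isOpenImmersion_openSpι Wp hWo
  have hr : Set.range (Points.map (openSpι B Wp)) = Wp := range_map_openSpι Wp
  refine ⟨openSp B Wp, openSpι B Wp, hw, ?_, ?_⟩
  · intro W' w' hw'
    have hW' : IsAlgSpace W' := isAlgSpace_of_openImm w' hw' hB
    rw [locP_iff_range_subset hQ hbc P hP hB hG γ hγ e he hom hW' w' _ _
      (IsPullback.of_hasPullback γ w')]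
    constructor
    · intro h
      exact exists_factor_of_range_subset _ hw w' (by rw [hr]; exact h)
    · rintro ⟨k, rfl⟩ _ ⟨y, rfl⟩
      rw [Points.map_comp]
      exact hr.subset (Set.mem_range_self _)
  · intro B' hB' f W'' w'' hw''
    have hW'' : IsAlgSpace W'' := isAlgSpace_of_openImm w'' hw'' hB'
    rw [locP_iff_range_subset hQ hbc P hP hB hG γ hγ e he hom hW'' (w'' ≫ f) _ _
      ((IsPullback.of_hasPullback (pullback.snd γ f) w'').paste_horiz
        (IsPullback.of_hasPullback γ f))]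
    constructor
    · intro h
      obtain ⟨k₁, hk₁⟩ := exists_factor_of_range_subset _ hw (w'' ≫ f) (by rw [hr]; exact h)
      exact ⟨pullback.lift k₁ w'' hk₁, pullback.lift_snd _ _ _⟩
    · rintro ⟨k, hk⟩ _ ⟨y, rfl⟩
      have h3 : w'' ≫ f = (k ≫ pullback.fst (openSpι B Wp) f) ≫ openSpι B Wp := by
        rw [← hk, Category.assoc, Category.assoc, pullback.condition]
      rw [h3, Points.map_comp]
      exact hr.subset (Set.mem_range_self _)

section Grp

open CartesianMonoidalCategory MonObj MonoidalCategory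

/-- **The largest open subspace over which a group algebraic space has `P`**, commuting with base
change. -/
theorem exists_largest_open (hQ : EtLocalPt Q)
    (hbc : ∀ {U V U'' V'' : Scheme.{u}} (k : U ⟶ V) [LocallyOfFiniteType k] (mU : U'' ⟶ U)
      (k'' : U'' ⟶ V'') (mV : V'' ⟶ V), IsPullback mU k'' k mV →
      ∀ u'' : U'', Q _ _ k'' u'' ↔ Q _ _ k (mU u''))
    (hopen : ∀ {U V : Scheme.{u}} (h : U ⟶ V), IsOpen {u : U | Q _ _ h u})
    (P : MorphismProperty Scheme.{u})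
    (hP : ∀ {X Y : AlgSp.Sp S}, IsAlgSpace X → IsAlgSpace Y → ∀ f : X ⟶ Y,
      (LocP P f ↔ ∀ x, HasAtMor Q f x))
    {B : AlgSp.Sp S} (hB : IsAlgSpace B) (G : Over B) [GrpObj G] (hG : IsAlgSpace G.left)
    (hlft : LocP @LocallyOfFiniteType G.hom) :
    ∃ (W : AlgSp.Sp S) (w : W ⟶ B), RepWith @IsOpenImmersion w ∧
      (∀ (W' : AlgSp.Sp S) (w' : W' ⟶ B), RepWith @IsOpenImmersion w' →
        (LocP P (pullback.snd G.hom w') ↔ ∃ k : W' ⟶ W, k ≫ w = w')) ∧
      (∀ (B' : AlgSp.Sp S), IsAlgSpace B' → ∀ (f : B' ⟶ B) (W'' : AlgSp.Sp S) (w'' : W'' ⟶ B'),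
        RepWith @IsOpenImmersion w'' →
        (LocP P (pullback.snd (pullback.snd G.hom f) w'') ↔
          ∃ k : W'' ⟶ pullback w f, k ≫ pullback.snd w f = w'')) := by
  have sqG : IsPullback (fst G G).left (snd G G).left G.hom G.hom :=
    IsPullback.of_hasPullback G.hom G.hom
  haveI hθ : IsIso (lift μ[G] (snd G G)) := isIso_shear G
  haveI hθl : IsIso (lift μ[G] (snd G G)).left :=
    inferInstanceAs (IsIso ((Over.forget B).map (lift μ[G] (snd G G))))
  have hθ1 : (lift μ[G] (snd G G)).left ≫ (fst G G).left = μ[G].left := by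
    rw [← Over.comp_left, lift_fst]
  have hθ2 : (lift μ[G] (snd G G)).left ≫ (snd G G).left = (snd G G).left := by
    rw [← Over.comp_left, lift_snd]
  have sqM : IsPullback μ[G].left (snd G G).left G.hom G.hom := by
    refine IsPullback.of_iso sqG (asIso (lift μ[G] (snd G G)).left).symm (Iso.refl _) (Iso.refl _)
      (Iso.refl _) ?_ ?_ ?_ ?_
    · rw [Iso.refl_hom, Category.comp_id, Iso.symm_hom, asIso_inv, IsIso.eq_inv_comp]
      exact hθ1
    · rw [Iso.refl_hom, Category.comp_id, Iso.symm_hom, asIso_inv, IsIso.eq_inv_comp]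
      exact hθ2
    · simp
    · simp
  have hσ' : lift (toUnit G ≫ η[G]) (𝟙 G) ≫ μ[G] = 𝟙 G := by
    have h0 : lift (toUnit G ≫ η[G]) (𝟙 G) = (λ_ G).inv ≫ (η[G] ▷ G) := by
      apply CartesianMonoidalCategory.hom_ext <;> simp
    rw [h0, Category.assoc, MonObj.one_mul, Iso.inv_hom_id]
  have hσm : (lift (toUnit G ≫ η[G]) (𝟙 G)).left ≫ μ[G].left = 𝟙 G.left := by
    rw [← Over.comp_left, hσ']; rfl
  have hσp : (lift (toUnit G ≫ η[G]) (𝟙 G)).left ≫ (fst G G).left = G.hom ≫ η[G].left := by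
    rw [← Over.comp_left, lift_fst]; rfl
  have he : η[G].left ≫ G.hom = 𝟙 B := Over.w η[G]
  exact exists_largest_open_aux hQ hbc hopen P hP hB hG G.hom hlft _ _ sqG _ sqM _ he _ hσm hσp

end Grp

end Groth.Agent.Lib.Helper98.AlgSpGrpOpen
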