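import Mathlib
import Groth.Agent.Lib.Helper98.AlgSpGrpOpen

/-!
# A group algebraic space has an etale-local pointwise property iff it has it along the unit section
(helper98)
-/

set_option autoImplicit false
set_option linter.style.haveILetI false
universe u

namespace Groth.Agent.Lib.Helper98.AlgSpGrpUnit

open CategoryTheory CategoryTheory.Limits AlgebraicGeometry AlgSp
open Groth.Agent.Lib.Helper52 Groth.Agent.Lib.Helper51
open Groth.Agent.Lib.Helper31.AlgSpFlatAt
open Groth.Agent.Lib.Helper98.AlgSpPtLocal Groth.Agent.Lib.Helper98.AlgSpPtBC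
open Groth.Agent.Lib.Helper98.AlgSpGrpOpen
open CartesianMonoidalCategory MonObj MonoidalCategory

variable {S : Scheme.{u}}
variable {Q : ∀ (U V : Scheme.{u}), (U ⟶ V) → ↥U → Prop}

/-- Homogeneity of the locus of a group algebraic space: `g` lies in it iff `e(γ(g))` does. -/
theorem hasAtMor_iff_unit (hQ : EtLocalPt Q)
    (hbc : ∀ {U V U'' V'' : Scheme.{u}} (k : U ⟶ V) [LocallyOfFiniteType k] (mU : U'' ⟶ U)
      (k'' : U'' ⟶ V'') (mV : V'' ⟶ V), IsPullback mU k'' k mV →
      ∀ u'' : U'', Q _ _ k'' u'' ↔ Q _ _ k (mU u''))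
    {B : AlgSp.Sp S} (hB : IsAlgSpace B) (G : Over B) [GrpObj G] (hG : IsAlgSpace G.left)
    (hlft : LocP @LocallyOfFiniteType G.hom) (g : Points G.left) :
    HasAtMor Q G.hom g ↔ HasAtMor Q G.hom (Points.map η[G].left (Points.map G.hom g)) := by
  have sqG : IsPullback (fst G G).left (snd G G).left G.hom G.hom :=
    IsPullback.of_hasPullback G.hom G.hom
  haveI hθ : IsIso (lift μ[G] (snd G G)) := isIso_shear G
  haveI hθl : IsIso (lift μ[G] (snd G G)).left :=
    inferInstanceAs (IsIso ((Over.forget B).map (lift μ[G] (snd G G))))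
  have hθ1 : (lift μ[G] (snd G G)).left ≫ (fst G G).left = μ[G].left := by
    rw [← Over.comp_left, lift_fst]
  have hθ2 : (lift μ[G] (snd G G)).left ≫ (snd G G).left = (snd G G).left := by
    rw [← Over.comp_left, lift_snd]
  have sqM : IsPullback μ[G].left (snd G G).left G.hom G.hom := by
    refine IsPullback.of_iso sqG (asIso (lift μ[G] (snd G G)).left).symm (Iso.refl _) (Iso.refl _)
      (Iso.refl _) ?_ ?_ ?_ ?_
    · rw [Iso.refl_hom, Category.comp_id, Iso.symm_hom, asIso_inv, IsIso.eq_inv_comp]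
      exact hθ1
    · rw [Iso.refl_hom, Category.comp_id, Iso.symm_hom, asIso_inv, IsIso.eq_inv_comp]
      exact hθ2
    · simp
    · simp
  have hσ' : lift (toUnit G ≫ η[G]) (𝟙 G) ≫ μ[G] = 𝟙 G := by
    have h0 : lift (toUnit G ≫ η[G]) (𝟙 G) = (λ_ G).inv ≫ (η[G] ▷ G) := by
      apply CartesianMonoidalCategory.hom_ext <;> simp
    rw [h0, Category.assoc, MonObj.one_mul, Iso.inv_hom_id]
  have hσm : (lift (toUnit G ≫ η[G]) (𝟙 G)).left ≫ μ[G].left = 𝟙 G.left := by
    rw [← Over.comp_left, hσ']; rfl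
  have hσp : (lift (toUnit G ≫ η[G]) (𝟙 G)).left ≫ (fst G G).left = G.hom ≫ η[G].left := by
    rw [← Over.comp_left, lift_fst]; rfl
  rw [← Points.map_comp]
  exact hasAtMor_homogeneous hQ hbc hB hG G.hom hlft _ _ sqG _ sqM _ _ hσm hσp g

/-- A group algebraic space locally of finite type has `P` iff it has the pointwise property `Q`
at the points of the unit section. -/
theorem locP_iff_unit (hQ : EtLocalPt Q)
    (hbc : ∀ {U V U'' V'' : Scheme.{u}} (k : U ⟶ V) [LocallyOfFiniteType k] (mU : U'' ⟶ U)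
      (k'' : U'' ⟶ V'') (mV : V'' ⟶ V), IsPullback mU k'' k mV →
      ∀ u'' : U'', Q _ _ k'' u'' ↔ Q _ _ k (mU u''))
    (P : MorphismProperty Scheme.{u})
    (hP : ∀ {X Y : AlgSp.Sp S}, IsAlgSpace X → IsAlgSpace Y → ∀ f : X ⟶ Y,
      (LocP P f ↔ ∀ x, HasAtMor Q f x))
    {B : AlgSp.Sp S} (hB : IsAlgSpace B) (G : Over B) [GrpObj G] (hG : IsAlgSpace G.left)
    (hlft : LocP @LocallyOfFiniteType G.hom) :
    LocP P G.hom ↔ ∀ b : Points B, HasAtMor Q G.hom (Points.map η[G].left b) := by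
  rw [hP hG hB G.hom]
  constructor
  · intro H b
    exact H _
  · intro H g
    rw [hasAtMor_iff_unit hQ hbc hB G hG hlft g]
    exact H _

end Groth.Agent.Lib.Helper98.AlgSpGrpUnit
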