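import Mathlib
import Groth.Agent.Lib.Helper98.AlgSpGrpUnit
import Groth.Agent.Lib.Helper98.AlgSpFibreDimLocal
import Groth.Agent.Lib.Helper98.AlgSpLqf
import Groth.Agent.Lib.Helper29.TopDimLocal
import Groth.Agent.Lib.Helper51.AlgSpOnePt2

/-!
# The local dimension of a group algebraic space over a field is constant (helper98)
-/

set_option autoImplicit false
set_option linter.style.haveILetI false
universe u

namespace Groth.Agent.Lib.Helper98.AlgSpGrpDim

open CategoryTheory CategoryTheory.Limits AlgebraicGeometry AlgSp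
open Groth.Agent.Lib.Helper52 Groth.Agent.Lib.Helper51
open Groth.Agent.Lib.Helper98.AlgSpPtLocal Groth.Agent.Lib.Helper98.AlgSpFibreDimLocal
open Groth.Agent.Lib.Helper98.AlgSpLqf Groth.Agent.Lib.Helper98.AlgSpGrpUnit
open Groth.Agent.Lib.Helper29
open CartesianMonoidalCategory MonObj MonoidalCategory

/-- For a group algebraic space `G` locally of finite type over a field, `dim_g(G) = dim(G)`. -/
theorem hasAt_localDim_eq_dim (k : Type u) [Field k]
    (G : Over ((AlgSp.yon (Spec (CommRingCat.of k))).obj (Over.mk (𝟙 _)))) [GrpObj G]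
    (hG : IsAlgSpace G.left) (hlft : LocP @LocallyOfFiniteType G.hom) (g : Points G.left) :
    HasAt (fun V v => FlatMor.localDim ↥V v = AlgSp.dim G.left) G.left g := by
  have hB : IsAlgSpace ((AlgSp.yon (Spec (CommRingCat.of k))).obj (Over.mk (𝟙 _))) :=
    IsAlgSpace.yon_obj _
  haveI hsub : Subsingleton
      (Points ((AlgSp.yon (Spec (CommRingCat.of k))).obj (Over.mk (𝟙 _)))) :=
    subsingleton_points_yon_field (𝟙 (Spec (CommRingCat.of k)))
  have hQ : ∀ d : WithBot ℕ∞,
      EtLocalPt.{u} (fun _ _ h u => FlatMor.fibreDimAt h u = d) :=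
    fun d => etLocalPt_fibreDim (fun x => x = d)
  have hbc : ∀ (d : WithBot ℕ∞) {U V U'' V'' : Scheme.{u}} (k : U ⟶ V) [LocallyOfFiniteType k]
      (mU : U'' ⟶ U) (k'' : U'' ⟶ V'') (mV : V'' ⟶ V), IsPullback mU k'' k mV →
      ∀ u'' : U'', FlatMor.fibreDimAt k'' u'' = d ↔ FlatMor.fibreDimAt k (mU u'') = d := by
    intro d U V U'' V'' k _ mU k'' mV sq u''
    rw [fibreDimAt_baseChange k mU k'' mV sq u'']
  have hconst : ∀ (d : WithBot ℕ∞) (g g' : Points G.left),
      HasAtMor (fun _ _ h u => FlatMor.fibreDimAt h u = d) G.hom g →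
      HasAtMor (fun _ _ h u => FlatMor.fibreDimAt h u = d) G.hom g' := by
    intro d g g' h
    rw [hasAtMor_iff_unit (hQ d) (hbc d) hB G hG hlft g']
    rw [hasAtMor_iff_unit (hQ d) (hbc d) hB G hG hlft g] at h
    rwa [Subsingleton.elim (Points.map G.hom g') (Points.map G.hom g)]
  have hchart : ∀ (U : Over (Spec (CommRingCat.of k))) (a : (AlgSp.yon _).obj U ⟶ G.left)
      (_ : RepWith @Etale a) (u : U.left) (d : WithBot ℕ∞),
      HasAtMor (fun _ _ h u => FlatMor.fibreDimAt h u = d) G.hom (Points.ofPt a u) ↔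
        FlatMor.localDim U.left u = d := by
    intro U a ha u d
    have h1 : RepWith @Etale (𝟙 ((AlgSp.yon (Spec (CommRingCat.of k))).obj (Over.mk (𝟙 _)))) :=
      repWith_id _ _
    let h : U ⟶ Over.mk (𝟙 (Spec (CommRingCat.of k))) := (AlgSp.yon _).preimage (a ≫ G.hom)
    have comm : a ≫ G.hom = (AlgSp.yon _).map h ≫ 𝟙 _ := by
      rw [Category.comp_id]; exact ((AlgSp.yon _).map_preimage _).symm
    haveI : Subsingleton ↥(Over.mk (𝟙 (Spec (CommRingCat.of k)))).left :=
      inferInstanceAs (Subsingleton (PrimeSpectrum k))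
    rw [hasAtMor_iff_of_chart (hQ d) G.hom a (𝟙 _) h ha h1 comm u]
    show FlatMor.fibreDimAt h.left u = d ↔ _
    rw [fibreDimAt_eq_localDim_of_subsingleton]
  obtain ⟨U₀, a₀, ha₀, ha₀s⟩ := hG.atlas
  obtain ⟨u₀, rfl⟩ := surjective_ofPt_of_repWith_surjective a₀ ha₀s g
  have hg := (hchart U₀ a₀ ha₀ u₀ (FlatMor.localDim U₀.left u₀)).2 rfl
  have hall : ∀ (U : Over (Spec (CommRingCat.of k))) (a : (AlgSp.yon _).obj U ⟶ G.left)
      (_ : RepWith @Etale a) (u : U.left),
      FlatMor.localDim U.left u = FlatMor.localDim U₀.left u₀ :=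
    fun U a ha u => (hchart U a ha u _).1 (hconst _ _ _ hg)
  have hdim : AlgSp.dim G.left = FlatMor.localDim U₀.left u₀ := by
    unfold AlgSp.dim
    apply le_antisymm
    · refine iSup_le fun U => iSup_le fun a => iSup_le fun ha => ?_
      rw [topologicalKrullDim_eq_iSup_localDim]
      exact iSup_le fun u => (hall U a ha u).le
    · exact le_trans (localDim_le_dim u₀)
        (le_iSup_of_le U₀ (le_iSup_of_le a₀ (le_iSup_of_le ha₀ le_rfl)))
  exact ⟨U₀, a₀, u₀, ha₀, rfl, hdim.symm⟩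

end Groth.Agent.Lib.Helper98.AlgSpGrpDim
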