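import Mathlib
import Groth.Agent.Lib.Helper98.AlgSpGrpDim
import Groth.Agent.Lib.Helper51.AlgSpGpdShear
import Groth.Agent.Lib.Helper78.AlgSpBasic

/-!
# The local dimension of the arrow space of a groupoid over a field is constant (helper98)
-/

set_option autoImplicit false
set_option linter.style.haveILetI false
universe u

namespace Groth.Agent.Lib.Helper98.AlgSpGpdDim

open CategoryTheory CategoryTheory.Limits AlgebraicGeometry AlgSp AlgSp.GroupoidSp
open Groth.Agent.Lib.Helper52 Groth.Agent.Lib.Helper51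
open Groth.Agent.Lib.Helper98.AlgSpPtLocal Groth.Agent.Lib.Helper98.AlgSpFibreDimLocal
open Groth.Agent.Lib.Helper98.AlgSpLqf Groth.Agent.Lib.Helper98.AlgSpPtBC
open Groth.Agent.Lib.Helper29

variable {S : Scheme.{u}}
variable {Q : ∀ (U V : Scheme.{u}), (U ⟶ V) → ↥U → Prop}

/-- Homogeneity of the locus of `s` for a groupoid: two arrows with the same target are in the
locus simultaneously. -/
theorem gpd_hasAtMor_homogeneous (hQ : EtLocalPt Q)
    (hbc : ∀ {U V U'' V'' : Scheme.{u}} (k : U ⟶ V) [LocallyOfFiniteType k] (mU : U'' ⟶ U)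
      (k'' : U'' ⟶ V'') (mV : V'' ⟶ V), IsPullback mU k'' k mV →
      ∀ u'' : U'', Q _ _ k'' u'' ↔ Q _ _ k (mU u''))
    {B : Sp S} (G : GroupoidSp B) (hU : IsAlgSpace G.U) (hR : IsAlgSpace G.R)
    (hs : LocP @LocallyOfFiniteType G.s) (r r' : Points G.R)
    (htt : Points.map G.t r' = Points.map G.t r) :
    HasAtMor Q G.s r ↔ HasAtMor Q G.s r' := by
  have sqA : IsPullback G.c (pullback.snd G.s G.t) G.s G.s := Gpd.isPullback_c_snd G
  have sqE : IsPullback (pullback.fst G.s G.t) (pullback.snd G.s G.t) G.s G.t :=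
    IsPullback.of_hasPullback G.s G.t
  have hcond : (pullback.fst G.t G.t ≫ G.i) ≫ G.s = pullback.snd G.t G.t ≫ G.t := by
    rw [Category.assoc, G.i_s]; exact pullback.condition
  obtain ⟨φ, hφ1, hφ2⟩ : ∃ φ : pullback G.t G.t ⟶ pullback G.s G.t,
      φ ≫ pullback.fst G.s G.t = pullback.fst G.t G.t ∧
      φ ≫ pullback.snd G.s G.t =
        pullback.lift (pullback.fst G.t G.t ≫ G.i) (pullback.snd G.t G.t) hcond ≫ G.c := by
    refine ⟨pullback.lift (pullback.fst G.t G.t)
      (pullback.lift (pullback.fst G.t G.t ≫ G.i) (pullback.snd G.t G.t) hcond ≫ G.c) ?_,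
      pullback.lift_fst _ _ _, pullback.lift_snd _ _ _⟩
    rw [G.comp_t _ _ hcond, Category.assoc, G.i_t]
  have hφc : φ ≫ G.c = pullback.snd G.t G.t := (Gpd.shear G φ hφ1 hφ2).2
  obtain ⟨w, hw1, hw2⟩ :=
    exists_point_of_isPullback (IsPullback.of_hasPullback G.t G.t) r' r htt
  have h1 := hasAtMor_baseChange_iff' hQ hbc hR hU hR G.s hs G.s (pullback.snd G.s G.t) G.c sqA
    (Points.map φ w)
  have h2 := hasAtMor_baseChange_iff' hQ hbc hR hU hR G.s hs G.t (pullback.snd G.s G.t)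
    (pullback.fst G.s G.t) sqE (Points.map φ w)
  rw [← Points.map_comp, hφc, hw2] at h1
  rw [← Points.map_comp, hφ1, hw1] at h2
  exact h1.symm.trans h2

/-- For a groupoid in algebraic spaces with `U = Spec k` and `s` locally of finite type,
`dim_r(R) = dim(R)` for every point `r` of `R`. -/
theorem gpd_hasAt_localDim_eq_dim {B : Sp S} (G : GroupoidSp B) (hR : IsAlgSpace G.R)
    (k : Type u) [Field k] (σ : Spec (CommRingCat.of k) ⟶ S)
    (eU : G.U ≅ (AlgSp.yon S).obj (Over.mk σ)) (hs : LocP @LocallyOfFiniteType G.s)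
    (r : Points G.R) :
    HasAt (fun V v => FlatMor.localDim ↥V v = AlgSp.dim G.R) G.R r := by
  have hU : IsAlgSpace G.U := (IsAlgSpace.yon_obj (Over.mk σ)).of_iso eU.symm
  have hsub0 : Subsingleton (Points ((AlgSp.yon S).obj (Over.mk σ))) :=
    subsingleton_points_yon_field σ
  have hsub : ∀ x y : Points G.U, x = y := by
    intro x y
    have h1 : Points.map eU.hom x = Points.map eU.hom y := Subsingleton.elim _ _
    have h2 := congrArg (Points.map eU.inv) h1
    rwa [← Points.map_comp, ← Points.map_comp, eU.hom_inv_id, Points.map_id, Points.map_id] at h2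
  have hQ : ∀ d : WithBot ℕ∞,
      EtLocalPt.{u} (fun _ _ h u => FlatMor.fibreDimAt h u = d) :=
    fun d => etLocalPt_fibreDim (fun x => x = d)
  have hbc : ∀ (d : WithBot ℕ∞) {U V U'' V'' : Scheme.{u}} (k : U ⟶ V) [LocallyOfFiniteType k]
      (mU : U'' ⟶ U) (k'' : U'' ⟶ V'') (mV : V'' ⟶ V), IsPullback mU k'' k mV →
      ∀ u'' : U'', FlatMor.fibreDimAt k'' u'' = d ↔ FlatMor.fibreDimAt k (mU u'') = d := by
    intro d U V U'' V'' k _ mU k'' mV sq u''
    rw [fibreDimAt_baseChange k mU k'' mV sq u'']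
  have hconst : ∀ (d : WithBot ℕ∞) (r r' : Points G.R),
      HasAtMor (fun _ _ h u => FlatMor.fibreDimAt h u = d) G.s r →
      HasAtMor (fun _ _ h u => FlatMor.fibreDimAt h u = d) G.s r' := fun d r r' h =>
    (gpd_hasAtMor_homogeneous (hQ d) (hbc d) G hU hR hs r r' (hsub _ _)).1 h
  have hchart : ∀ (V : Over S) (a : (AlgSp.yon S).obj V ⟶ G.R)
      (_ : RepWith @Etale a) (v : V.left) (d : WithBot ℕ∞),
      HasAtMor (fun _ _ h u => FlatMor.fibreDimAt h u = d) G.s (Points.ofPt a v) ↔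
        FlatMor.localDim V.left v = d := by
    intro V a ha v d
    have h1 : RepWith @Etale eU.inv :=
      Groth.Agent.Lib.Helper78.AlgSpBasic.repWith_of_isIso _ eU.inv
    let h : V ⟶ Over.mk σ := (AlgSp.yon S).preimage (a ≫ G.s ≫ eU.hom)
    have comm : a ≫ G.s = (AlgSp.yon S).map h ≫ eU.inv := by
      rw [(AlgSp.yon S).map_preimage, Category.assoc, Category.assoc, eU.hom_inv_id,
        Category.comp_id]
    haveI : Subsingleton ↥(Over.mk σ).left := inferInstanceAs (Subsingleton (PrimeSpectrum k))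
    rw [hasAtMor_iff_of_chart (hQ d) G.s a eU.inv h ha h1 comm v]
    show FlatMor.fibreDimAt h.left v = d ↔ _
    rw [fibreDimAt_eq_localDim_of_subsingleton]
  obtain ⟨U₀, a₀, ha₀, ha₀s⟩ := hR.atlas
  obtain ⟨u₀, rfl⟩ := surjective_ofPt_of_repWith_surjective a₀ ha₀s r
  have hg := (hchart U₀ a₀ ha₀ u₀ (FlatMor.localDim U₀.left u₀)).2 rfl
  have hall : ∀ (V : Over S) (a : (AlgSp.yon S).obj V ⟶ G.R)
      (_ : RepWith @Etale a) (v : V.left),
      FlatMor.localDim V.left v = FlatMor.localDim U₀.left u₀ :=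
    fun V a ha v => (hchart V a ha v _).1 (hconst _ _ _ hg)
  have hdim : AlgSp.dim G.R = FlatMor.localDim U₀.left u₀ := by
    unfold AlgSp.dim
    apply le_antisymm
    · refine iSup_le fun V => iSup_le fun a => iSup_le fun ha => ?_
      rw [topologicalKrullDim_eq_iSup_localDim]
      exact iSup_le fun v => (hall V a ha v).le
    · exact le_trans (localDim_le_dim u₀)
        (le_iSup_of_le U₀ (le_iSup_of_le a₀ (le_iSup_of_le ha₀ le_rfl)))
  exact ⟨U₀, a₀, u₀, ha₀, rfl, hdim.symm⟩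

end Groth.Agent.Lib.Helper98.AlgSpGpdDim
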