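import Mathlib
import Groth.Prelude.Def_AlgSpGpd
import Groth.Prelude.Def_AlgSpCov
import Groth.Agent.Lib.Helper51.AlgSpQuotField7
import Groth.Agent.Lib.Helper78.AlgSpMisc
import Groth.Agent.Lib.Helper78.AlgSpLargestOpen
import Groth.Agent.Lib.Helper78.AlgSpFibre
import Groth.Agent.Lib.Helper30.AlgSpLoc
import Groth.Agent.Lib.Helper51.AlgSpGpdInv
import Groth.Agent.Lib.Helper51.AlgSpGpdShear
import Groth.Agent.Lib.Helper51.AlgSpOpen
import Groth.Agent.Lib.Helper51.AlgSpPoints2
import Groth.Agent.Lib.Helper78.AlgSpLocPSmooth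
import Groth.Agent.Lib.Helper78.AlgSpLocPLofp
import Groth.Agent.Lib.Helper78.AlgSpLocPFlat
import Groth.Agent.Lib.Helper78.AlgSpLocPUnram

/-!
# The largest open over which `s⁻¹(W) ⟶ W` has a `τ`-local property is invariant (helper98)
-/

set_option autoImplicit false
set_option linter.style.haveILetI false
universe u

namespace Groth.Agent.Lib.Helper98.AlgSpGpdLargest

open CategoryTheory CategoryTheory.Limits AlgebraicGeometry AlgSp AlgSp.GroupoidSp
open Groth.Agent.Lib.Helper52 Groth.Agent.Lib.Helper51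
open Groth.Agent.Lib.Helper78.AlgSpLocP Groth.Agent.Lib.Helper78.AlgSpMisc
open Groth.Agent.Lib.Helper78.AlgSpFibre

variable {S : Scheme.{u}}

theorem isOpenImmersion_le_etale :
    (@IsOpenImmersion : MorphismProperty Scheme.{u}) ≤ @Etale := by
  intro A B k hk
  haveI : IsOpenImmersion k := hk
  exact (inferInstance : Etale k)

/-- cancelling an open immersion on the right. -/
theorem locP_of_comp_openImm {Q : MorphismProperty Scheme.{u}} {X Y Z : Sp S} (g : X ⟶ Y)
    (w : Y ⟶ Z) (hw : RepWith @IsOpenImmersion w) (H : LocP Q (g ≫ w)) : LocP Q g := by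
  intro U V a b h ha hb comm
  refine H a (b ≫ w) h ha
    ((RepWith (S := S) @Etale).comp_mem b w hb
      (Groth.Agent.Lib.Helper78.AlgSpLargestOpen.repWith_mono' isOpenImmersion_le_etale hw)) ?_
  rw [← Category.assoc, comm, Category.assoc]

/-- the main lemma, abstract in the covering notion. -/
theorem isInvariant_of_largest_open {B : Sp S} (G : GroupoidSp B)
    (hU : IsAlgSpace G.U) (hR : IsAlgSpace G.R)
    (Q : MorphismProperty Scheme.{u}) (hQ : EtLocalST Q) [Q.IsStableUnderBaseChange]
    [Q.IsStableUnderComposition]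
    (hQoi : (@IsOpenImmersion : MorphismProperty Scheme.{u}) ≤ Q)
    (hQfl : Q ≤ @Flat) (hQfp : Q ≤ @LocallyOfFinitePresentation)
    (Pτ : MorphismProperty (Sp S))
    (hPτ : ∀ {X Y : Sp S}, IsAlgSpace Y → ∀ f : X ⟶ Y, (Pτ f ↔ LocP Q f))
    (P : MorphismProperty (Sp S))
    (hP : IsLocalOnBase (fun _ _ Y g => IsCover Pτ Y g) P)
    (hs : IsCover Pτ (fun _ : PUnit.{u + 1} => G.R) (fun _ => G.s))
    (ht : IsCover Pτ (fun _ : PUnit.{u + 1} => G.R) (fun _ => G.t))
    {W : Sp S} (hWsp : IsAlgSpace W) (w : W ⟶ G.U) (hw : RepWith @IsOpenImmersion w)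
    (hmax : ∀ (W' : Sp S) (w' : W' ⟶ G.U), IsAlgSpace W' → RepWith @IsOpenImmersion w' →
      (P (pullback.snd G.s w') ↔ ∃ k : W' ⟶ W, k ≫ w = w')) :
    G.IsInvariant w := by
  have hsQ : LocP Q G.s := (hPτ hU G.s).1 (hs.1 PUnit.unit)
  have htQ : LocP Q G.t := (hPτ hU G.t).1 (ht.1 PUnit.unit)
  have hsO : IsOpenMor G.s := by
    have h1 := Groth.Agent.Lib.Helper30.isUnivOpenMor_of_locP_flat_lfp hR hU G.s
      (locP_mono hQfl hsQ) (locP_mono hQfp hsQ)
    exact h1 hU (𝟙 G.U) (𝟙 G.R) G.s IsPullback.of_id_fst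
  set A : Set (Points G.U) :=
    Points.map G.s '' (Points.map G.t ⁻¹' Set.range (Points.map w)) with hA
  have hAo : IsOpen A :=
    hsO _ ((isOpen_range_map_of_isOpenImmersion w hw).preimage (Points.continuous_map G.t))
  have hw'' : RepWith @IsOpenImmersion (openSpι G.U A) := repWith_isOpenImmersion_openSpι A hAo
  have hr'' : Set.range (Points.map (openSpι G.U A)) = A := range_map_openSpι A
  have hW''sp : IsAlgSpace (openSp G.U A) := isAlgSpace_openSp A hAo hU
  haveI hmono'' : Mono (openSpι G.U A) :=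
    mono_of_repWith (fun g (_ : IsOpenImmersion g) => inferInstance) hw''
  -- the key claim
  have hPW'' : P (pullback.snd G.s (openSpι G.U A)) := by
    -- `Y₁ = t⁻¹(W)`
    have sqY : IsPullback (pullback.fst w G.t) (pullback.snd w G.t) w G.t :=
      IsPullback.of_hasPullback w G.t
    have hY₁ : IsAlgSpace (pullback w G.t) := isAlgSpace_of_isPullback sqY hU.diag hWsp hR
    have hι : RepWith @IsOpenImmersion (pullback.snd w G.t) :=
      MorphismProperty.of_isPullback sqY hw
    have hπc : pullback.fst w G.t ≫ w = pullback.snd w G.t ≫ G.t := pullback.condition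
    -- the map `g : Y₁ ⟶ W''`
    obtain ⟨g, hg⟩ : ∃ g : pullback w G.t ⟶ openSp G.U A,
        g ≫ openSpι G.U A = pullback.snd w G.t ≫ G.s := by
      refine exists_factor_of_range_subset _ hw'' (pullback.snd w G.t ≫ G.s) ?_
      rw [hr'']
      rintro _ ⟨z, rfl⟩
      rw [Points.map_comp]
      refine ⟨Points.map (pullback.snd w G.t) z, ?_, rfl⟩
      show Points.map G.t (Points.map (pullback.snd w G.t) z) ∈ Set.range (Points.map w)
      rw [← Points.map_comp, ← hπc, Points.map_comp]
      exact ⟨_, rfl⟩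
    have hgQ : LocP Q g := by
      have h1 : LocP Q (pullback.snd w G.t ≫ G.s) :=
        locP_comp hQ _ G.s hR.atlas
          (locP_of_repWith hQ _ hR.atlas
            (Groth.Agent.Lib.Helper78.AlgSpLargestOpen.repWith_mono' hQoi hι)) hsQ
      rw [← hg] at h1
      exact locP_of_comp_openImm g _ hw'' h1
    have hgsurj : ∀ x : Points (openSp G.U A), ∃ i : PUnit.{u + 1},
        x ∈ Set.range (Points.map ((fun _ => g : ∀ _ : PUnit.{u + 1}, _ ⟶ _) i)) := by
      intro x
      refine ⟨PUnit.unit, ?_⟩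
      have hx : Points.map (openSpι G.U A) x ∈ A := hr''.subset (Set.mem_range_self _)
      obtain ⟨ρ, hρ, hρs⟩ := hx
      obtain ⟨y, hy⟩ := hρ
      obtain ⟨z, hz1, hz2⟩ := exists_point_of_isPullback sqY y ρ hy
      refine ⟨z, ?_⟩
      apply injective_map_of_mono (openSpι G.U A)
      rw [← Points.map_comp, hg, Points.map_comp, hz2, hρs]
    -- the cover `π : Y₁ ⟶ W`
    have hπQ : LocP Q (pullback.fst w G.t) :=
      locP_of_isPullback hQ sqY.flip (repAll_of_isAlgSpace hU) hR.atlas hU.atlas htQ
    have hπsurj : ∀ y : Points W, ∃ i : PUnit.{u + 1},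
        y ∈ Set.range (Points.map
          ((fun _ => pullback.fst w G.t : ∀ _ : PUnit.{u + 1}, _ ⟶ _) i)) := by
      intro y
      refine ⟨PUnit.unit, ?_⟩
      have hy : Points.map w y = Points.map G.t (Points.map G.e (Points.map w y)) := by
        rw [← Points.map_comp G.e G.t, G.e_t, Points.map_id]
      obtain ⟨z, hz1, -⟩ := exists_point_of_isPullback sqY y _ hy
      exact ⟨z, hz1⟩
    -- the squares
    have sqE : IsPullback (pullback.fst G.s G.t) (pullback.snd G.s G.t) G.s G.t :=
      IsPullback.of_hasPullback G.s G.t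
    have sqA : IsPullback G.c (pullback.snd G.s G.t) G.s G.s := Gpd.isPullback_c_snd G
    have sqC : IsPullback (pullback.fst (pullback.snd G.s G.t) (pullback.snd w G.t))
        (pullback.snd (pullback.snd G.s G.t) (pullback.snd w G.t)) (pullback.snd G.s G.t)
        (pullback.snd w G.t) := IsPullback.of_hasPullback _ _
    have outer1 := sqC.paste_horiz sqA
    have outer2 := sqC.paste_horiz sqE
    have sqB : IsPullback (pullback.fst G.s (openSpι G.U A)) (pullback.snd G.s (openSpι G.U A))
        G.s (openSpι G.U A) := IsPullback.of_hasPullback _ _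
    have sqD : IsPullback (pullback.fst G.s w) (pullback.snd G.s w) G.s w :=
      IsPullback.of_hasPullback _ _
    have hR₂ : IsAlgSpace (pullback G.s G.t) := isAlgSpace_of_isPullback sqE hU.diag hR hR
    have hX₁ : IsAlgSpace (pullback (pullback.snd G.s G.t) (pullback.snd w G.t)) :=
      isAlgSpace_of_isPullback sqC hR.diag hR₂ hY₁
    have hX : IsAlgSpace (pullback G.s (openSpι G.U A)) :=
      isAlgSpace_of_isPullback sqB hU.diag hR hW''sp
    have hX₀ : IsAlgSpace (pullback G.s w) := isAlgSpace_of_isPullback sqD hU.diag hR hWsp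
    obtain ⟨q, hq1, hq2⟩ : ∃ q : pullback (pullback.snd G.s G.t) (pullback.snd w G.t) ⟶
        pullback G.s (openSpι G.U A),
        q ≫ pullback.fst G.s (openSpι G.U A) =
          pullback.fst (pullback.snd G.s G.t) (pullback.snd w G.t) ≫ G.c ∧
        q ≫ pullback.snd G.s (openSpι G.U A) =
          pullback.snd (pullback.snd G.s G.t) (pullback.snd w G.t) ≫ g := by
      refine ⟨pullback.lift (pullback.fst (pullback.snd G.s G.t) (pullback.snd w G.t) ≫ G.c)
        (pullback.snd (pullback.snd G.s G.t) (pullback.snd w G.t) ≫ g) ?_,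
        pullback.lift_fst _ _ _, pullback.lift_snd _ _ _⟩
      rw [Category.assoc _ g, hg]
      exact outer1.w
    obtain ⟨q₀, hq01, hq02⟩ : ∃ q₀ : pullback (pullback.snd G.s G.t) (pullback.snd w G.t) ⟶
        pullback G.s w,
        q₀ ≫ pullback.fst G.s w =
          pullback.fst (pullback.snd G.s G.t) (pullback.snd w G.t) ≫ pullback.fst G.s G.t ∧
        q₀ ≫ pullback.snd G.s w =
          pullback.snd (pullback.snd G.s G.t) (pullback.snd w G.t) ≫ pullback.fst w G.t := by
      refine ⟨pullback.lift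
        (pullback.fst (pullback.snd G.s G.t) (pullback.snd w G.t) ≫ pullback.fst G.s G.t)
        (pullback.snd (pullback.snd G.s G.t) (pullback.snd w G.t) ≫ pullback.fst w G.t) ?_,
        pullback.lift_fst _ _ _, pullback.lift_snd _ _ _⟩
      rw [Category.assoc _ (pullback.fst w G.t), hπc]
      exact outer2.w
    have sq1 : IsPullback q (pullback.snd (pullback.snd G.s G.t) (pullback.snd w G.t))
        (pullback.snd G.s (openSpι G.U A)) g := by
      refine IsPullback.of_right ?_ hq2 sqB
      rw [hq1, hg]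
      exact outer1
    have sq2 : IsPullback q₀ (pullback.snd (pullback.snd G.s G.t) (pullback.snd w G.t))
        (pullback.snd G.s w) (pullback.fst w G.t) := by
      refine IsPullback.of_right ?_ hq02 sqD
      rw [hq01, hπc]
      exact outer2
    have hPf₀ : P (pullback.snd G.s w) := (hmax W w hWsp hw).2 ⟨𝟙 W, Category.id_comp w⟩
    have hPp : P (pullback.snd (pullback.snd G.s G.t) (pullback.snd w G.t)) :=
      (hP (fun _ : PUnit.{u + 1} => pullback w G.t) (fun _ => pullback.fst w G.t) hWsp
        (fun _ => hY₁) ⟨fun _ => (hPτ hWsp _).2 hπQ, hπsurj⟩ (pullback.snd G.s w) hX₀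
        (fun _ => pullback (pullback.snd G.s G.t) (pullback.snd w G.t))
        (fun _ => pullback.snd (pullback.snd G.s G.t) (pullback.snd w G.t)) (fun _ => q₀)
        (fun _ => hX₁) (fun _ => sq2)).1 hPf₀ PUnit.unit
    exact (hP (fun _ : PUnit.{u + 1} => pullback w G.t) (fun _ => g) hW''sp
        (fun _ => hY₁) ⟨fun _ => (hPτ hW''sp _).2 hgQ, hgsurj⟩
        (pullback.snd G.s (openSpι G.U A)) hX
        (fun _ => pullback (pullback.snd G.s G.t) (pullback.snd w G.t))
        (fun _ => pullback.snd (pullback.snd G.s G.t) (pullback.snd w G.t)) (fun _ => q)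
        (fun _ => hX₁) (fun _ => sq1)).2 (fun _ => hPp)
  obtain ⟨k, hk⟩ := (hmax _ (openSpι G.U A) hW''sp hw'').1 hPW''
  have himg : Set.range (Points.map w) =
      Points.map G.s '' (Points.map G.t ⁻¹' Set.range (Points.map w)) := by
    apply Set.Subset.antisymm
    · rintro _ ⟨y, rfl⟩
      refine ⟨Points.map G.e (Points.map w y), ?_, ?_⟩
      · show Points.map G.t (Points.map G.e (Points.map w y)) ∈ Set.range (Points.map w)
        rw [← Points.map_comp G.e G.t, G.e_t, Points.map_id]
        exact ⟨y, rfl⟩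
      · rw [← Points.map_comp G.e G.s, G.e_s, Points.map_id]
    · intro x hx
      have hx' : x ∈ Set.range (Points.map (openSpι G.U A)) := by rw [hr'']; exact hx
      obtain ⟨z, rfl⟩ := hx'
      rw [← hk, Points.map_comp]
      exact ⟨_, rfl⟩
  exact Gpd.isInvariant_of_range_eq G w w hw himg

end Groth.Agent.Lib.Helper98.AlgSpGpdLargest
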