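import Mathlib
import Groth.Agent.Lib.Helper98.AlgSpGpdLargest
import Groth.Agent.Lib.Helper51.AlgSpGpdSep

/-!
# Invariance of the largest open for an equivariant morphism; the stabilizer (helper98)
-/

set_option autoImplicit false
set_option linter.style.haveILetI false
universe u

namespace Groth.Agent.Lib.Helper98.AlgSpGpdStab

open CategoryTheory CategoryTheory.Limits AlgebraicGeometry AlgSp AlgSp.GroupoidSp
open Groth.Agent.Lib.Helper52 Groth.Agent.Lib.Helper51
open Groth.Agent.Lib.Helper78.AlgSpLocP Groth.Agent.Lib.Helper78.AlgSpMisc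
open Groth.Agent.Lib.Helper78.AlgSpFibre Groth.Agent.Lib.Helper98.AlgSpGpdLargest

variable {S : Scheme.{u}}

/-- the main lemma in equivariant form: `f : X ⟶ U` with `Z = X ×_{f,U,s} R = X ×_{f,U,t} R`
compatibly with the projection to `R`. -/
theorem isInvariant_of_largest_open_equivariant {B : Sp S} (G : GroupoidSp B)
    (hU : IsAlgSpace G.U) (hR : IsAlgSpace G.R)
    (Q : MorphismProperty Scheme.{u}) (hQ : EtLocalST Q) [Q.IsStableUnderBaseChange]
    [Q.IsStableUnderComposition]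
    (hQoi : (@IsOpenImmersion : MorphismProperty Scheme.{u}) ≤ Q)
    (hQfl : Q ≤ @Flat) (hQfp : Q ≤ @LocallyOfFinitePresentation)
    (Pτ : MorphismProperty (Sp S))
    (hPτ : ∀ {X Y : Sp S}, IsAlgSpace Y → ∀ f : X ⟶ Y, (Pτ f ↔ LocP Q f))
    (P : MorphismProperty (Sp S))
    (hP : IsLocalOnBase (fun _ _ Y g => IsCover Pτ Y g) P)
    (hs : IsCover Pτ (fun _ : PUnit.{u + 1} => G.R) (fun _ => G.s))
    (ht : IsCover Pτ (fun _ : PUnit.{u + 1} => G.R) (fun _ => G.t))
    {X Z : Sp S} (hXsp : IsAlgSpace X) (hZsp : IsAlgSpace Z) (f : X ⟶ G.U) (a a' : Z ⟶ X)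
    (p : Z ⟶ G.R) (sqS : IsPullback a p f G.s) (sqT : IsPullback a' p f G.t)
    {W : Sp S} (hWsp : IsAlgSpace W) (w : W ⟶ G.U) (hw : RepWith @IsOpenImmersion w)
    (hmax : ∀ (W' : Sp S) (w' : W' ⟶ G.U), IsAlgSpace W' → RepWith @IsOpenImmersion w' →
      (P (pullback.snd f w') ↔ ∃ k : W' ⟶ W, k ≫ w = w')) :
    G.IsInvariant w := by
  have hsQ : LocP Q G.s := (hPτ hU G.s).1 (hs.1 PUnit.unit)
  have htQ : LocP Q G.t := (hPτ hU G.t).1 (ht.1 PUnit.unit)
  have hsO : IsOpenMor G.s := by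
    have h1 := Groth.Agent.Lib.Helper30.isUnivOpenMor_of_locP_flat_lfp hR hU G.s
      (locP_mono hQfl hsQ) (locP_mono hQfp hsQ)
    exact h1 hU (𝟙 G.U) (𝟙 G.R) G.s IsPullback.of_id_fst
  set A : Set (Points G.U) :=
    Points.map G.s '' (Points.map G.t ⁻¹' Set.range (Points.map w)) with hA
  have hAo : IsOpen A :=
    hsO _ ((isOpen_range_map_of_isOpenImmersion w hw).preimage (Points.continuous_map G.t))
  have hw'' : RepWith @IsOpenImmersion (openSpι G.U A) := repWith_isOpenImmersion_openSpι A hAo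
  have hr'' : Set.range (Points.map (openSpι G.U A)) = A := range_map_openSpι A
  have hW''sp : IsAlgSpace (openSp G.U A) := isAlgSpace_openSp A hAo hU
  haveI hmono'' : Mono (openSpι G.U A) :=
    mono_of_repWith (fun g (_ : IsOpenImmersion g) => inferInstance) hw''
  -- the key claim
  have hPW'' : P (pullback.snd f (openSpι G.U A)) := by
    -- `Y₁ = t⁻¹(W)`
    have sqY : IsPullback (pullback.fst w G.t) (pullback.snd w G.t) w G.t :=
      IsPullback.of_hasPullback w G.t
    have hY₁ : IsAlgSpace (pullback w G.t) := isAlgSpace_of_isPullback sqY hU.diag hWsp hR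
    have hι : RepWith @IsOpenImmersion (pullback.snd w G.t) :=
      MorphismProperty.of_isPullback sqY hw
    have hπc : pullback.fst w G.t ≫ w = pullback.snd w G.t ≫ G.t := pullback.condition
    -- the map `g : Y₁ ⟶ W''`
    obtain ⟨g, hg⟩ : ∃ g : pullback w G.t ⟶ openSp G.U A,
        g ≫ openSpι G.U A = pullback.snd w G.t ≫ G.s := by
      refine exists_factor_of_range_subset _ hw'' (pullback.snd w G.t ≫ G.s) ?_
      rw [hr'']
      rintro _ ⟨z, rfl⟩
      rw [Points.map_comp]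
      refine ⟨Points.map (pullback.snd w G.t) z, ?_, rfl⟩
      show Points.map G.t (Points.map (pullback.snd w G.t) z) ∈ Set.range (Points.map w)
      rw [← Points.map_comp, ← hπc, Points.map_comp]
      exact ⟨_, rfl⟩
    have hgQ : LocP Q g := by
      have h1 : LocP Q (pullback.snd w G.t ≫ G.s) :=
        locP_comp hQ _ G.s hR.atlas
          (locP_of_repWith hQ _ hR.atlas
            (Groth.Agent.Lib.Helper78.AlgSpLargestOpen.repWith_mono' hQoi hι)) hsQ
      rw [← hg] at h1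
      exact locP_of_comp_openImm g _ hw'' h1
    have hgsurj : ∀ x : Points (openSp G.U A), ∃ i : PUnit.{u + 1},
        x ∈ Set.range (Points.map ((fun _ => g : ∀ _ : PUnit.{u + 1}, _ ⟶ _) i)) := by
      intro x
      refine ⟨PUnit.unit, ?_⟩
      have hx : Points.map (openSpι G.U A) x ∈ A := hr''.subset (Set.mem_range_self _)
      obtain ⟨ρ, hρ, hρs⟩ := hx
      obtain ⟨y, hy⟩ := hρ
      obtain ⟨z, hz1, hz2⟩ := exists_point_of_isPullback sqY y ρ hy
      refine ⟨z, ?_⟩
      apply injective_map_of_mono (openSpι G.U A)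
      rw [← Points.map_comp, hg, Points.map_comp, hz2, hρs]
    -- the cover `π : Y₁ ⟶ W`
    have hπQ : LocP Q (pullback.fst w G.t) :=
      locP_of_isPullback hQ sqY.flip (repAll_of_isAlgSpace hU) hR.atlas hU.atlas htQ
    have hπsurj : ∀ y : Points W, ∃ i : PUnit.{u + 1},
        y ∈ Set.range (Points.map
          ((fun _ => pullback.fst w G.t : ∀ _ : PUnit.{u + 1}, _ ⟶ _) i)) := by
      intro y
      refine ⟨PUnit.unit, ?_⟩
      have hy : Points.map w y = Points.map G.t (Points.map G.e (Points.map w y)) := by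
        rw [← Points.map_comp G.e G.t, G.e_t, Points.map_id]
      obtain ⟨z, hz1, -⟩ := exists_point_of_isPullback sqY y _ hy
      exact ⟨z, hz1⟩
    -- the squares
    have sqE : IsPullback a' p f G.t := sqT
    have sqA : IsPullback a p f G.s := sqS
    have sqC : IsPullback (pullback.fst p (pullback.snd w G.t))
        (pullback.snd p (pullback.snd w G.t)) p
        (pullback.snd w G.t) := IsPullback.of_hasPullback _ _
    have outer1 := sqC.paste_horiz sqA
    have outer2 := sqC.paste_horiz sqE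
    have sqB : IsPullback (pullback.fst f (openSpι G.U A)) (pullback.snd f (openSpι G.U A))
        f (openSpι G.U A) := IsPullback.of_hasPullback _ _
    have sqD : IsPullback (pullback.fst f w) (pullback.snd f w) f w :=
      IsPullback.of_hasPullback _ _
    have hR₂ : IsAlgSpace Z := hZsp
    have hX₁ : IsAlgSpace (pullback p (pullback.snd w G.t)) :=
      isAlgSpace_of_isPullback sqC hR.diag hR₂ hY₁
    have hX : IsAlgSpace (pullback f (openSpι G.U A)) :=
      isAlgSpace_of_isPullback sqB hU.diag hXsp hW''sp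
    have hX₀ : IsAlgSpace (pullback f w) := isAlgSpace_of_isPullback sqD hU.diag hXsp hWsp
    obtain ⟨q, hq1, hq2⟩ : ∃ q : pullback p (pullback.snd w G.t) ⟶
        pullback f (openSpι G.U A),
        q ≫ pullback.fst f (openSpι G.U A) =
          pullback.fst p (pullback.snd w G.t) ≫ a ∧
        q ≫ pullback.snd f (openSpι G.U A) =
          pullback.snd p (pullback.snd w G.t) ≫ g := by
      refine ⟨pullback.lift (pullback.fst p (pullback.snd w G.t) ≫ a)
        (pullback.snd p (pullback.snd w G.t) ≫ g) ?_,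
        pullback.lift_fst _ _ _, pullback.lift_snd _ _ _⟩
      rw [Category.assoc _ g, hg]
      exact outer1.w
    obtain ⟨q₀, hq01, hq02⟩ : ∃ q₀ : pullback p (pullback.snd w G.t) ⟶
        pullback f w,
        q₀ ≫ pullback.fst f w =
          pullback.fst p (pullback.snd w G.t) ≫ a' ∧
        q₀ ≫ pullback.snd f w =
          pullback.snd p (pullback.snd w G.t) ≫ pullback.fst w G.t := by
      refine ⟨pullback.lift
        (pullback.fst p (pullback.snd w G.t) ≫ a')
        (pullback.snd p (pullback.snd w G.t) ≫ pullback.fst w G.t) ?_,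
        pullback.lift_fst _ _ _, pullback.lift_snd _ _ _⟩
      rw [Category.assoc _ (pullback.fst w G.t), hπc]
      exact outer2.w
    have sq1 : IsPullback q (pullback.snd p (pullback.snd w G.t))
        (pullback.snd f (openSpι G.U A)) g := by
      refine IsPullback.of_right ?_ hq2 sqB
      rw [hq1, hg]
      exact outer1
    have sq2 : IsPullback q₀ (pullback.snd p (pullback.snd w G.t))
        (pullback.snd f w) (pullback.fst w G.t) := by
      refine IsPullback.of_right ?_ hq02 sqD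
      rw [hq01, hπc]
      exact outer2
    have hPf₀ : P (pullback.snd f w) := (hmax W w hWsp hw).2 ⟨𝟙 W, Category.id_comp w⟩
    have hPp : P (pullback.snd p (pullback.snd w G.t)) :=
      (hP (fun _ : PUnit.{u + 1} => pullback w G.t) (fun _ => pullback.fst w G.t) hWsp
        (fun _ => hY₁) ⟨fun _ => (hPτ hWsp _).2 hπQ, hπsurj⟩ (pullback.snd f w) hX₀
        (fun _ => pullback p (pullback.snd w G.t))
        (fun _ => pullback.snd p (pullback.snd w G.t)) (fun _ => q₀)
        (fun _ => hX₁) (fun _ => sq2)).1 hPf₀ PUnit.unit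
    exact (hP (fun _ : PUnit.{u + 1} => pullback w G.t) (fun _ => g) hW''sp
        (fun _ => hY₁) ⟨fun _ => (hPτ hW''sp _).2 hgQ, hgsurj⟩
        (pullback.snd f (openSpι G.U A)) hX
        (fun _ => pullback p (pullback.snd w G.t))
        (fun _ => pullback.snd p (pullback.snd w G.t)) (fun _ => q)
        (fun _ => hX₁) (fun _ => sq1)).2 (fun _ => hPp)
  obtain ⟨k, hk⟩ := (hmax _ (openSpι G.U A) hW''sp hw'').1 hPW''
  have himg : Set.range (Points.map w) =
      Points.map G.s '' (Points.map G.t ⁻¹' Set.range (Points.map w)) := by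
    apply Set.Subset.antisymm
    · rintro _ ⟨y, rfl⟩
      refine ⟨Points.map G.e (Points.map w y), ?_, ?_⟩
      · show Points.map G.t (Points.map G.e (Points.map w y)) ∈ Set.range (Points.map w)
        rw [← Points.map_comp G.e G.t, G.e_t, Points.map_id]
        exact ⟨y, rfl⟩
      · rw [← Points.map_comp G.e G.s, G.e_s, Points.map_id]
    · intro x hx
      have hx' : x ∈ Set.range (Points.map (openSpι G.U A)) := by rw [hr'']; exact hx
      obtain ⟨z, rfl⟩ := hx'
      rw [← hk, Points.map_comp]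
      exact ⟨_, rfl⟩
  exact Gpd.isInvariant_of_range_eq G w w hw himg


section Conj

open Groth.Agent.Lib.Helper51.Gpd

variable {B : Sp S} (G : GroupoidSp B)

/-- a `T`-valued arrow with equal source and target is a `T`-valued point of the stabilizer. -/
noncomputable def stabLift {T : Sp S} (ρ : T ⟶ G.R) (h : ρ ≫ G.s = ρ ≫ G.t) : T ⟶ G.stabilizer :=
  pullback.lift ρ (ρ ≫ G.s) (by
    apply pullback.hom_ext
    · rw [Category.assoc, GroupoidSp.j_fst, Category.assoc, diag_fst, Category.comp_id, h]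
    · rw [Category.assoc, GroupoidSp.j_snd, Category.assoc, diag_snd, Category.comp_id])

theorem stabLift_ι {T : Sp S} (ρ : T ⟶ G.R) (h : ρ ≫ G.s = ρ ≫ G.t) :
    stabLift G ρ h ≫ G.stabilizerι = ρ := pullback.lift_fst _ _ _

theorem stabLift_toU {T : Sp S} (ρ : T ⟶ G.R) (h : ρ ≫ G.s = ρ ≫ G.t) :
    stabLift G ρ h ≫ G.stabilizerToU = ρ ≫ G.s := pullback.lift_snd _ _ _

/-- `β⁻¹ ∘ (α ∘ β)`. -/
noncomputable def conjR {T : Sp S} (α β : T ⟶ G.R) (hs : α ≫ G.s = β ≫ G.t)
    (ht : α ≫ G.t = β ≫ G.t) : T ⟶ G.R :=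
  comp G (β ≫ G.i) (comp G α β hs) (by rw [Gpd.comp_t, Category.assoc, G.i_s, ht])

theorem conjR_s {T : Sp S} (α β : T ⟶ G.R) (hs : α ≫ G.s = β ≫ G.t)
    (ht : α ≫ G.t = β ≫ G.t) : conjR G α β hs ht ≫ G.s = β ≫ G.s := by
  unfold conjR; rw [Gpd.comp_s, Gpd.comp_s]

theorem conjR_t {T : Sp S} (α β : T ⟶ G.R) (hs : α ≫ G.s = β ≫ G.t)
    (ht : α ≫ G.t = β ≫ G.t) : conjR G α β hs ht ≫ G.t = β ≫ G.s := by
  unfold conjR; rw [Gpd.comp_t, Category.assoc, G.i_t]

theorem conjR_congr {T : Sp S} {α α' β β' : T ⟶ G.R} (hs : α ≫ G.s = β ≫ G.t)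
    (ht : α ≫ G.t = β ≫ G.t) (hs' : α' ≫ G.s = β' ≫ G.t) (ht' : α' ≫ G.t = β' ≫ G.t)
    (hα : α = α') (hβ : β = β') : conjR G α β hs ht = conjR G α' β' hs' ht' := by
  subst hα; subst hβ; rfl

theorem precomp_conjR {T T' : Sp S} (m : T' ⟶ T) (α β : T ⟶ G.R) (hs : α ≫ G.s = β ≫ G.t)
    (ht : α ≫ G.t = β ≫ G.t) :
    m ≫ conjR G α β hs ht = conjR G (m ≫ α) (m ≫ β)
      (by rw [Category.assoc, Category.assoc, hs]) (by rw [Category.assoc, Category.assoc, ht]) := by
  unfold conjR
  rw [precomp]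
  exact comp_congr₂ G _ _ (Category.assoc _ _ _).symm (precomp G m α β hs)

/-- `(r ∘ ξ) ∘ r⁻¹`. -/
noncomputable def conjL {T : Sp S} (ξ r : T ⟶ G.R) (hs : ξ ≫ G.s = r ≫ G.s)
    (ht : ξ ≫ G.t = r ≫ G.s) : T ⟶ G.R :=
  comp G (comp G r ξ ht.symm) (r ≫ G.i) (by rw [Gpd.comp_s, Category.assoc, G.i_t, hs])

theorem conjL_s {T : Sp S} (ξ r : T ⟶ G.R) (hs : ξ ≫ G.s = r ≫ G.s)
    (ht : ξ ≫ G.t = r ≫ G.s) : conjL G ξ r hs ht ≫ G.s = r ≫ G.t := by
  unfold conjL; rw [Gpd.comp_s, Category.assoc, G.i_s]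

theorem conjL_t {T : Sp S} (ξ r : T ⟶ G.R) (hs : ξ ≫ G.s = r ≫ G.s)
    (ht : ξ ≫ G.t = r ≫ G.s) : conjL G ξ r hs ht ≫ G.t = r ≫ G.t := by
  unfold conjL; rw [Gpd.comp_t, Gpd.comp_t]

theorem conjL_congr {T : Sp S} {ξ ξ' r r' : T ⟶ G.R} (hs : ξ ≫ G.s = r ≫ G.s)
    (ht : ξ ≫ G.t = r ≫ G.s) (hs' : ξ' ≫ G.s = r' ≫ G.s) (ht' : ξ' ≫ G.t = r' ≫ G.s)
    (hξ : ξ = ξ') (hr : r = r') : conjL G ξ r hs ht = conjL G ξ' r' hs' ht' := by
  subst hξ; subst hr; rfl

/-- `r⁻¹ ∘ (((r ∘ ξ) ∘ r⁻¹) ∘ r) = ξ`. -/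
theorem conjR_conjL {T : Sp S} (ξ r : T ⟶ G.R) (hs : ξ ≫ G.s = r ≫ G.s)
    (ht : ξ ≫ G.t = r ≫ G.s) :
    conjR G (conjL G ξ r hs ht) r (conjL_s G ξ r hs ht) (conjL_t G ξ r hs ht) = ξ := by
  unfold conjR
  have h1 : comp G (conjL G ξ r hs ht) r (conjL_s G ξ r hs ht) = comp G r ξ ht.symm := by
    unfold conjL
    exact comp_inv_comp G (comp G r ξ ht.symm) r (by rw [Gpd.comp_s, hs])
  rw [comp_congr G _ rfl h1]
  exact inv_comp_comp G r ξ ht.symm

/-- `(β ∘ (β⁻¹ ∘ (α ∘ β))) ∘ β⁻¹ = α`. -/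
theorem conjL_conjR {T : Sp S} (α β : T ⟶ G.R) (hs : α ≫ G.s = β ≫ G.t)
    (ht : α ≫ G.t = β ≫ G.t) :
    conjL G (conjR G α β hs ht) β (conjR_s G α β hs ht) (conjR_t G α β hs ht) = α := by
  unfold conjL
  have h1 : comp G β (conjR G α β hs ht) (conjR_t G α β hs ht).symm = comp G α β hs := by
    unfold conjR
    exact comp_inv_comp' G β (comp G α β hs) (by rw [Gpd.comp_t, ht])
  rw [comp_congr G _ h1 rfl]
  exact comp_comp_inv G α β hs

/-- **the conjugation square**: `G ×_{U,t} R` is also `G ×_{U,s} R` via `(α, β) ↦ (β⁻¹αβ, β)`. -/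
theorem exists_conj_isPullback :
    ∃ a : pullback G.stabilizerToU G.t ⟶ G.stabilizer,
      IsPullback a (pullback.snd G.stabilizerToU G.t) G.stabilizerToU G.s := by
  have hαs : (pullback.fst G.stabilizerToU G.t ≫ G.stabilizerι) ≫ G.s =
      pullback.snd G.stabilizerToU G.t ≫ G.t := by
    rw [Category.assoc, stabilizerι_s, pullback.condition]
  have hαt : (pullback.fst G.stabilizerToU G.t ≫ G.stabilizerι) ≫ G.t =
      pullback.snd G.stabilizerToU G.t ≫ G.t := by
    rw [Category.assoc, stabilizerι_t, pullback.condition]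
  have hst : conjR G _ _ hαs hαt ≫ G.s = conjR G _ _ hαs hαt ≫ G.t := by
    rw [conjR_s, conjR_t]
  refine ⟨stabLift G (conjR G _ _ hαs hαt) hst, ⟨?_⟩, ⟨PullbackCone.IsLimit.mk _ (fun sc => ?_) ?_ ?_ ?_⟩⟩
  · rw [stabLift_toU, conjR_s]
  · -- the lift
    have hξs : (sc.fst ≫ G.stabilizerι) ≫ G.s = sc.snd ≫ G.s := by
      rw [Category.assoc, stabilizerι_s]; exact sc.condition
    have hξt : (sc.fst ≫ G.stabilizerι) ≫ G.t = sc.snd ≫ G.s := by
      rw [Category.assoc, stabilizerι_t]; exact sc.condition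
    exact pullback.lift
      (stabLift G (conjL G _ _ hξs hξt) (by rw [conjL_s, conjL_t])) sc.snd
      (by rw [stabLift_toU, conjL_s])
  · intro sc
    apply stab_hom_ext
    rw [Category.assoc, stabLift_ι, precomp_conjR]
    have hξs : (sc.fst ≫ G.stabilizerι) ≫ G.s = sc.snd ≫ G.s := by
      rw [Category.assoc, stabilizerι_s]; exact sc.condition
    have hξt : (sc.fst ≫ G.stabilizerι) ≫ G.t = sc.snd ≫ G.s := by
      rw [Category.assoc, stabilizerι_t]; exact sc.condition
    rw [conjR_congr G _ _ (conjL_s G _ _ hξs hξt) (conjL_t G _ _ hξs hξt)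
      (by rw [← Category.assoc, pullback.lift_fst, stabLift_ι]) (pullback.lift_snd _ _ _)]
    exact conjR_conjL G _ _ hξs hξt
  · intro sc
    exact pullback.lift_snd _ _ _
  · intro sc m h1 h2
    apply pullback.hom_ext
    · rw [pullback.lift_fst]
      apply stab_hom_ext
      rw [stabLift_ι]
      have e1 : sc.fst ≫ G.stabilizerι =
          conjR G ((m ≫ pullback.fst G.stabilizerToU G.t) ≫ G.stabilizerι) sc.snd
            (by rw [Category.assoc, Category.assoc, stabilizerι_s, pullback.condition, ← h2,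
              Category.assoc])
            (by rw [Category.assoc, Category.assoc, stabilizerι_t, pullback.condition, ← h2,
              Category.assoc]) := by
        rw [← h1, Category.assoc, stabLift_ι, precomp_conjR]
        exact conjR_congr G _ _ _ _ (Category.assoc _ _ _).symm h2
      rw [conjL_congr G _ _ (conjR_s G _ _ _ _) (conjR_t G _ _ _ _) e1 rfl]
      rw [conjL_conjR]
    · rw [pullback.lift_snd]
      exact h2

end Conj

section Main

open Groth.Agent.Lib.Helper51.Gpd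

/-- the stabilizer version. -/
theorem isInvariant_of_largest_open_stabilizer {B : Sp S} (G : GroupoidSp B)
    (hB : IsAlgSpace B) (hU : IsAlgSpace G.U) (hR : IsAlgSpace G.R)
    (Q : MorphismProperty Scheme.{u}) (hQ : EtLocalST Q) [Q.IsStableUnderBaseChange]
    [Q.IsStableUnderComposition]
    (hQoi : (@IsOpenImmersion : MorphismProperty Scheme.{u}) ≤ Q)
    (hQfl : Q ≤ @Flat) (hQfp : Q ≤ @LocallyOfFinitePresentation)
    (Pτ : MorphismProperty (Sp S))
    (hPτ : ∀ {X Y : Sp S}, IsAlgSpace Y → ∀ f : X ⟶ Y, (Pτ f ↔ LocP Q f))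
    (P : MorphismProperty (Sp S))
    (hP : IsLocalOnBase (fun _ _ Y g => IsCover Pτ Y g) P)
    (hs : IsCover Pτ (fun _ : PUnit.{u + 1} => G.R) (fun _ => G.s))
    (ht : IsCover Pτ (fun _ : PUnit.{u + 1} => G.R) (fun _ => G.t))
    {W : Sp S} (hWsp : IsAlgSpace W) (w : W ⟶ G.U) (hw : RepWith @IsOpenImmersion w)
    (hmax : ∀ (W' : Sp S) (w' : W' ⟶ G.U), IsAlgSpace W' → RepWith @IsOpenImmersion w' →
      (P (pullback.snd G.stabilizerToU w') ↔ ∃ k : W' ⟶ W, k ≫ w = w')) :
    G.IsInvariant w := by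
  have hUU : IsAlgSpace (pullback G.pU G.pU) :=
    isAlgSpace_of_isPullback (IsPullback.of_hasPullback G.pU G.pU) hB.diag hU hU
  have hst : IsAlgSpace G.stabilizer :=
    isAlgSpace_of_isPullback (IsPullback.of_hasPullback G.j G.diag) hUU.diag hR hU
  have sqT : IsPullback (pullback.fst G.stabilizerToU G.t) (pullback.snd G.stabilizerToU G.t)
      G.stabilizerToU G.t := IsPullback.of_hasPullback _ _
  have hZ : IsAlgSpace (pullback G.stabilizerToU G.t) :=
    isAlgSpace_of_isPullback sqT hU.diag hst hR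
  obtain ⟨a, sqS⟩ := exists_conj_isPullback G
  exact isInvariant_of_largest_open_equivariant G hU hR Q hQ hQoi hQfl hQfp Pτ hPτ P hP hs ht
    hst hZ G.stabilizerToU a _ _ sqS sqT hWsp w hw hmax

end Main

end Groth.Agent.Lib.Helper98.AlgSpGpdStab
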