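import Mathlib
import Groth.Agent.Lib.Helper98.LciLocal
import Groth.Agent.S9729
import Groth.Agent.Lib.Helper51.AlgSpPoints

/-!
# Local complete intersection morphisms of algebraic spaces: cancelling a smooth morphism (helper98)
-/

set_option autoImplicit false
set_option linter.style.haveILetI false
universe u

namespace Groth.Agent.Lib.Helper98.AlgSpLci

open CategoryTheory CategoryTheory.Limits AlgebraicGeometry AlgSp

variable {S : Scheme.{u}}

/-- Let `h : W ⟶ V` be a morphism of schemes over `S`, `b : h_V ⟶ G` representable etale and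
`q' : G ⟶ Z'` smooth with `Z'` having an etale atlas.  If every "chart" `k : W' ⟶ T` of the
composite `W ⟶ V ⟶ G ⟶ Z'` (with `W' ⟶ W` etale and `T ⟶ Z'` etale) is Koszul at every point,
then so is `h`. -/
theorem lci_of_smooth_chart {G Z' : AlgSp.Sp S}
    (hZ : ∃ (T : Over S) (c : (yon S).obj T ⟶ Z'), RepWith @Etale c ∧ RepWith @Surjective c)
    (q' : G ⟶ Z') (hq : LocP @Smooth q') {W V : Over S} (h : W ⟶ V) (b : (yon S).obj V ⟶ G)
    (hb : RepWith @Etale b)
    (H : ∀ (T : Over S) (c : (yon S).obj T ⟶ Z') (W' : Over S) (pr₁ : W' ⟶ W) (k : W' ⟶ T),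
      RepWith @Etale c → Etale pr₁.left →
      (yon S).map (pr₁ ≫ h) ≫ b ≫ q' = (yon S).map k ≫ c → ∀ z, Synt.IsKoszulAt k.left z) :
    ∀ z, Synt.IsKoszulAt h.left z := by
  obtain ⟨T, c, hc1, hc2⟩ := hZ
  obtain ⟨V', φ, ψ, sq⟩ :=
    Groth.Agent.Lib.Helper51.exists_isPullback_of_representable hc1.1 (b ≫ q')
  haveI : Etale ψ.left := hc1.2 (b ≫ q') _ ψ sq
  haveI : Surjective ψ.left := hc2.2 (b ≫ q') _ ψ sq
  have hψb : RepWith @Etale ((yon S).map ψ ≫ b) :=
    (AlgSp.RepWith (S := S) @Etale).comp_mem _ _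
      ((repWith_yon_map_iff _ _).2 (inferInstance : Etale ψ.left)) hb
  haveI : Smooth φ.left :=
    hq ((yon S).map ψ ≫ b) c φ hψb hc1 (by rw [Category.assoc]; exact sq.w.symm)
  let W' : Over S := Over.mk (pullback.fst h.left ψ.left ≫ W.hom)
  let pr₁ : W' ⟶ W := Over.homMk (pullback.fst h.left ψ.left) rfl
  let pr₂ : W' ⟶ V' := Over.homMk (pullback.snd h.left ψ.left) (by
    show pullback.snd h.left ψ.left ≫ V'.hom = pullback.fst h.left ψ.left ≫ W.hom
    rw [← Over.w ψ, ← Over.w h, ← Category.assoc, ← Category.assoc, pullback.condition])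
  have hpr : pr₁ ≫ h = pr₂ ≫ ψ := by
    apply Over.OverMorphism.ext
    exact pullback.condition
  haveI : Etale pr₁.left := inferInstanceAs (Etale (pullback.fst h.left ψ.left))
  have hcomm : (yon S).map (pr₁ ≫ h) ≫ b ≫ q' = (yon S).map (pr₂ ≫ φ) ≫ c := by
    calc (yon S).map (pr₁ ≫ h) ≫ b ≫ q'
        = (yon S).map pr₂ ≫ ((yon S).map ψ ≫ b ≫ q') := by
          rw [hpr, Functor.map_comp, Category.assoc]
      _ = (yon S).map pr₂ ≫ ((yon S).map φ ≫ c) := by rw [← sq.w]
      _ = (yon S).map (pr₂ ≫ φ) ≫ c := by rw [Functor.map_comp, Category.assoc]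
  have hl : ∀ z, Synt.IsKoszulAt (pullback.snd h.left ψ.left ≫ φ.left) z :=
    H T c W' pr₁ (pr₂ ≫ φ) hc1 inferInstance hcomm
  have h1 : ∀ z, Synt.IsKoszulAt (pullback.snd h.left ψ.left) z :=
    fun z => Groth.Agent.S9729.result _ φ.left hl z
  exact Groth.Agent.Lib.Helper98.LciLocal.lci_of_flat_openMap_surjective h.left ψ.left
    ψ.left.isOpenMap ψ.left.surjective h1

end Groth.Agent.Lib.Helper98.AlgSpLci
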