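import Mathlib
import Groth.Agent.Lib.Helper98.AlgSpFibreDimLocal
import Groth.Agent.S9359
import Groth.Agent.S2768
import Groth.Agent.Lib.Helper51.AlgSpDimCharts
import Groth.Agent.Lib.Helper51.SchemeLocalDim
import Groth.Agent.Lib.Helper31.AlgSpFibFlat4

/-!
# Dimension at a point along flat morphisms of constant relative dimension (helper98)

* `hasRelDim_of_forall_fibreDimAt_eq`: constant local fibre dimension `d` implies that all
  irreducible components of all fibres have dimension `d` (converse of helper73's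
  `fibreDimAt_eq_of_hasRelDim`).
* `localDim_eq_add_of_flat_fibreDimAt`: helper73's `S9359` with the pointwise hypothesis.
-/

set_option autoImplicit false
set_option linter.style.haveILetI false
universe u

namespace Groth.Agent.Lib.Helper98.AlgSpLocalDim

open CategoryTheory CategoryTheory.Limits AlgebraicGeometry
open Groth.Agent.Lib.Helper73.RelHt Groth.Agent.Lib.Helper73.DimFormula
  Groth.Agent.Lib.Helper73.SchemeDim Groth.Agent.Lib.Helper73.LocalHomDim
  Groth.Agent.Lib.Helper73.FlatRelDim

theorem hasRelDim_of_forall_fibreDimAt_eq {X Y : Scheme.{u}} [IsLocallyNoetherian Y] (f : X ⟶ Y)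
    [LocallyOfFiniteType f] (d : ℕ) (hd : ∀ x : X, FlatMor.fibreDimAt f x = d) :
    Cyc.HasRelDim f d := by
  intro y T hT
  have hTirr : IsIrreducible T := hT.1
  have hTcl : IsClosed T := isClosed_of_mem_irreducibleComponents T hT
  obtain ⟨η, hη⟩ := QuasiSober.sober hTirr hTcl
  have hfx : f.base ((f.fiberι y).base η) = y := base_fiberι' f y η
  obtain ⟨ζ, m, hζx, hζf, hζmax, hm, hF⟩ :=
    exists_maximal_in_fibre_trdeg_eq_fibreDimAt f ((f.fiberι y).base η)
  have hζy : f.base ζ = y := hζf.trans hfx
  have hζr : ζ ∈ Set.range (f.fiberι y).base := by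
    rw [Scheme.Hom.range_fiberι]; exact hζy
  obtain ⟨ζ', hζ'⟩ := hζr
  have hsp : ζ' ⤳ η := by
    rw [← (f.fiberι y).isEmbedding.isInducing.specializes_iff, hζ']
    exact hζx
  have hζη : ζ' = η := by
    have h1 : T ⊆ closure {ζ'} := by
      rw [← hη.def]
      exact closure_minimal (Set.singleton_subset_iff.2 hsp.mem_closure) isClosed_closure
    have h2 : closure ({ζ'} : Set _) ⊆ T := hT.2 isIrreducible_singleton.closure h1
    have h3 : η ⤳ ζ' := by
      rw [specializes_iff_mem_closure, hη.def]; exact h2 (subset_closure rfl)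
    exact (hsp.antisymm h3).eq
  have hζx' : ζ = (f.fiberι y).base η := by rw [← hζ', hζη]
  have hdm : (d : WithBot ℕ∞) = m := by rw [← hd ((f.fiberι y).base η), hF]
  have hdim := topologicalKrullDim_closure_singleton_fiber f y η m
    (by rw [← trdeg_residueFieldMap_congr_pt f hζx']; exact hm)
  rw [hη.def] at hdim
  rw [hdim]
  exact_mod_cast hdm.symm

/-- helper73's `S9359` with the pointwise hypothesis on the local fibre dimension. -/
theorem localDim_eq_add_of_flat_fibreDimAt {X Y : Scheme.{u}} [IsLocallyNoetherian X]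
    [IsLocallyNoetherian Y] (f : X ⟶ Y) [Flat f] [LocallyOfFiniteType f] (d : ℕ)
    (hd : ∀ x : X, FlatMor.fibreDimAt f x = d) (x : X) :
    FlatMor.localDim ↑X x = FlatMor.localDim ↑Y (f.base x) + (d : WithBot ℕ∞) :=
  Groth.Agent.S9359.result f d (hasRelDim_of_forall_fibreDimAt_eq f d hd) x

end Groth.Agent.Lib.Helper98.AlgSpLocalDim
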