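import Mathlib
import Groth.Agent.Lib.Helper98.AlgSpLocalDim
import Groth.Agent.Lib.Helper73.SmoothFibreDim

/-!
# Dimension at a point along smooth morphisms (helper98)

`localDim_eq_add_of_smooth`: for a smooth morphism of locally Noetherian schemes,
`dim_x X = dim_{f x} Y + dim_x (X_{f x})`.  `fibreDimAt_eq_of_appLE_std` is the local form of
helper73's `fibreDimAt_eq_of_smoothOfRelativeDimension` (same proof).
-/

set_option autoImplicit false
set_option linter.style.haveILetI false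
universe u

namespace Groth.Agent.Lib.Helper98.AlgSpLocalDimSmooth

open CategoryTheory CategoryTheory.Limits AlgebraicGeometry
open Groth.Agent.Lib.Helper73.SchemeDim Groth.Agent.Lib.Helper73.FibreDimRing
  Groth.Agent.Lib.Helper73.FibreDimRetro Groth.Agent.Lib.Helper73.SmoothFibreDim
open Groth.Agent.Lib.Helper98.AlgSpLocalDim Groth.Agent.Lib.Helper98.AlgSpFibreDimLocal

theorem fibreDimAt_eq_of_appLE_std {X Y : Scheme.{u}} (f : X ⟶ Y) [LocallyOfFiniteType f]
    {U : Y.Opens} (hU : IsAffineOpen U) {V : X.Opens} (hV : IsAffineOpen V) (e : V ≤ f ⁻¹ᵁ U)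
    (n : ℕ) (hstd : RingHom.IsStandardSmoothOfRelativeDimension n (f.appLE U V e).hom) (x : X)
    (hxV : x ∈ V) : FlatMor.fibreDimAt f x = (n : WithBot ℕ∞) := by
  obtain ⟨q, rfl⟩ : x ∈ Set.range hV.fromSpec.base := by rw [hV.range_fromSpec]; exact hxV
  rw [← fibreDimAt_SpecMap_appLE f hU hV e q]
  letI : Algebra Γ(Y, U) Γ(X, V) := (f.appLE U V e).hom.toAlgebra
  haveI : Algebra.IsStandardSmoothOfRelativeDimension n Γ(Y, U) Γ(X, V) := hstd
  have h1 : Spec.map (f.appLE U V e) =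
      Spec.map (CommRingCat.ofHom (algebraMap Γ(Y, U) Γ(X, V))) := rfl
  rw [h1]
  refine (fibreDimAt_Spec_eq Γ(Y, U) Γ(X, V) q).trans ?_
  exact localDim_of_isStandardSmoothOfRelativeDimension
    ((PrimeSpectrum.asIdeal (show PrimeSpectrum Γ(X, V) from q)).under Γ(Y, U)).ResidueField _ n _

theorem exists_relDim_of_isStandardSmooth {R S : Type u} [CommRing R] [CommRing S] (φ : R →+* S)
    (h : φ.IsStandardSmooth) : ∃ n : ℕ, φ.IsStandardSmoothOfRelativeDimension n := by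
  letI := φ.toAlgebra
  have h' : Algebra.IsStandardSmooth R S := h
  obtain ⟨ι, σ, hσ, hι, ⟨P⟩⟩ := h'.out
  exact ⟨P.dimension, ⟨⟨ι, σ, hσ, hι, P, rfl⟩⟩⟩

/-- **Smooth morphisms**: `dim_x X = dim_{f x} Y + dim_x (X_{f x})`. -/
theorem localDim_eq_add_of_smooth {X Y : Scheme.{u}} [IsLocallyNoetherian X]
    [IsLocallyNoetherian Y] (f : X ⟶ Y) [Smooth f] (x : X) :
    FlatMor.localDim ↑X x = FlatMor.localDim ↑Y (f.base x) + FlatMor.fibreDimAt f x := by
  obtain ⟨U, hU, V, hV, hxV, e, hstd⟩ := Smooth.exists_isStandardSmooth f x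
  obtain ⟨n, hn⟩ := exists_relDim_of_isStandardSmooth _ hstd
  have hconst : ∀ x' ∈ V, FlatMor.fibreDimAt f x' = (n : WithBot ℕ∞) := fun x' hx' =>
    fibreDimAt_eq_of_appLE_std f hU hV e n hn x' hx'
  have hV' : ∀ v : V, FlatMor.fibreDimAt (V.ι ≫ f) v = (n : WithBot ℕ∞) := fun v => by
    rw [← fibreDimAt_precomp V.ι f v]; exact hconst _ v.2
  haveI : IsLocallyNoetherian (V : Scheme.{u}) := isLocallyNoetherian_of_isOpenImmersion V.ι
  have key := localDim_eq_add_of_flat_fibreDimAt (V.ι ≫ f) n hV' ⟨x, hxV⟩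
  rw [Groth.Agent.Lib.Helper51.Coheight.localDim_eq_of_etale V.ι ⟨x, hxV⟩] at key
  rw [hconst x hxV]
  exact key

end Groth.Agent.Lib.Helper98.AlgSpLocalDimSmooth
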