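import Mathlib
import Groth.Agent.Lib.Helper98.AlgSpLqf
import Groth.Agent.Lib.Helper78.AlgSpFibre

/-!
# Finiteness of the set of quasi-finite points in a fibre (helper98)

* `finite_setOf_isOpen_singleton`: a Noetherian space has finitely many open points.
* `finite_quasiFiniteAt_fibre`: for `k` of finite type, the points of the fibre over `v` at which `k`
  is quasi-finite form a finite set.
* `finite_lqfNear_fibre`: the `AlgSp` version (`S9995`).
-/

set_option autoImplicit false
set_option linter.style.haveILetI false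
universe u

namespace Groth.Agent.Lib.Helper98.AlgSpLqf

open CategoryTheory CategoryTheory.Limits AlgebraicGeometry AlgSp
open Groth.Agent.Lib.Helper52 Groth.Agent.Lib.Helper51
open Groth.Agent.Lib.Helper31.AlgSpFlatAt Groth.Agent.Lib.Helper98.AlgSpPtLocal

theorem finite_setOf_isOpen_singleton (Z : Type*) [TopologicalSpace Z]
    [TopologicalSpace.NoetherianSpace Z] : {z : Z | IsOpen ({z} : Set Z)}.Finite := by
  have hc : IsCompact {z : Z | IsOpen ({z} : Set Z)} := TopologicalSpace.NoetherianSpace.isCompact _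
  haveI : DiscreteTopology {z : Z | IsOpen ({z} : Set Z)} := by
    rw [discreteTopology_iff_isOpen_singleton]
    rintro ⟨z, hz⟩
    have : ({⟨z, hz⟩} : Set {z : Z | IsOpen ({z} : Set Z)}) = Subtype.val ⁻¹' {z} := by
      ext ⟨w, hw⟩
      simp [Subtype.ext_iff]
    rw [this]
    exact hz.preimage continuous_subtype_val
  exact hc.finite ⟨this⟩

theorem finite_quasiFiniteAt_fibre {U V : Scheme.{u}} (k : U ⟶ V) [LocallyOfFiniteType k]
    [QuasiCompact k] (v : V) : {u : U | k u = v ∧ k.QuasiFiniteAt u}.Finite := by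
  haveI : LocallyOfFiniteType (k.fiberToSpecResidueField v) := inferInstance
  haveI : IsLocallyNoetherian (k.fiber v) :=
    LocallyOfFiniteType.isLocallyNoetherian (k.fiberToSpecResidueField v)
  haveI : CompactSpace (k.fiber v) := inferInstance
  haveI : IsNoetherian (k.fiber v) := {}
  haveI : TopologicalSpace.NoetherianSpace (k.fiber v) := inferInstance
  have hI : {z : k.fiber v | IsOpen ({z} : Set (k.fiber v))}.Finite :=
    finite_setOf_isOpen_singleton _
  refine (hI.image (k.fiberι v)).subset ?_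
  rintro u ⟨rfl, hq⟩
  exact ⟨k.asFiber u, Scheme.Hom.quasiFiniteAt_iff_isOpen_singleton_asFiber.mp hq,
    Scheme.Hom.fiberι_asFiber k u⟩

variable {S : Scheme.{u}}

/-- For a morphism of finite type of algebraic spaces, the points of the fibre over `y` at which
the morphism is quasi-finite form a finite set. -/
theorem finite_lqfNear_fibre {X Y : AlgSp.Space S} (f : X ⟶ Y) (hf : AlgSp.IsFiniteTypeMor f.hom)
    (y : AlgSp.Points Y.obj) :
    {x : AlgSp.Points X.obj | AlgSp.Points.map f.hom x = y ∧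
      AlgSp.HasAtMor LqfNear f.hom x}.Finite := by
  obtain ⟨V₀, b₀, hb₀, hb₀s⟩ := Y.property.atlas
  obtain ⟨v₀, hv₀⟩ := surjective_ofPt_of_repWith_surjective b₀ hb₀s y
  obtain ⟨_, ⟨V', hV, rfl⟩, hv₀V, -⟩ :=
    V₀.left.isBasis_affineOpens.exists_subset_of_mem_open (Set.mem_univ v₀) isOpen_univ
  obtain ⟨V, rfl⟩ : ∃ V : V₀.left.Opens, V = V' := ⟨V', rfl⟩
  let Vo : Over S := Over.mk (V.ι ≫ V₀.hom)
  let ι' : Vo ⟶ V₀ := Over.homMk V.ι rfl
  haveI : IsOpenImmersion ι'.left := inferInstanceAs (IsOpenImmersion V.ι)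
  haveI : IsAffine Vo.left := hV
  have hι' : RepWith @Etale ((yon S).map ι') :=
    (repWith_yon_map_iff _ _).2 (inferInstance : Etale ι'.left)
  obtain ⟨b, hbdef⟩ : ∃ b : (yon S).obj Vo ⟶ Y.obj, b = (yon S).map ι' ≫ b₀ := ⟨_, rfl⟩
  have hb : RepWith @Etale b := by
    rw [hbdef]; exact (AlgSp.RepWith (S := S) @Etale).comp_mem _ _ hι' hb₀
  let v : Vo.left := ⟨v₀, hv₀V⟩
  have hbv : Points.ofPt b v = y := by
    rw [hbdef, ofPt_yon_map_comp]; exact hv₀
  have hqcV : IsQuasiCompactSp ((yon S).obj Vo) :=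
    ⟨Vo, 𝟙 _, by rw [← (yon S).map_id]; exact (repWith_yon_map_iff _ _).2 (by dsimp; infer_instance),
      by rw [← (yon S).map_id]; exact (repWith_yon_map_iff _ _).2 (by dsimp; infer_instance),
      inferInstance⟩
  have sq := IsPullback.of_hasPullback f.hom b
  obtain ⟨U, p, hp, hps, hUc⟩ := hf.2 (IsAlgSpace.yon_obj Vo) hqcV b _ _ sq
  haveI : CompactSpace U.left := hUc
  have hfst : RepWith @Etale (pullback.fst f.hom b) := MorphismProperty.of_isPullback sq.flip hb
  obtain ⟨a, hadef⟩ : ∃ a : (yon S).obj U ⟶ X.obj, a = p ≫ pullback.fst f.hom b := ⟨_, rfl⟩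
  have ha : RepWith @Etale a := by
    rw [hadef]; exact (AlgSp.RepWith (S := S) @Etale).comp_mem _ _ hp hfst
  let k : U ⟶ Vo := (yon S).preimage (p ≫ pullback.snd f.hom b)
  have hk : (yon S).map k = p ≫ pullback.snd f.hom b := (yon S).map_preimage _
  have comm : a ≫ f.hom = (yon S).map k ≫ b := by
    rw [hadef, Category.assoc, pullback.condition, ← Category.assoc, hk]
  haveI : LocallyOfFiniteType k.left := hf.1 a b k ha hb comm
  haveI : QuasiCompact k.left := inferInstance
  have hfin := finite_quasiFiniteAt_fibre k.left v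
  refine (hfin.image (Points.ofPt a)).subset ?_
  rintro x ⟨hx1, hx2⟩
  have hxv : Points.map f.hom x = Points.map b (Points.ofScheme Vo v) := by
    rw [hx1, ← Points.ofPt_eq_map_ofScheme, hbv]
  obtain ⟨z', hz1, hz2⟩ := exists_point_of_isPullback sq x (Points.ofScheme Vo v) hxv
  obtain ⟨u, rfl⟩ := surjective_ofPt_of_repWith_surjective p hps z'
  have hxa : Points.ofPt a u = x := by rw [hadef, ← hz1]; rfl
  refine ⟨u, ⟨?_, ?_⟩, hxa⟩
  · have h1 : Points.ofPt ((yon S).map k) u = Points.ofScheme Vo v := by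
      rw [hk, ← hz2]; rfl
    have h2 := congrArg (Points.toScheme Vo) h1
    rw [Points.toScheme_ofPt, Points.toScheme_ofScheme] at h2
    exact h2
  · rw [← lqfNear_iff_quasiFiniteAt]
    exact (hasAtMor_iff_of_chart etLocalPt_lqfNear f.hom a b k ha hb comm u).1
      (by rw [hxa]; exact hx2)

end Groth.Agent.Lib.Helper98.AlgSpLqf
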