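import Groth.Agent.Lib.Helper98.AzuIdem

/-!
# The corner `B ≅ ε (B ⊗ End Q) ε` for a rank-one idempotent of `End Q`
-/

namespace Groth.Agent.Lib.Helper98.AzuCorner

open Module TensorProduct

universe u v w

variable {R : Type u} [CommRing R] (B : Type v) [Ring B] [Algebra R B]
  {Q : Type w} [AddCommGroup Q] [Module R Q] (q : Q) (f : Module.Dual R Q)

/-- the rank one endomorphism `y ↦ f y • q` -/
def piE : Module.End R Q := f.smulRight q

@[simp] lemma piE_apply (y : Q) : piE q f y = f y • q := rfl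

/-- `1 ⊗ π` -/
def epsE : B ⊗[R] Module.End R Q := 1 ⊗ₜ piE q f

/-- `b ↦ b ⊗ π` -/
def iotaE : B →ₗ[R] B ⊗[R] Module.End R Q := (TensorProduct.mk R B (Module.End R Q)).flip (piE q f)

@[simp] lemma iotaE_apply (b : B) : iotaE B q f b = b ⊗ₜ piE q f := rfl

/-- `b ⊗ g ↦ f (g q) • b` -/
def tauE : B ⊗[R] Module.End R Q →ₗ[R] B :=
  (TensorProduct.rid R B).toLinearMap ∘ₗ LinearMap.lTensor B (f ∘ₗ LinearMap.applyₗ q)

@[simp] lemma tauE_tmul (b : B) (g : Module.End R Q) : tauE B q f (b ⊗ₜ g) = f (g q) • b := by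
  simp [tauE]

variable {q f} (hfq : f q = 1)
include hfq

lemma piE_idem : piE q f * piE q f = piE q f := by
  ext y
  simp [Module.End.mul_apply, hfq]

lemma epsE_idem : epsE B q f * epsE B q f = epsE B q f := by
  simp [epsE, Algebra.TensorProduct.tmul_mul_tmul, piE_idem hfq]

lemma tauE_iotaE (b : B) : tauE B q f (iotaE B q f b) = b := by
  simp [hfq]

omit hfq in
lemma piE_mul_mul_piE (g : Module.End R Q) : piE q f * g * piE q f = f (g q) • piE q f := by
  ext y
  simp [Module.End.mul_apply, smul_smul, mul_comm]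

omit hfq in
lemma iotaE_tauE (z : B ⊗[R] Module.End R Q) :
    iotaE B q f (tauE B q f z) = epsE B q f * z * epsE B q f := by
  induction z using TensorProduct.induction_on with
  | zero => simp
  | tmul b g =>
    simp only [tauE_tmul, iotaE_apply, epsE, Algebra.TensorProduct.tmul_mul_tmul, one_mul, mul_one,
      piE_mul_mul_piE, TensorProduct.smul_tmul, TensorProduct.tmul_smul]
  | add z w hz hw => simp only [map_add, hz, hw, mul_add, add_mul]

lemma iotaE_mul (b b' : B) : iotaE B q f (b * b') = iotaE B q f b * iotaE B q f b' := by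
  simp [Algebra.TensorProduct.tmul_mul_tmul, piE_idem hfq]

lemma iotaE_mul_epsE (b : B) : iotaE B q f b * epsE B q f = iotaE B q f b := by
  simp [epsE, Algebra.TensorProduct.tmul_mul_tmul, piE_idem hfq]

lemma epsE_mul_iotaE (b : B) : epsE B q f * iotaE B q f b = iotaE B q f b := by
  simp [epsE, Algebra.TensorProduct.tmul_mul_tmul, piE_idem hfq]

omit hfq in
lemma iotaE_one : iotaE B q f 1 = epsE B q f := rfl

/-- `τ` is multiplicative on the corner -/
lemma tauE_mul_of_corner (z w : B ⊗[R] Module.End R Q)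
    (hz : epsE B q f * z * epsE B q f = z) (hw : epsE B q f * w * epsE B q f = w) :
    tauE B q f (z * w) = tauE B q f z * tauE B q f w := by
  have h1 : z = iotaE B q f (tauE B q f z) := by rw [iotaE_tauE B, hz]
  have h2 : w = iotaE B q f (tauE B q f w) := by rw [iotaE_tauE B, hw]
  conv_lhs => rw [h1, h2, ← iotaE_mul B hfq, tauE_iotaE B hfq]


section Rank

omit hfq

variable (q f)

/-- `b ⊗ g ↦ b ⊗ g q` -/
def toL : B ⊗[R] Module.End R Q →ₗ[R] B ⊗[R] Q := LinearMap.lTensor B (LinearMap.applyₗ q)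

/-- `b ⊗ v ↦ b ⊗ (y ↦ f y • v)` -/
def fromL : B ⊗[R] Q →ₗ[R] B ⊗[R] Module.End R Q := LinearMap.lTensor B (LinearMap.smulRightₗ f)

@[simp] lemma toL_tmul (b : B) (g : Module.End R Q) : toL B q (b ⊗ₜ g) = b ⊗ₜ g q := by
  simp [toL]

@[simp] lemma fromL_tmul (b : B) (v : Q) : fromL B f (b ⊗ₜ v) = b ⊗ₜ f.smulRight v := by
  simp [fromL, LinearMap.smulRightₗ]

lemma fromL_toL (z : B ⊗[R] Module.End R Q) : fromL B f (toL B q z) = z * epsE B q f := by
  induction z using TensorProduct.induction_on with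
  | zero => simp
  | tmul b g =>
    simp only [toL_tmul, fromL_tmul, epsE, Algebra.TensorProduct.tmul_mul_tmul, mul_one]
    congr 1
    ext y
    simp [Module.End.mul_apply]
  | add z w hz hw => simp only [map_add, hz, hw, add_mul]

variable {q f}
include hfq

lemma toL_fromL (t : B ⊗[R] Q) : toL B q (fromL B f t) = t := by
  induction t using TensorProduct.induction_on with
  | zero => simp
  | tmul b v => simp [hfq]
  | add z w hz hw => simp only [map_add, hz, hw]

/-- `(B ⊗ End Q) ε ≃ B ⊗ Q` -/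
def lidEquiv : AzuIdem.Lid (epsE B q f) ≃ₗ[R] B ⊗[R] Q where
  toFun z := toL B q z.1
  map_add' z w := by simp
  map_smul' r z := by simp
  invFun t := ⟨fromL B f t, (AzuIdem.mem_Lid (epsE_idem B hfq)).mpr (by
    conv_rhs => rw [← toL_fromL B hfq t]
    rw [← fromL_toL, toL_fromL B hfq])⟩
  left_inv z := by
    ext
    simp only [fromL_toL]
    exact (AzuIdem.mem_Lid (epsE_idem B hfq)).mp z.2
  right_inv t := toL_fromL B hfq t

end Rank

end Groth.Agent.Lib.Helper98.AzuCorner
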