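import Mathlib

/-!
# Azumaya algebras over a field are simple; modules over simple artinian algebras
-/

namespace Groth.Agent.Lib.Helper98.AzuField

open Module

universe u v w

section Simple

variable (K : Type u) (A : Type v) [Field K] [Ring A] [Algebra K A] [IsAzumaya K A]

include K in
theorem nontrivial_of_isAzumaya : Nontrivial A := by
  by_contra hnt
  rw [not_nontrivial_iff_subsingleton] at hnt
  have : (1 : K) = 0 := by
    apply FaithfulSMul.eq_of_smul_eq_smul (α := A)
    intro a; exact Subsingleton.elim _ _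
  exact one_ne_zero this

include K in
theorem isSimpleRing_of_isAzumaya : IsSimpleRing A := by
  rw [isSimpleRing_iff_isTwoSided_imp]
  refine ⟨nontrivial_of_isAzumaya K A, ?_⟩
  intro I hI
  by_cases hbot : I = ⊥
  · exact Or.inl hbot
  right
  obtain ⟨x, hxI, hx0⟩ := Submodule.exists_mem_ne_zero_of_ne_bot hbot
  rw [Ideal.eq_top_iff_one]
  -- a linear form with f x = 1
  obtain ⟨f, hf⟩ : ∃ f : Module.Dual K A, f x = 1 := by
    have := (Module.forall_dual_apply_eq_zero_iff K x).not.mpr hx0
    push Not at this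
    obtain ⟨g, hg⟩ := this
    exact ⟨(g x)⁻¹ • g, by simp [hg]⟩
  let φ : Module.End K A := f.smulRight (1 : A)
  obtain ⟨t, ht⟩ := (IsAzumaya.bij (R := K) (A := A)).2 φ
  have key : ∀ t : TensorProduct K A Aᵐᵒᵖ, AlgHom.mulLeftRight K A t x ∈ I := by
    intro t
    induction t using TensorProduct.induction_on with
    | zero => simp
    | tmul a b =>
      rw [AlgHom.mulLeftRight_apply]
      exact I.mul_mem_right _ (I.mul_mem_left _ hxI)
    | add s t hs ht => rw [map_add, LinearMap.add_apply]; exact I.add_mem hs ht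
  have := key t
  rw [ht] at this
  simpa [φ, hf] using this

end Simple


section Classify

variable {K : Type u} {L : Type v} [Field K] [Ring L] [Algebra K L] [IsSimpleRing L]
  [FiniteDimensional K L]
  {P Q : Type w} [AddCommGroup P] [Module K P] [Module L P] [IsScalarTower K L P]
  [Module.Finite K P] [AddCommGroup Q] [Module K Q] [Module L Q] [IsScalarTower K L Q]
  [Module.Finite K Q]

/-- Structure of a pair of finite modules over a finite-dimensional simple algebra. -/
theorem exists_simple_pow (hnt : Nontrivial (P × Q)) :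
    ∃ (S : Submodule L (P × Q)) (a b : ℕ), 0 < Module.finrank K S ∧
      Module.finrank K P = a * Module.finrank K S ∧ Module.finrank K Q = b * Module.finrank K S ∧
      Nonempty (P ≃ₗ[L] (Fin a → S)) ∧ Nonempty (Q ≃ₗ[L] (Fin b → S)) := by
  have hart : IsArtinianRing L := IsArtinianRing.of_finite K L
  obtain ⟨hss, hiso, -⟩ := isSimpleRing_isArtinianRing_iff.mp ⟨‹IsSimpleRing L›, hart⟩
  have hPQ : IsIsotypic L (P × Q) := IsIsotypic.of_self _ hiso
  obtain ⟨S, hS⟩ := IsSemisimpleModule.exists_simple_submodule L (P × Q)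
  have hP : IsIsotypicOfType L P S :=
    (hPQ S).of_injective (LinearMap.inl L P Q) LinearMap.inl_injective
  have hQ : IsIsotypicOfType L Q S :=
    (hPQ S).of_injective (LinearMap.inr L P Q) LinearMap.inr_injective
  have : Module.Finite L P := Module.Finite.of_restrictScalars_finite K L P
  have : Module.Finite L Q := Module.Finite.of_restrictScalars_finite K L Q
  obtain ⟨a, ⟨eP⟩⟩ := hP.linearEquiv_fun
  obtain ⟨b, ⟨eQ⟩⟩ := hQ.linearEquiv_fun
  have hfinS : Module.Finite K S :=
    Module.Finite.of_injective (S.subtype.restrictScalars K) Subtype.val_injective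
  have hntS : Nontrivial S := IsSimpleModule.nontrivial L S
  refine ⟨S, a, b, Module.finrank_pos, ?_, ?_, ⟨eP⟩, ⟨eQ⟩⟩
  · rw [(eP.restrictScalars K).finrank_eq, Module.finrank_pi_fintype]
    simp
  · rw [(eQ.restrictScalars K).finrank_eq, Module.finrank_pi_fintype]
    simp

/-- Split surjection when the dimension allows. -/
theorem exists_split_surjection (h : Module.finrank K Q ≤ Module.finrank K P) :
    ∃ (α : P →ₗ[L] Q) (β : Q →ₗ[L] P), α ∘ₗ β = LinearMap.id := by
  by_cases hnt : Nontrivial (P × Q)
  · obtain ⟨S, a, b, hd, hPd, hQd, ⟨eP⟩, ⟨eQ⟩⟩ := exists_simple_pow (K := K) (L := L) hnt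
    have hba : b ≤ a := by
      rw [hPd, hQd] at h
      exact Nat.le_of_mul_le_mul_right h hd
    let pr : (Fin a → S) →ₗ[L] (Fin b → S) := LinearMap.funLeft L S (Fin.castLE hba)
    let ex : (Fin b → S) →ₗ[L] (Fin a → S) :=
      LinearMap.pi fun i => if hi : (i : ℕ) < b then LinearMap.proj ⟨i, hi⟩ else 0
    have hpe : pr ∘ₗ ex = LinearMap.id := by
      refine LinearMap.ext fun w => funext fun i => ?_
      simp [pr, ex, LinearMap.funLeft_apply]
    refine ⟨eQ.symm.toLinearMap ∘ₗ pr ∘ₗ eP.toLinearMap, eP.symm.toLinearMap ∘ₗ ex ∘ₗ eQ.toLinearMap, ?_⟩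
    ext q
    have := congrArg (fun φ : (Fin b → S) →ₗ[L] (Fin b → S) => φ (eQ q)) hpe
    simp only [LinearMap.comp_apply, LinearMap.id_apply] at this
    simp [this]
  · rw [not_nontrivial_iff_subsingleton] at hnt
    have : Subsingleton Q := by
      constructor; intro x y
      have := Subsingleton.elim ((0 : P), x) ((0 : P), y)
      exact (Prod.mk.injEq _ _ _ _ ▸ this).2
    exact ⟨0, 0, by ext q; exact Subsingleton.elim _ _⟩

/-- Equal dimension implies isomorphic. -/
theorem nonempty_linearEquiv_of_finrank_eq (h : Module.finrank K P = Module.finrank K Q) :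
    Nonempty (P ≃ₗ[L] Q) := by
  by_cases hnt : Nontrivial (P × Q)
  · obtain ⟨S, a, b, hd, hPd, hQd, ⟨eP⟩, ⟨eQ⟩⟩ := exists_simple_pow (K := K) (L := L) hnt
    have hab : a = b := by
      rw [hPd, hQd] at h
      exact Nat.eq_of_mul_eq_mul_right hd h
    subst hab
    exact ⟨eP.trans eQ.symm⟩
  · rw [not_nontrivial_iff_subsingleton] at hnt
    have hQ : Subsingleton Q := by
      constructor; intro x y
      have := Subsingleton.elim ((0 : P), x) ((0 : P), y)
      exact (Prod.mk.injEq _ _ _ _ ▸ this).2
    have hP : Subsingleton P := by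
      constructor; intro x y
      have := Subsingleton.elim (x, (0 : Q)) (y, (0 : Q))
      exact (Prod.mk.injEq _ _ _ _ ▸ this).1
    exact ⟨LinearEquiv.ofSubsingleton P Q⟩

end Classify

end Groth.Agent.Lib.Helper98.AzuField
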