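import Mathlib
import Groth.Agent.Lib.Helper37.HenselIdem

set_option autoImplicit false

namespace Groth.Agent.Lib.Helper98.HenselNC
open Polynomial IsLocalRing

universe u v
variable {R : Type u} [CommRing R] {D : Type v} [Ring D] [Algebra R D]

/-- `I • ⊤` is stable under right multiplication -/
lemma smul_top_mul_mem (I : Ideal R) {z : D} (hz : z ∈ (I • ⊤ : Submodule R D)) (d : D) :
    z * d ∈ (I • ⊤ : Submodule R D) := by
  refine Submodule.smul_induction_on hz ?_ ?_
  · intro r hr n _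
    rw [smul_mul_assoc]
    exact Submodule.smul_mem_smul hr Submodule.mem_top
  · intro a b ha hb
    rw [add_mul]; exact Submodule.add_mem _ ha hb

/-- `I • ⊤` is stable under left multiplication -/
lemma mul_smul_top_mem (I : Ideal R) {z : D} (hz : z ∈ (I • ⊤ : Submodule R D)) (d : D) :
    d * z ∈ (I • ⊤ : Submodule R D) := by
  refine Submodule.smul_induction_on hz ?_ ?_
  · intro r hr n _
    rw [mul_smul_comm]
    exact Submodule.smul_mem_smul hr Submodule.mem_top
  · intro a b ha hb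
    rw [mul_add]; exact Submodule.add_mem _ ha hb

/-- elements of `I B` for a commutative subalgebra `B` lie in `I • ⊤` -/
lemma val_mem_smul_top (I : Ideal R) (B : Subalgebra R D) [CommRing B]
    (hmul : ∀ a b : B, ((a * b : B) : D) = (a : D) * (b : D))
    (hadd : ∀ a b : B, ((a + b : B) : D) = (a : D) + (b : D))
    (hzero : ((0 : B) : D) = 0)
    (f : R →+* B) (hf : ∀ r, ((f r : B) : D) = algebraMap R D r)
    {z : B} (hz : z ∈ I.map f) : (z : D) ∈ (I • ⊤ : Submodule R D) := by
  refine Submodule.span_induction ?_ ?_ ?_ ?_ hz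
  · rintro _ ⟨r, hr, rfl⟩
    rw [hf, Algebra.algebraMap_eq_smul_one]
    exact Submodule.smul_mem_smul hr Submodule.mem_top
  · rw [hzero]; exact Submodule.zero_mem _
  · intro a b _ _ ha hb
    rw [hadd]; exact Submodule.add_mem _ ha hb
  · intro a b _ hb
    rw [smul_eq_mul, hmul]
    exact mul_smul_top_mem I hb _

open scoped IsMulCommutative in
/-- **Idempotent lifting in finite non-commutative algebras over a henselian local ring.** -/
theorem exists_idempotent_lift [HenselianLocalRing R] [Module.Finite R D] (x : D)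
    (hx : x * x - x ∈ (maximalIdeal R • ⊤ : Submodule R D)) :
    ∃ ε : D, IsIdempotentElem ε ∧ ε - x ∈ (maximalIdeal R • ⊤ : Submodule R D) := by
  classical
  obtain ⟨y, hy⟩ : ∃ y, y = x - x ^ 2 := ⟨_, rfl⟩
  have hym : y ∈ (maximalIdeal R • ⊤ : Submodule R D) := by
    have : y = -(x * x - x) := by rw [hy, pow_two]; abel
    rw [this]; exact Submodule.neg_mem _ hx
  obtain ⟨p, hpm, -, hpc, hp0⟩ :=
    LinearMap.exists_monic_and_natDegree_eq_and_coeff_mem_pow_and_aeval_eq_zero R
      (LinearMap.mulLeft R y) (maximalIdeal R) (by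
        rintro _ ⟨d, rfl⟩
        exact smul_top_mul_mem _ hym d)
  have hpy : aeval y p = 0 := by
    have h1 : aeval (Algebra.lmul R D y) p = Algebra.lmul R D (aeval y p) :=
      Polynomial.aeval_algHom_apply (Algebra.lmul R D) y p
    have h2 : aeval (Algebra.lmul R D y) p = 0 := hp0
    rw [h2] at h1
    have h3 := LinearMap.congr_fun h1 1
    simpa using h3.symm
  obtain ⟨N, hN⟩ : ∃ N, N = p.natDegree := ⟨_, rfl⟩
  have hcomm : ∀ a ∈ ({x} : Set D), ∀ b ∈ ({x} : Set D), a * b = b * a := by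
    intro a ha b hb
    rw [Set.mem_singleton_iff] at ha hb
    rw [ha, hb]
  have := Algebra.isMulCommutative_adjoin R hcomm
  have : Algebra.IsIntegral R (Algebra.adjoin R ({x} : Set D)) := by
    constructor
    intro b
    have hb : IsIntegral R (b : D) := Algebra.IsIntegral.isIntegral (b : D)
    exact (isIntegral_algHom_iff (Algebra.adjoin R ({x} : Set D)).val Subtype.val_injective).mp hb
  obtain ⟨xB, hxB⟩ : ∃ xB : Algebra.adjoin R ({x} : Set D), (xB : D) = x :=
    ⟨⟨x, Algebra.subset_adjoin (Set.mem_singleton x)⟩, rfl⟩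
  obtain ⟨yB, hyB⟩ : ∃ yB : Algebra.adjoin R ({x} : Set D), yB = xB - xB ^ 2 := ⟨_, rfl⟩
  have hyBv : (yB : D) = y := by
    rw [hyB, hy]
    show (xB : D) - (xB : D) ^ 2 = _
    rw [hxB]
  have hpyB : aeval yB p = 0 := by
    apply Subtype.val_injective
    rw [Polynomial.aeval_subalgebra_coe, hyBv, hpy]; rfl
  have hpowN : yB ^ N ∈ (maximalIdeal R).map (algebraMap R (Algebra.adjoin R ({x} : Set D))) := by
    rw [Polynomial.aeval_eq_sum_range, ← hN, Finset.sum_range_succ, hN, hpm.coeff_natDegree, one_smul,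
      ← hN] at hpyB
    have : yB ^ N = -∑ i ∈ Finset.range N, p.coeff i • yB ^ i := by
      rw [eq_neg_iff_add_eq_zero, add_comm]; exact hpyB
    rw [this, neg_mem_iff]
    apply Ideal.sum_mem
    intro i hi
    rw [Finset.mem_range] at hi
    rw [Algebra.smul_def]
    apply Ideal.mul_mem_right
    apply Ideal.mem_map_of_mem
    have h1 := hpc i
    rw [← hN] at h1
    exact Ideal.pow_le_self (by omega) h1
  have hpow : yB ^ (N + 1) ∈ (maximalIdeal R).map (algebraMap R (Algebra.adjoin R ({x} : Set D))) := by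
    rw [pow_succ]; exact Ideal.mul_mem_right _ _ hpowN
  obtain ⟨ε₀, hε₀⟩ : ∃ ε₀ : Algebra.adjoin R ({x} : Set D),
      ε₀ = 1 - (1 - xB ^ (N + 1)) ^ (N + 1) := ⟨_, rfl⟩
  have hidem0 : ε₀ * ε₀ - ε₀ ∈ (maximalIdeal R).map (algebraMap R (Algebra.adjoin R ({x} : Set D))) := by
    rw [← Ideal.Quotient.eq_zero_iff_mem, map_sub, map_mul, sub_eq_zero]
    have h1 : (Ideal.Quotient.mk _ xB - (Ideal.Quotient.mk
        ((maximalIdeal R).map (algebraMap R (Algebra.adjoin R ({x} : Set D)))) xB) ^ 2) ^ (N + 1) = 0 := by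
      rw [← map_pow, ← map_sub, ← map_pow, ← hyB, Ideal.Quotient.eq_zero_iff_mem]
      exact hpow
    have h2 := isIdempotentElem_one_sub_one_sub_pow_pow _ _ h1
    rw [hε₀]
    simp only [map_sub, map_one, map_pow]
    exact h2.eq
  obtain ⟨e, he, heε⟩ := Groth.Agent.Lib.Helper37.exists_idempotent_lift (maximalIdeal R) ε₀ hidem0
  -- ε₀ - xB is a multiple of yB
  have hq : ∃ q : Algebra.adjoin R ({x} : Set D), q * yB = ε₀ - xB := by
    rw [← Ideal.mem_span_singleton', ← Ideal.Quotient.eq_zero_iff_mem]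
    have hxi : IsIdempotentElem (Ideal.Quotient.mk (Ideal.span {yB}) xB) := by
      unfold IsIdempotentElem
      rw [← map_mul, ← sub_eq_zero, ← map_sub, Ideal.Quotient.eq_zero_iff_mem]
      have : xB * xB - xB = -yB := by rw [hyB, pow_two]; ring
      rw [this, neg_mem_iff]
      exact Ideal.mem_span_singleton_self yB
    rw [hε₀]
    simp only [map_sub, map_one, map_pow]
    rw [hxi.pow_succ_eq, hxi.one_sub.pow_succ_eq]
    ring
  obtain ⟨q, hq⟩ := hq
  refine ⟨(e : D), ?_, ?_⟩
  · have := congrArg Subtype.val he.eq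
    exact this
  · have h1 : (e : D) - x = ((e - ε₀ : Algebra.adjoin R ({x} : Set D)) : D) +
        ((q : D) * y) := by
      have e1 : ((e - ε₀ : Algebra.adjoin R ({x} : Set D)) : D) = (e : D) - (ε₀ : D) := rfl
      have e2 : (q : D) * y = (ε₀ : D) - (xB : D) := by
        rw [← hyBv]; exact congrArg Subtype.val hq
      rw [e1, e2, hxB]; abel
    rw [h1]
    apply Submodule.add_mem
    · exact val_mem_smul_top (maximalIdeal R) (Algebra.adjoin R ({x} : Set D)) (fun _ _ => rfl)
        (fun _ _ => rfl) rfl (algebraMap R _) (fun _ => rfl) heε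
    · exact mul_smul_top_mem _ hym _

/-- `1 + z` is a unit for `z ∈ m • ⊤` in a finite algebra over a local ring -/
theorem isUnit_one_add_of_mem_smul_top [IsLocalRing R] [Module.Finite R D] {z : D}
    (hz : z ∈ (maximalIdeal R • ⊤ : Submodule R D)) : IsUnit (1 + z) := by
  have hL : LinearMap.range (LinearMap.mulLeft R (1 + z)) = ⊤ := by
    rw [eq_top_iff]
    apply Submodule.le_of_le_smul_of_le_jacobson_bot (I := maximalIdeal R) Module.Finite.fg_top
      (IsLocalRing.maximalIdeal_le_jacobson ⊥)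
    intro d _
    have : d = (1 + z) * d + -(z * d) := by noncomm_ring
    rw [this]
    exact Submodule.add_mem_sup ⟨d, rfl⟩ (Submodule.neg_mem _ (smul_top_mul_mem _ hz d))
  have hRt : LinearMap.range (LinearMap.mulRight R (1 + z)) = ⊤ := by
    rw [eq_top_iff]
    apply Submodule.le_of_le_smul_of_le_jacobson_bot (I := maximalIdeal R) Module.Finite.fg_top
      (IsLocalRing.maximalIdeal_le_jacobson ⊥)
    intro d _
    have : d = d * (1 + z) + -(d * z) := by noncomm_ring
    rw [this]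
    exact Submodule.add_mem_sup ⟨d, rfl⟩ (Submodule.neg_mem _ (mul_smul_top_mem _ hz d))
  obtain ⟨w, hw⟩ : ∃ w, (1 + z) * w = 1 := by
    have : (1 : D) ∈ LinearMap.range (LinearMap.mulLeft R (1 + z)) := by rw [hL]; trivial
    obtain ⟨w, hw⟩ := this
    exact ⟨w, hw⟩
  obtain ⟨w', hw'⟩ : ∃ w', w' * (1 + z) = 1 := by
    have : (1 : D) ∈ LinearMap.range (LinearMap.mulRight R (1 + z)) := by rw [hRt]; trivial
    obtain ⟨w', hw'⟩ := this
    exact ⟨w', hw'⟩
  have hww : w = w' := by
    calc w = (w' * (1 + z)) * w := by rw [hw', one_mul]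
      _ = w' * ((1 + z) * w) := by rw [mul_assoc]
      _ = w' := by rw [hw, mul_one]
  exact ⟨⟨1 + z, w, hw, by rw [hww]; exact hw'⟩, rfl⟩

/-- an element with an inverse modulo `m • ⊤` is a unit -/
theorem isUnit_of_mul_sub_one_mem [IsLocalRing R] [Module.Finite R D] {b b' : D}
    (h1 : b * b' - 1 ∈ (maximalIdeal R • ⊤ : Submodule R D))
    (h2 : b' * b - 1 ∈ (maximalIdeal R • ⊤ : Submodule R D)) : IsUnit b := by
  have u1 : IsUnit (b * b') := by
    have := isUnit_one_add_of_mem_smul_top h1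
    rwa [add_sub_cancel] at this
  have u2 : IsUnit (b' * b) := by
    have := isUnit_one_add_of_mem_smul_top h2
    rwa [add_sub_cancel] at this
  obtain ⟨v1, hv1⟩ := u1
  obtain ⟨v2, hv2⟩ := u2
  have hr : b * (b' * (v1⁻¹ : Dˣ)) = 1 := by
    rw [← mul_assoc, ← hv1]; exact v1.mul_inv
  have hl : ((v2⁻¹ : Dˣ) : D) * b' * b = 1 := by
    rw [mul_assoc, ← hv2]; exact v2.inv_mul
  have heq : ((v2⁻¹ : Dˣ) : D) * b' = b' * (v1⁻¹ : Dˣ) := by
    calc ((v2⁻¹ : Dˣ) : D) * b' = ((v2⁻¹ : Dˣ) : D) * b' * (b * (b' * (v1⁻¹ : Dˣ))) := by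
          rw [hr, mul_one]
      _ = (((v2⁻¹ : Dˣ) : D) * b' * b) * (b' * (v1⁻¹ : Dˣ)) := by simp only [mul_assoc]
      _ = b' * (v1⁻¹ : Dˣ) := by rw [hl, one_mul]
  exact ⟨⟨b, b' * (v1⁻¹ : Dˣ), hr, by rw [← heq]; exact hl⟩, rfl⟩

end Groth.Agent.Lib.Helper98.HenselNC
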