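import Groth.Agent.Lib.Helper98.CornerLid
import Groth.Agent.Lib.Helper98.HenselNC

set_option autoImplicit false

namespace Groth.Agent.Lib.Helper98.AzuHensel
open IsLocalRing CornerRing HenselNC MulOpposite TensorProduct

universe u v w

section Split
variable {R : Type u} [CommRing R] [HenselianLocalRing R] {D : Type v} [Ring D] [Algebra R D]
  [IsAzumaya R D]
  {V : Type w} [AddCommGroup V] [Module R V] [Module (ResidueField R) V]
  [IsScalarTower R (ResidueField R) V] [Nontrivial V]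

/-- the `R`-action on `End_k V` kills the maximal ideal -/
lemma smul_end_eq_zero {r : R} (hr : r ∈ maximalIdeal R) (φ : Module.End (ResidueField R) V) :
    r • φ = 0 := by
  ext v
  rw [LinearMap.smul_apply, LinearMap.zero_apply, ← algebraMap_smul (ResidueField R) r (φ v)]
  have : algebraMap R (ResidueField R) r = 0 := (residue_eq_zero_iff r).mpr hr
  rw [this, zero_smul]

lemma map_eq_zero_of_mem_smul_top (ρ : D →ₐ[R] Module.End (ResidueField R) V) {z : D}
    (hz : z ∈ (maximalIdeal R • ⊤ : Submodule R D)) : ρ z = 0 := by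
  refine Submodule.smul_induction_on hz ?_ ?_
  · intro r hr d _
    rw [map_smul]; exact smul_end_eq_zero hr _
  · intro a b ha hb
    rw [map_add, ha, hb, add_zero]

/-- **Lifting a splitting.** If the Azumaya algebra `D` over the henselian local ring `R` maps onto
`End_k(V)` with kernel `m D`, then `D ≃ End_R(D ε)` for an idempotent `ε`. -/
theorem exists_idempotent_LA_bijective (ρ : D →ₐ[R] Module.End (ResidueField R) V)
    (hs : Function.Surjective ρ)
    (hker : ∀ d, ρ d = 0 → d ∈ (maximalIdeal R • ⊤ : Submodule R D)) :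
    ∃ (ε : D) (hε : IsIdempotentElem ε), ε ≠ 0 ∧ Function.Bijective (LA (R := R) hε) := by
  classical
  -- a rank one projector
  obtain ⟨v₀, hv₀⟩ := exists_ne (0 : V)
  obtain ⟨f₀, hf₀⟩ : ∃ f₀ : V →ₗ[ResidueField R] ResidueField R, f₀ v₀ = 1 := by
    have hinj : Function.Injective (LinearMap.toSpanSingleton (ResidueField R) V v₀) := by
      intro a b hab
      simp only [LinearMap.toSpanSingleton_apply] at hab
      exact smul_left_injective _ hv₀ hab
    obtain ⟨g, hg⟩ := LinearMap.exists_leftInverse_of_injective _ (LinearMap.ker_eq_bot.mpr hinj)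
    refine ⟨g, ?_⟩
    have := LinearMap.congr_fun hg 1
    simpa using this
  obtain ⟨π₀, hπ₀⟩ : ∃ π₀ : Module.End (ResidueField R) V, π₀ = f₀.smulRight v₀ := ⟨_, rfl⟩
  have hπapp : ∀ v, π₀ v = f₀ v • v₀ := fun v => by rw [hπ₀]; rfl
  have hπidem : π₀ * π₀ = π₀ := by
    ext v
    rw [Module.End.mul_apply, hπapp, hπapp, map_smul, hf₀, smul_eq_mul, mul_one]
  have hπg : ∀ g : Module.End (ResidueField R) V, π₀ * g * π₀ = f₀ (g v₀) • π₀ := by
    intro g
    ext v
    simp only [Module.End.mul_apply, hπapp, map_smul, LinearMap.smul_apply]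
    rw [smul_comm]
  have hπne : π₀ ≠ 0 := by
    intro h
    have := hπapp v₀
    rw [h, hf₀, one_smul, LinearMap.zero_apply] at this
    exact hv₀ this.symm
  -- lift
  obtain ⟨x, hx⟩ := hs π₀
  have hxx : x * x - x ∈ (maximalIdeal R • ⊤ : Submodule R D) := by
    apply hker
    rw [map_sub, map_mul, hx, hπidem, sub_self]
  obtain ⟨ε, hε, hεx⟩ := HenselNC.exists_idempotent_lift x hxx
  have hρε : ρ ε = π₀ := by
    have := map_eq_zero_of_mem_smul_top ρ hεx
    rw [map_sub, hx, sub_eq_zero] at this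
    exact this
  have hεne : ε ≠ 0 := by
    intro h
    rw [h, map_zero] at hρε
    exact hπne hρε.symm
  refine ⟨ε, hε, hεne, ?_⟩
  -- the corner is `R`
  have hcor : ∀ z : Cor R hε, ∃ c : R, z = c • (1 : Cor R hε) := by
    have hstep : ∀ z : Cor R hε, ∃ c : R,
        z - c • (1 : Cor R hε) ∈ (maximalIdeal R • ⊤ : Submodule R (Cor R hε)) := by
      intro z
      obtain ⟨z', hz'⟩ : ∃ z', z' = val hε z := ⟨_, rfl⟩
      have h1 : ρ z' = f₀ (ρ z' v₀) • π₀ := by
        have : z' = ε * z' * ε := by rw [hz', left_mul, mul_right]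
        conv_lhs => rw [this]
        rw [map_mul, map_mul, hρε, hπg]
      obtain ⟨c, hc⟩ := residue_surjective (R := R) (f₀ (ρ z' v₀))
      refine ⟨c, ?_⟩
      have h2 : ρ (z' - c • ε) = 0 := by
        rw [map_sub, map_smul, hρε, h1, sub_eq_zero]
        ext v
        rw [LinearMap.smul_apply, LinearMap.smul_apply, ← algebraMap_smul (ResidueField R) c (π₀ v)]
        congr 1
        exact hc.symm
      have h3 := hker _ h2
      have h4 : z - c • (1 : Cor R hε) = proj hε (z' - c • ε) := by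
        rw [map_sub, map_smul, hz', proj_val]
        congr 2
        apply val_injective hε
        rw [val_proj, hε.eq, hε.eq]
        rfl
      rw [h4]
      exact Submodule.smul_induction_on h3
        (fun r hr d _ => by rw [map_smul]; exact Submodule.smul_mem_smul hr Submodule.mem_top)
        (fun a b ha hb => by rw [map_add]; exact Submodule.add_mem _ ha hb)
    have htop : (⊤ : Submodule R (Cor R hε)) ≤ Submodule.span R {(1 : Cor R hε)} := by
      apply Submodule.le_of_le_smul_of_le_jacobson_bot (I := maximalIdeal R) Module.Finite.fg_top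
        (IsLocalRing.maximalIdeal_le_jacobson ⊥)
      intro z _
      obtain ⟨c, hc⟩ := hstep z
      have : z = c • (1 : Cor R hε) + (z - c • (1 : Cor R hε)) := by abel
      rw [this]
      exact Submodule.add_mem_sup (Submodule.smul_mem _ _ (Submodule.mem_span_singleton_self _)) hc
    intro z
    have := htop (Submodule.mem_top : z ∈ ⊤)
    rw [Submodule.mem_span_singleton] at this
    obtain ⟨c, hc⟩ := this
    exact ⟨c, hc.symm⟩
  have hfinQ := finite_lidS (R := R) hε
  have hprojQ := projective_lidS (R := R) hε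
  have hfreeQ : Module.Free R (lidS R ε) := Module.free_of_flat_of_isLocalRing
  have hntQ : Nontrivial (lidS R ε) :=
    ⟨⟨⟨ε, hε.eq⟩, 0, fun h => hεne (congrArg Subtype.val h)⟩⟩
  have hfaith : ∀ c : R, c • (1 : Cor R hε) = 0 → c = 0 := by
    intro c hc
    have h1 : c • ε = 0 := by
      have := congrArg (val hε) hc
      rw [map_smul, map_zero] at this
      exact this
    apply FaithfulSMul.eq_of_smul_eq_smul (α := lidS R ε)
    intro q
    rw [zero_smul]
    apply Subtype.ext
    show c • q.1 = 0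
    rw [← lid_mul q, ← mul_smul_comm, h1, mul_zero]
  obtain ⟨σ, hσ⟩ : ∃ σ : R →ₗ[R] Cor R hε, σ = LinearMap.toSpanSingleton R (Cor R hε) 1 := ⟨_, rfl⟩
  have hσapp : ∀ c, σ c = c • (1 : Cor R hε) := fun c => by rw [hσ]; rfl
  have hσbij : Function.Bijective σ := by
    constructor
    · intro a b hab
      rw [hσapp, hσapp] at hab
      have : (a - b) • (1 : Cor R hε) = 0 := by rw [sub_smul]; exact sub_eq_zero.mpr hab
      exact sub_eq_zero.mp (hfaith _ this)
    · intro z
      obtain ⟨c, hc⟩ := hcor z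
      exact ⟨c, by rw [hσapp, hc]⟩
  obtain ⟨τ, hτ⟩ : ∃ τ : Cor R hε →ₗ[R] R, τ 1 = 1 := by
    refine ⟨(LinearEquiv.ofBijective σ hσbij).symm.toLinearMap, ?_⟩
    rw [LinearEquiv.coe_coe, LinearEquiv.symm_apply_eq, LinearEquiv.ofBijective_apply, hσapp, one_smul]
  constructor
  · rw [injective_iff_map_eq_zero]
    intro a ha
    have h1 : PhiQ hε (a ⊗ₜ (1 : (Cor R hε)ᵐᵒᵖ)) = 0 := by
      rw [PhiQ, Algebra.TensorProduct.lift_tmul, map_one, mul_one]; exact ha
    have h2 : a ⊗ₜ[R] (1 : (Cor R hε)ᵐᵒᵖ) = 0 := (PhiQ_bijective hε).1 (by rw [h1, map_zero])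
    have h3 : (TensorProduct.rid R D) (LinearMap.lTensor D
        (τ ∘ₗ (opLinearEquiv R).symm.toLinearMap) (a ⊗ₜ[R] (1 : (Cor R hε)ᵐᵒᵖ))) = a := by
      rw [LinearMap.lTensor_tmul, TensorProduct.rid_tmul, LinearMap.comp_apply]
      simp [hτ]
    rw [← h3, h2, map_zero, map_zero]
  · intro φ
    obtain ⟨t, rfl⟩ := (PhiQ_bijective hε).2 φ
    induction t using TensorProduct.induction_on with
    | zero => exact ⟨0, by simp⟩
    | tmul a b =>
      obtain ⟨c, hc⟩ := hcor b.unop
      refine ⟨c • a, ?_⟩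
      have hb : b = c • (1 : (Cor R hε)ᵐᵒᵖ) := by
        apply MulOpposite.unop_injective
        rw [hc]; simp
      have hRB : RB hε (c • (1 : (Cor R hε)ᵐᵒᵖ)) = c • 1 := by rw [map_smul, map_one]
      rw [PhiQ, Algebra.TensorProduct.lift_tmul, hb, hRB, mul_smul_comm, mul_one, map_smul]
    | add t₁ t₂ h₁ h₂ =>
      obtain ⟨a₁, h₁⟩ := h₁
      obtain ⟨a₂, h₂⟩ := h₂
      exact ⟨a₁ + a₂, by rw [map_add, map_add, h₁, h₂]⟩

/-- The conclusion as an algebra isomorphism with an endomorphism algebra. -/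
theorem exists_algEquiv_end (ρ : D →ₐ[R] Module.End (ResidueField R) V)
    (hs : Function.Surjective ρ)
    (hker : ∀ d, ρ d = 0 → d ∈ (maximalIdeal R • ⊤ : Submodule R D)) :
    ∃ (Q : Type v) (_ : AddCommGroup Q) (_ : Module R Q), Module.Finite R Q ∧
      Module.Projective R Q ∧ FaithfulSMul R Q ∧ Nonempty (D ≃ₐ[R] Module.End R Q) := by
  obtain ⟨ε, hε, hεne, hbij⟩ := exists_idempotent_LA_bijective ρ hs hker
  have hfinQ := finite_lidS (R := R) hε
  have hprojQ := projective_lidS (R := R) hε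
  have hfreeQ : Module.Free R (lidS R ε) := Module.free_of_flat_of_isLocalRing
  have hntQ : Nontrivial (lidS R ε) :=
    ⟨⟨⟨ε, hε.eq⟩, 0, fun h => hεne (congrArg Subtype.val h)⟩⟩
  exact ⟨lidS R ε, inferInstance, inferInstance, hfinQ, hprojQ, inferInstance,
    ⟨AlgEquiv.ofBijective (LA hε) hbij⟩⟩

end Split

/-- the opposite of an Azumaya algebra is Azumaya -/
theorem isAzumaya_op (R : Type u) [CommRing R] (B : Type v) [Ring B] [Algebra R B]
    [IsAzumaya R B] : IsAzumaya R Bᵐᵒᵖ := by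
  have hproj : Module.Projective R Bᵐᵒᵖ :=
    Module.Projective.of_equiv (opLinearEquiv R : B ≃ₗ[R] Bᵐᵒᵖ)
  have hfin : Module.Finite R Bᵐᵒᵖ := Module.Finite.equiv (opLinearEquiv R : B ≃ₗ[R] Bᵐᵒᵖ)
  have hfaith : FaithfulSMul R Bᵐᵒᵖ := ⟨fun {r s} h =>
    FaithfulSMul.eq_of_smul_eq_smul (α := B) (fun b => by
      have := h (op b)
      exact op_injective (by simpa using this))⟩
  refine { toProjective := hproj, toFaithfulSMul := hfaith, toFinite := hfin, bij := ?_ }
  let Θ : Bᵐᵒᵖ ⊗[R] Bᵐᵒᵖᵐᵒᵖ ≃ₗ[R] B ⊗[R] Bᵐᵒᵖ :=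
    (TensorProduct.congr (LinearEquiv.refl R Bᵐᵒᵖ)
      ((opLinearEquiv R).symm ≪≫ₗ (opLinearEquiv R).symm)) ≪≫ₗ TensorProduct.comm R Bᵐᵒᵖ B
  let Ψ : Module.End R B ≃ₗ[R] Module.End R Bᵐᵒᵖ := (opLinearEquiv R : B ≃ₗ[R] Bᵐᵒᵖ).conj
  have key : ∀ t, AlgHom.mulLeftRight R Bᵐᵒᵖ t = Ψ (AlgHom.mulLeftRight R B (Θ t)) := by
    intro t
    induction t using TensorProduct.induction_on with
    | zero => simp
    | tmul a c =>
      ext x
      simp [Θ, Ψ, LinearEquiv.conj_apply, mul_assoc]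
    | add t₁ t₂ h₁ h₂ => rw [map_add, map_add, map_add, map_add, h₁, h₂]
  have hfun : ⇑(AlgHom.mulLeftRight R Bᵐᵒᵖ) = Ψ ∘ (AlgHom.mulLeftRight R B) ∘ Θ := funext key
  rw [hfun]
  exact Ψ.bijective.comp ((IsAzumaya.bij (R := R) (A := B)).comp Θ.bijective)

end Groth.Agent.Lib.Helper98.AzuHensel
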