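import Groth.Agent.Lib.Helper98.AzuLG

/-!
# Equivalence of idempotents in an Azumaya algebra over an LG-ring
-/

namespace Groth.Agent.Lib.Helper98.AzuIdem

open Module

universe u v

section Lid

variable {Λ : Type v} [Ring Λ] (ε : Λ)

/-- the left ideal `Λ ε` -/
def Lid : Submodule Λ Λ := LinearMap.range (LinearMap.toSpanSingleton Λ Λ ε)

variable {ε} (hε : ε * ε = ε)
include hε

lemma mem_Lid {z : Λ} : z ∈ Lid ε ↔ z * ε = z := by
  constructor
  · rintro ⟨w, rfl⟩
    simp [LinearMap.toSpanSingleton_apply, mul_assoc, hε]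
  · intro h
    exact ⟨z, by simpa [LinearMap.toSpanSingleton_apply] using h⟩

lemma mul_mem_Lid (x : Λ) : x * ε ∈ Lid ε := by
  rw [mem_Lid hε, mul_assoc, hε]

/-- projection `Λ → Λ ε` -/
def projL : Λ →ₗ[Λ] Lid ε where
  toFun x := ⟨x * ε, mul_mem_Lid hε x⟩
  map_add' x y := by ext; simp [add_mul]
  map_smul' a x := by ext; simp [mul_assoc]

lemma projL_comp_subtype : projL hε ∘ₗ (Lid ε).subtype = LinearMap.id := by
  ext z
  simp [projL, (mem_Lid hε).mp z.2]

lemma projective_Lid : Module.Projective Λ (Lid ε) :=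
  Module.Projective.of_split (Lid ε).subtype (projL hε) (projL_comp_subtype hε)

lemma finite_Lid : Module.Finite Λ (Lid ε) :=
  Module.Finite.of_surjective (projL hε) (fun z => ⟨z.1, by
    ext; simp [projL, (mem_Lid hε).mp z.2]⟩)

end Lid

section Equiv

variable {R : Type u} [CommRing R] {Λ : Type v} [Ring Λ] [Algebra R Λ] [IsAzumaya R Λ]

/-- Idempotents whose left ideals have the same rank are equivalent. -/
theorem exists_equiv_idem (hR : LGRing.IsLGRing R) {ε ε' : Λ} (hε : ε * ε = ε) (hε' : ε' * ε' = ε')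
    (hrank : ∀ (m : Ideal R) [hm : m.IsMaximal],
      rankAtStalk (Lid ε) ⟨m, hm.isPrime⟩ = rankAtStalk (Lid ε') ⟨m, hm.isPrime⟩) :
    ∃ x y : Λ, x * y = ε ∧ y * x = ε' ∧ ε * x = x ∧ x * ε' = x ∧ ε' * y = y ∧ y * ε = y := by
  have := projective_Lid hε
  have := projective_Lid hε'
  have := finite_Lid hε
  have := finite_Lid hε'
  obtain ⟨θ⟩ := AzuLG.nonempty_linearEquiv_of_rankAtStalk_eq (Λ := Λ) (P := Lid ε) (Q := Lid ε')
    hR hrank
  let pa : Lid ε := ⟨ε, (mem_Lid hε).mpr hε⟩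
  let pa' : Lid ε' := ⟨ε', (mem_Lid hε').mpr hε'⟩
  set x : Λ := (θ pa).1 with hx
  set y : Λ := (θ.symm pa').1 with hy
  have hxa' : x * ε' = x := (mem_Lid hε').mp (θ pa).2
  have hya : y * ε = y := (mem_Lid hε).mp (θ.symm pa').2
  have h1 : ∀ z : Lid ε, (θ z).1 = z.1 * x := by
    intro z
    have : z = z.1 • pa := by
      ext; show z.1 = z.1 * ε; exact ((mem_Lid hε).mp z.2).symm
    conv_lhs => rw [this, map_smul]
    rfl
  have h2 : ∀ w : Lid ε', (θ.symm w).1 = w.1 * y := by
    intro w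
    have : w = w.1 • pa' := by
      ext; show w.1 = w.1 * ε'; exact ((mem_Lid hε').mp w.2).symm
    conv_lhs => rw [this, map_smul]
    rfl
  have hxy : x * y = ε := by
    have := h2 (θ pa)
    rw [θ.symm_apply_apply] at this
    exact this.symm
  have hyx : y * x = ε' := by
    have := h1 (θ.symm pa')
    rw [θ.apply_symm_apply] at this
    exact this.symm
  have hax : ε * x = x := (h1 pa).symm
  have hay : ε' * y = y := (h2 pa').symm
  exact ⟨x, y, hxy, hyx, hax, hxa', hay, hya⟩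

end Equiv

end Groth.Agent.Lib.Helper98.AzuIdem
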