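import Groth.Agent.Lib.Helper98.LGAlg
import Groth.Agent.Lib.Helper98.AzuField
import Groth.Agent.Lib.Helper46.Azumaya

/-!
# Modules over Azumaya algebras over LG-rings
-/

namespace Groth.Agent.Lib.Helper98.AzuLG

open TensorProduct Module

universe u v w

variable {R : Type u} [CommRing R] {Λ : Type v} [Ring Λ] [Algebra R Λ]

section RightModule

variable (K : Type u) [CommRing K] [Algebra R K] (P : Type w) [AddCommGroup P] [Module R P]
  [Module Λ P] [IsScalarTower R Λ P]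

/-- `Λ` acts on `K ⊗[R] P` through the right factor. -/
noncomputable def rho : Λ →ₐ[R] Module.End K (K ⊗[R] P) :=
  (Module.End.baseChangeHom R K P).comp (Algebra.lsmul R R P)

lemma rho_tmul (a : Λ) (c : K) (x : P) :
    rho (R := R) K P a (c ⊗ₜ[R] x) = c ⊗ₜ[R] (a • x) := by
  show (LinearMap.baseChange K (Algebra.lsmul R R P a)) (c ⊗ₜ x) = _
  rw [LinearMap.baseChange_tmul]; rfl

/-- the right-factor module structure -/
@[reducible] noncomputable def rightModule : Module Λ (K ⊗[R] P) :=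
  Module.compHom _ (rho (R := R) (Λ := Λ) K P).toRingHom

attribute [local instance low] rightModule

lemma smul_eq_rho (a : Λ) (t : K ⊗[R] P) : a • t = rho (R := R) K P a t := rfl

lemma smul_tmul_right (a : Λ) (c : K) (x : P) : a • (c ⊗ₜ[R] x) = c ⊗ₜ[R] (a • x) :=
  rho_tmul K P a c x

instance : SMulCommClass K Λ (K ⊗[R] P) where
  smul_comm c a t := by
    rw [smul_eq_rho, smul_eq_rho, map_smul]

instance : IsScalarTower R Λ (K ⊗[R] P) where
  smul_assoc r a t := by
    rw [smul_eq_rho, smul_eq_rho, map_smul]; rfl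

end RightModule


section Bar

attribute [local instance low] rightModule

variable (K : Type u) [Field K] [Algebra R K] (P : Type w) [AddCommGroup P] [Module R P]
  [Module Λ P] [IsScalarTower R Λ P]

/-- module structure over the base-changed algebra -/
@[reducible] noncomputable def barModule : Module (K ⊗[R] Λ) (K ⊗[R] P) :=
  TensorProduct.Algebra.module (R := R) (A := K) (B := Λ) (M := K ⊗[R] P)

attribute [local instance] barModule

lemma bar_smul_def (c : K) (a : Λ) (t : K ⊗[R] P) :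
    ((c ⊗ₜ[R] a : K ⊗[R] Λ) • t) = c • a • t :=
  TensorProduct.Algebra.smul_def (R := R) (A := K) (B := Λ) (M := K ⊗[R] P) c a t

instance isScalarTower_bar : IsScalarTower K (K ⊗[R] Λ) (K ⊗[R] P) where
  smul_assoc c l t := by
    induction l using TensorProduct.induction_on with
    | zero => simp
    | tmul c' a =>
      rw [TensorProduct.smul_tmul', bar_smul_def, bar_smul_def, smul_eq_mul, mul_smul]
    | add x y hx hy => rw [smul_add, add_smul, add_smul, hx, hy, smul_add]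

lemma one_tmul_smul (a : Λ) (t : K ⊗[R] P) : ((1 : K) ⊗ₜ[R] a : K ⊗[R] Λ) • t = a • t := by
  rw [bar_smul_def, one_smul]

variable {K P}
variable {Q : Type w} [AddCommGroup Q] [Module R Q] [Module Λ Q] [IsScalarTower R Λ Q]

/-- a `K ⊗ Λ`-linear map is `Λ`-linear -/
noncomputable def toΛ (θ : (K ⊗[R] P) →ₗ[K ⊗[R] Λ] (K ⊗[R] Q)) : (K ⊗[R] P) →ₗ[Λ] (K ⊗[R] Q) where
  toFun := θ
  map_add' := θ.map_add
  map_smul' a t := by
    rw [RingHom.id_apply, ← one_tmul_smul K P a t, θ.map_smul, one_tmul_smul]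

@[simp] lemma toΛ_apply (θ : (K ⊗[R] P) →ₗ[K ⊗[R] Λ] (K ⊗[R] Q)) (t : K ⊗[R] P) :
    toΛ θ t = θ t := rfl

variable (K P)

/-- `x ↦ 1 ⊗ x` as a `Λ`-linear map -/
noncomputable def tΛ : P →ₗ[Λ] (K ⊗[R] P) where
  toFun x := (1 : K) ⊗ₜ[R] x
  map_add' := TensorProduct.tmul_add _
  map_smul' a x := (smul_tmul_right K P a 1 x).symm

@[simp] lemma tΛ_apply (x : P) : tΛ (Λ := Λ) K P x = (1 : K) ⊗ₜ[R] x := rfl

end Bar

section Lifts

attribute [local instance low] rightModule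
attribute [local instance] barModule

variable [IsAzumaya R Λ] (m : Ideal R) [hm : m.IsMaximal]
  {P Q : Type w} [AddCommGroup P] [Module R P] [Module Λ P] [IsScalarTower R Λ P]
  [AddCommGroup Q] [Module R Q] [Module Λ Q] [IsScalarTower R Λ Q]
  [Module.Finite R P] [Module.Finite R Q] [Module.Projective R P] [Module.Projective R Q]
  [Module.Projective Λ P] [Module.Projective Λ Q]

theorem exists_lifts_of_le
    (h : rankAtStalk Q ⟨m, hm.isPrime⟩ ≤ rankAtStalk P ⟨m, hm.isPrime⟩) :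
    ∃ (α : P →ₗ[Λ] Q) (β : Q →ₗ[Λ] P), ∀ (ℓ : Q →ₗ[R] R) (n : Q), ℓ (α (β n)) - ℓ n ∈ m := by
  have := hm.isPrime
  rw [rankAtStalk_eq, rankAtStalk_eq] at h
  let K := m.ResidueField
  have hAz : IsAzumaya K (K ⊗[R] Λ) := Groth.Agent.Lib.Helper46.Azumaya.isAzumaya_baseChange R K Λ
  have hS : IsSimpleRing (K ⊗[R] Λ) := AzuField.isSimpleRing_of_isAzumaya K _
  have hF : FiniteDimensional K (K ⊗[R] Λ) := hAz.toFinite
  obtain ⟨αb, βb, hαβ⟩ := AzuField.exists_split_surjection (K := K) (L := K ⊗[R] Λ)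
    (P := K ⊗[R] P) (Q := K ⊗[R] Q) h
  obtain ⟨α, hα⟩ := Module.projective_lifting_property (tΛ (Λ := Λ) K Q)
    (toΛ αb ∘ₗ tΛ (Λ := Λ) K P) (LG.mk_one_surjective m Q)
  obtain ⟨β, hβ⟩ := Module.projective_lifting_property (tΛ (Λ := Λ) K P)
    (toΛ βb ∘ₗ tΛ (Λ := Λ) K Q) (LG.mk_one_surjective m P)
  have hα' : ∀ x, (1 : K) ⊗ₜ[R] (α x) = αb ((1 : K) ⊗ₜ[R] x) :=
    fun x => congrArg (fun φ : P →ₗ[Λ] K ⊗[R] Q => φ x) hα
  have hβ' : ∀ y, (1 : K) ⊗ₜ[R] (β y) = βb ((1 : K) ⊗ₜ[R] y) :=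
    fun y => congrArg (fun φ : Q →ₗ[Λ] K ⊗[R] P => φ y) hβ
  refine ⟨α, β, ?_⟩
  intro ℓ n
  rw [← map_sub]
  apply LG.form_mem_of_tmul_eq_zero m
  rw [TensorProduct.tmul_sub, hα', hβ']
  have := congrArg (fun φ : (K ⊗[R] Q) →ₗ[K ⊗[R] Λ] (K ⊗[R] Q) => φ ((1 : K) ⊗ₜ[R] n)) hαβ
  simp only [LinearMap.comp_apply, LinearMap.id_apply] at this
  rw [this, sub_self]

theorem exists_lifts_of_eq
    (h : rankAtStalk P ⟨m, hm.isPrime⟩ = rankAtStalk Q ⟨m, hm.isPrime⟩) :
    ∃ (α : P →ₗ[Λ] Q) (β : Q →ₗ[Λ] P),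
      (∀ (ℓ : Q →ₗ[R] R) (n : Q), ℓ (α (β n)) - ℓ n ∈ m) ∧
      (∀ (ℓ : P →ₗ[R] R) (n : P), ℓ (β (α n)) - ℓ n ∈ m) := by
  have := hm.isPrime
  rw [rankAtStalk_eq, rankAtStalk_eq] at h
  let K := m.ResidueField
  have hAz : IsAzumaya K (K ⊗[R] Λ) := Groth.Agent.Lib.Helper46.Azumaya.isAzumaya_baseChange R K Λ
  have hS : IsSimpleRing (K ⊗[R] Λ) := AzuField.isSimpleRing_of_isAzumaya K _
  have hF : FiniteDimensional K (K ⊗[R] Λ) := hAz.toFinite
  obtain ⟨e⟩ := AzuField.nonempty_linearEquiv_of_finrank_eq (K := K) (L := K ⊗[R] Λ)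
    (P := K ⊗[R] P) (Q := K ⊗[R] Q) h
  obtain ⟨α, hα⟩ := Module.projective_lifting_property (tΛ (Λ := Λ) K Q)
    (toΛ e.toLinearMap ∘ₗ tΛ (Λ := Λ) K P) (LG.mk_one_surjective m Q)
  obtain ⟨β, hβ⟩ := Module.projective_lifting_property (tΛ (Λ := Λ) K P)
    (toΛ e.symm.toLinearMap ∘ₗ tΛ (Λ := Λ) K Q) (LG.mk_one_surjective m P)
  have hα' : ∀ x, (1 : K) ⊗ₜ[R] (α x) = e ((1 : K) ⊗ₜ[R] x) :=
    fun x => congrArg (fun φ : P →ₗ[Λ] K ⊗[R] Q => φ x) hα
  have hβ' : ∀ y, (1 : K) ⊗ₜ[R] (β y) = e.symm ((1 : K) ⊗ₜ[R] y) :=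
    fun y => congrArg (fun φ : Q →ₗ[Λ] K ⊗[R] P => φ y) hβ
  refine ⟨α, β, ?_, ?_⟩
  · intro ℓ n
    rw [← map_sub]
    apply LG.form_mem_of_tmul_eq_zero m
    rw [TensorProduct.tmul_sub, hα', hβ', e.apply_symm_apply, sub_self]
  · intro ℓ n
    rw [← map_sub]
    apply LG.form_mem_of_tmul_eq_zero m
    rw [TensorProduct.tmul_sub, hβ', hα', e.symm_apply_apply, sub_self]

end Lifts


section Tower

variable (R Λ) (P : Type w) [AddCommGroup P] [Module R P] [Module Λ P] [IsScalarTower R Λ P]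

/-- projectivity descends along a projective algebra -/
theorem projective_of_tower [Module.Projective R Λ] [Module.Projective Λ P] :
    Module.Projective R P := by
  obtain ⟨s, hs⟩ := (Module.projective_def' (R := Λ) (P := P)).mp inferInstance
  classical
  have : Module.Projective R (P →₀ Λ) :=
    Module.Projective.of_equiv (finsuppLequivDFinsupp (ι := P) (M := Λ) R).symm
  exact Module.Projective.of_split (s.restrictScalars R)
    ((Finsupp.linearCombination Λ id).restrictScalars R) (by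
      ext x
      exact congrArg (fun φ : P →ₗ[Λ] P => φ x) hs)

end Tower

section Main

variable [IsAzumaya R Λ]
  {P Q : Type w} [AddCommGroup P] [Module R P] [Module Λ P] [IsScalarTower R Λ P]
  [AddCommGroup Q] [Module R Q] [Module Λ Q] [IsScalarTower R Λ Q]
  [Module.Finite Λ P] [Module.Finite Λ Q] [Module.Projective Λ P] [Module.Projective Λ Q]

/-- Over an Azumaya algebra over an LG-ring, rank inequality gives a surjection. -/
theorem exists_surjective_of_rankAtStalk_le (hR : LGRing.IsLGRing R)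
    (h : ∀ (m : Ideal R) [hm : m.IsMaximal],
      rankAtStalk Q ⟨m, hm.isPrime⟩ ≤ rankAtStalk P ⟨m, hm.isPrime⟩) :
    ∃ f : P →ₗ[Λ] Q, Function.Surjective f := by
  have : Module.Finite R P := Module.Finite.trans Λ P
  have : Module.Finite R Q := Module.Finite.trans Λ Q
  have : Module.Projective R P := projective_of_tower R Λ P
  have : Module.Projective R Q := projective_of_tower R Λ Q
  have : Module.Finite R (P →ₗ[Λ] Q) := LG.finite_hom
  have : Module.Finite R (Q →ₗ[Λ] P) := LG.finite_hom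
  exact LG.exists_surjective_of_local hR fun m _ => exists_lifts_of_le m (h m)

/-- Over an Azumaya algebra over an LG-ring, f.g. projective modules of equal rank are
isomorphic. -/
theorem nonempty_linearEquiv_of_rankAtStalk_eq (hR : LGRing.IsLGRing R)
    (h : ∀ (m : Ideal R) [hm : m.IsMaximal],
      rankAtStalk P ⟨m, hm.isPrime⟩ = rankAtStalk Q ⟨m, hm.isPrime⟩) :
    Nonempty (P ≃ₗ[Λ] Q) := by
  have : Module.Finite R P := Module.Finite.trans Λ P
  have : Module.Finite R Q := Module.Finite.trans Λ Q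
  have : Module.Projective R P := projective_of_tower R Λ P
  have : Module.Projective R Q := projective_of_tower R Λ Q
  have : Module.Finite R (P →ₗ[Λ] Q) := LG.finite_hom
  have : Module.Finite R (Q →ₗ[Λ] P) := LG.finite_hom
  exact LG.nonempty_linearEquiv_of_local_alg hR fun m _ => exists_lifts_of_eq m (h m)

end Main

end Groth.Agent.Lib.Helper98.AzuLG
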