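import Mathlib

set_option autoImplicit false

namespace Groth.Agent.Lib.Helper98.ChainHull
open Finset

variable {n : ℕ}

/-- the chain sum `Σ_j (x_{c_{j+1}} - x_{c_j}) (r_{c_{j+1}} + r_{c_j})` -/
def chainSum (x r : Fin (n + 1) → ℝ) {μ : ℕ} (c : Fin (μ + 1) → Fin (n + 1)) : ℝ :=
  ∑ j : Fin μ, (x (c j.succ) - x (c j.castSucc)) * (r (c j.succ) + r (c j.castSucc))

lemma chainSum_cons (x r : Fin (n + 1) → ℝ) {μ : ℕ} (a : Fin (n + 1))
    (c : Fin (μ + 1) → Fin (n + 1)) :
    chainSum x r (Fin.cons a c : Fin (μ + 2) → Fin (n + 1)) =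
      (x (c 0) - x a) * (r (c 0) + r a) + chainSum x r c := by
  unfold chainSum
  rw [Fin.sum_univ_succ]
  rfl

lemma chainSum_tail (x r : Fin (n + 1) → ℝ) {μ : ℕ} (c : Fin (μ + 2) → Fin (n + 1)) :
    chainSum x r c =
      (x (c 1) - x (c 0)) * (r (c 1) + r (c 0)) + chainSum x r (fun j : Fin (μ + 1) => c j.succ) := by
  unfold chainSum
  rw [Fin.sum_univ_succ]
  rfl

lemma strictMono_cons {μ : ℕ} (a : Fin (n + 1)) (c : Fin (μ + 1) → Fin (n + 1))
    (hc : StrictMono c) (ha : a < c 0) :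
    StrictMono (Fin.cons a c : Fin (μ + 2) → Fin (n + 1)) := by
  rw [Fin.strictMono_iff_lt_succ]
  intro i
  refine Fin.cases ?_ (fun j => ?_) i
  · simpa using ha
  · rw [← Fin.succ_castSucc]
    simp only [Fin.cons_succ]
    exact hc (Fin.castSucc_lt_succ)

/-- monotonicity of the chain sum in `x`: if `δ ≥ 0` vanishes at the last index, the `δ`-chain sum of
any chain ending at the last index is at least `-2 δ(c 0) r(c 0)`. -/
theorem chainSum_delta_ge (δ r : Fin (n + 1) → ℝ) (hδ : ∀ i, 0 ≤ δ i) (hδl : δ (Fin.last n) = 0)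
    (hr : Antitone r) :
    ∀ (μ : ℕ) (c : Fin (μ + 1) → Fin (n + 1)), StrictMono c → c (Fin.last μ) = Fin.last n →
      -2 * δ (c 0) * r (c 0) ≤ chainSum δ r c := by
  intro μ
  induction μ with
  | zero =>
    intro c _ hl
    have h0 : c 0 = Fin.last n := by rw [← hl]; rfl
    simp [chainSum, h0, hδl]
  | succ μ ih =>
    intro c hc hl
    rw [chainSum_tail]
    have hc' : StrictMono (fun j : Fin (μ + 1) => c j.succ) := fun i j hij => hc (Fin.succ_lt_succ_iff.mpr hij)
    have hl' : (fun j : Fin (μ + 1) => c j.succ) (Fin.last μ) = Fin.last n := by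
      simpa using hl
    have h := ih _ hc' hl'
    have h01 : r (c 1) ≤ r (c 0) := hr (hc.monotone (Fin.zero_le _))
    have e1 : (Fin.succ 0 : Fin (μ + 1 + 1)) = 1 := rfl
    rw [e1] at h
    nlinarith [hδ (c 0), hδ (c 1), mul_nonneg (hδ (c 1)) (sub_nonneg.mpr h01),
      mul_nonneg (hδ (c 0)) (sub_nonneg.mpr h01)]

/-- Jarvis march: lower convex hull of the points `(x i, r i)`, `i ≥ a`, as a chain together with
its hinge decomposition `ρ(t) = r_last + Σ_k w_k (x_k - t)_+`. -/
theorem hull (x r : Fin (n + 1) → ℝ) (hx : StrictMono x) (hr : Antitone r) :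
    ∀ (N : ℕ) (a : Fin (n + 1)), n - a.val = N → ∀ (s : ℝ), s ≤ 0 →
      (∀ k, a < k → r a + s * (x k - x a) ≤ r k) →
      ∃ w : Fin (n + 1) → ℝ, (∀ k, 0 ≤ w k) ∧ (∀ k, k ≤ a → w k = 0) ∧ (∑ k, w k ≤ -s) ∧
        (r (Fin.last n) + ∑ k, w k * (x k - x a) = r a) ∧
        (∀ i, a ≤ i → r (Fin.last n) + ∑ k, w k * max (x k - x i) 0 ≤ r i) ∧
        ∃ (μ : ℕ) (c : Fin (μ + 1) → Fin (n + 1)), StrictMono c ∧ c 0 = a ∧
          c (Fin.last μ) = Fin.last n ∧
          chainSum x r c =
            2 * (x (Fin.last n) - x a) * r (Fin.last n) + ∑ k, w k * (x k - x a) ^ 2 := by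
  intro N
  induction N using Nat.strong_induction_on with
  | _ N ih =>
  intro a hN s hs habove
  rcases eq_or_lt_of_le (Fin.le_last a) with h | h
  · subst h
    refine ⟨fun _ => 0, fun _ => le_rfl, fun _ _ => rfl, by simpa using hs, by simp, ?_, ?_⟩
    · intro i hi
      have : i = Fin.last n := le_antisymm (Fin.le_last i) hi
      subst this
      simp
    · refine ⟨0, fun _ => Fin.last n, fun i j hij => by
          have h1 := i.isLt; have h2 := j.isLt; have h3 : i.val < j.val := hij; omega,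
        rfl, rfl, ?_⟩
      simp [chainSum]
  · obtain ⟨b, hbS, hbmin⟩ := Finset.exists_min_image (Finset.Ioi a)
      (fun k => (r k - r a) / (x k - x a)) ⟨Fin.last n, Finset.mem_Ioi.mpr h⟩
    have hab : a < b := Finset.mem_Ioi.mp hbS
    have Δpos : 0 < x b - x a := sub_pos.mpr (hx hab)
    obtain ⟨σ, hσdef⟩ : ∃ σ, σ = (r b - r a) / (x b - x a) := ⟨_, rfl⟩
    have hσΔ : σ * (x b - x a) = r b - r a := by rw [hσdef]; exact div_mul_cancel₀ _ Δpos.ne'
    have hσ0 : σ ≤ 0 := by
      rw [hσdef]; exact div_nonpos_of_nonpos_of_nonneg (sub_nonpos.mpr (hr hab.le)) Δpos.le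
    have hsσ : s ≤ σ := by
      rw [hσdef, le_div_iff₀ Δpos]; linarith [habove b hab]
    have hslope : ∀ k, a < k → σ * (x k - x a) ≤ r k - r a := by
      intro k hk
      have := hbmin k (Finset.mem_Ioi.mpr hk)
      rw [← hσdef, le_div_iff₀ (sub_pos.mpr (hx hk))] at this
      exact this
    have habove' : ∀ k, b < k → r b + σ * (x k - x b) ≤ r k := by
      intro k hk
      have := hslope k (hab.trans hk)
      linarith
    have hmeas : n - b.val < N := by
      have h1 : a.val < b.val := hab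
      have h2 : b.val ≤ n := b.is_le
      omega
    obtain ⟨w', hw0, hwsupp, hwsum, hρb, hρ', μ', c', hc'mono, hc'0, hc'last, hc'sum⟩ :=
      ih (n - b.val) hmeas b rfl σ hσ0 habove'
    obtain ⟨wb, hwbdef⟩ : ∃ wb, wb = -σ - ∑ k, w' k := ⟨_, rfl⟩
    have hwb0 : 0 ≤ wb := by rw [hwbdef]; linarith
    obtain ⟨A0, hA0⟩ : ∃ A0, A0 = ∑ k, w' k := ⟨_, rfl⟩
    obtain ⟨A1, hA1⟩ : ∃ A1, A1 = ∑ k, w' k * (x k - x b) := ⟨_, rfl⟩
    obtain ⟨A2, hA2⟩ : ∃ A2, A2 = ∑ k, w' k * (x k - x b) ^ 2 := ⟨_, rfl⟩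
    have hsumw : ∀ F : Fin (n + 1) → ℝ,
        ∑ k, (w' k + if k = b then wb else 0) * F k = ∑ k, w' k * F k + wb * F b := by
      intro F
      simp only [add_mul, Finset.sum_add_distrib, ite_mul, zero_mul, Finset.sum_ite_eq',
        Finset.mem_univ, if_true]
    have hlin : ∀ t : ℝ, ∑ k, w' k * (x k - t) = A1 + (x b - t) * A0 := by
      intro t
      rw [hA1, hA0, Finset.mul_sum, ← Finset.sum_add_distrib]
      exact Finset.sum_congr rfl (fun k _ => by ring)
    have hquad : ∑ k, w' k * (x k - x a) ^ 2 = A2 + 2 * (x b - x a) * A1 + (x b - x a) ^ 2 * A0 := by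
      rw [hA2, hA1, hA0, Finset.mul_sum, Finset.mul_sum, ← Finset.sum_add_distrib,
        ← Finset.sum_add_distrib]
      exact Finset.sum_congr rfl (fun k _ => by ring)
    rw [← hA1] at hρb
    rw [← hA0] at hwsum hwbdef
    rw [← hA2] at hc'sum
    refine ⟨fun k => w' k + if k = b then wb else 0, ?_, ?_, ?_, ?_, ?_, ?_⟩
    · intro k
      have := hw0 k
      show 0 ≤ w' k + if k = b then wb else 0
      split_ifs <;> linarith
    · intro k hk
      have hkb : k < b := lt_of_le_of_lt hk hab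
      show w' k + (if k = b then wb else 0) = 0
      rw [hwsupp k hkb.le, if_neg hkb.ne, add_zero]
    · have := hsumw (fun _ => 1)
      simp only [mul_one] at this
      rw [this, ← hA0, hwbdef]
      linarith
    · rw [hsumw, hlin (x a), hwbdef]
      linarith
    · intro i hi
      rw [hsumw]
      rcases le_or_gt b i with hbi | hib
      · have h1 : max (x b - x i) 0 = 0 := max_eq_right (sub_nonpos.mpr (hx.monotone hbi))
        rw [h1, mul_zero, add_zero]
        exact hρ' i hbi
      · have h1 : max (x b - x i) 0 = x b - x i := max_eq_left (sub_pos.mpr (hx hib)).le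
        have h2 : ∑ k, w' k * max (x k - x i) 0 = ∑ k, w' k * (x k - x i) := by
          apply Finset.sum_congr rfl
          intro k _
          rcases le_or_gt k b with hkb | hbk
          · rw [hwsupp k hkb, zero_mul, zero_mul]
          · rw [max_eq_left (sub_pos.mpr (hx (hib.trans hbk))).le]
        rw [h1, h2, hlin (x i), hwbdef]
        rcases eq_or_lt_of_le hi with hai | hai
        · subst hai
          linarith
        · have := hslope i hai
          nlinarith
    · refine ⟨μ' + 1, (Fin.cons a c' : Fin (μ' + 2) → Fin (n + 1)), ?_, ?_, ?_, ?_⟩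
      · exact strictMono_cons a c' hc'mono (by rw [hc'0]; exact hab)
      · simp
      · have : (Fin.last (μ' + 1)) = (Fin.last μ').succ := by simp
        rw [this, Fin.cons_succ, hc'last]
      · rw [chainSum_cons, hc'0, hc'sum, hsumw, hquad, hwbdef]
        nlinarith

end Groth.Agent.Lib.Helper98.ChainHull
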