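import Mathlib
import Groth.Agent.Lib.Helper98.ChainHull

set_option autoImplicit false
open Finset Groth.Agent.Lib.Helper98.ChainHull

namespace Groth.Agent.Lib.Helper98.ChainHullGIT

/-- the extremal exponent sequence -/
noncomputable def xs (m g : ℕ) (i : ℕ) : ℝ := if i ≤ m then (i : ℝ) else (i : ℝ) + g

lemma xs_le {m g i : ℕ} (h : i ≤ m) : xs m g i = i := if_pos h
lemma xs_gt {m g i : ℕ} (h : m < i) : xs m g i = (i : ℝ) + g := if_neg (not_le.mpr h)

lemma xs_strictMono (m g : ℕ) : StrictMono (xs m g) := by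
  intro i j hij
  have hij' : (i : ℝ) < j := by exact_mod_cast hij
  have hg0 : (0 : ℝ) ≤ g := by positivity
  unfold xs
  split_ifs with h1 h2 h2
  · exact hij'
  · linarith
  · omega
  · linarith

lemma prefix1 (m g : ℕ) : ∀ t : ℕ, t ≤ m + 1 → ∑ i ∈ range t, xs m g i = (t : ℝ) * ((t : ℝ) - 1) / 2 := by
  intro t
  induction t with
  | zero => intro _; simp
  | succ t ih =>
    intro ht
    rw [Finset.sum_range_succ, ih (by omega), xs_le (by omega)]
    push_cast
    ring

lemma prefix2 (m g : ℕ) : ∀ u : ℕ, ∑ i ∈ range (m + 1 + u), xs m g i =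
    ((m : ℝ) + 1 + u) * ((m : ℝ) + u) / 2 + (g : ℝ) * u := by
  intro u
  induction u with
  | zero =>
    rw [add_zero, prefix1 m g (m + 1) le_rfl]
    push_cast
    ring
  | succ u ih =>
    rw [← add_assoc, Finset.sum_range_succ, ih, xs_gt (by omega)]
    push_cast
    ring

lemma hinge_pos (n g : ℕ) (hg : 1 ≤ g) (hn : 2 * g ≤ n) (t : ℕ) (ht1 : 1 ≤ t) (htn : t ≤ n) :
    ((n : ℝ) + 1) * (xs (n - g) g t) ^ 2 <
      2 * ((n : ℝ) + g) * ∑ i ∈ range (n + 1), max (xs (n - g) g t - xs (n - g) g i) 0 := by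
  obtain ⟨m, hm⟩ : ∃ m, m = n - g := ⟨_, rfl⟩
  rw [← hm]
  have hmg : (m : ℝ) + g = n := by
    have : m + g = n := by omega
    exact_mod_cast this
  have hM : (t : ℝ) * xs m g t - ∑ i ∈ range t, xs m g i ≤
      ∑ i ∈ range (n + 1), max (xs m g t - xs m g i) 0 := by
    calc (t : ℝ) * xs m g t - ∑ i ∈ range t, xs m g i
        = ∑ i ∈ range t, (xs m g t - xs m g i) := by
          rw [Finset.sum_sub_distrib, Finset.sum_const, card_range, nsmul_eq_mul]
      _ ≤ ∑ i ∈ range t, max (xs m g t - xs m g i) 0 :=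
          Finset.sum_le_sum (fun i _ => le_max_left _ _)
      _ ≤ ∑ i ∈ range (n + 1), max (xs m g t - xs m g i) 0 :=
          Finset.sum_le_sum_of_subset_of_nonneg (Finset.range_subset_range.mpr (by omega))
            (fun i _ _ => le_max_right _ _)
  have hd : (0 : ℝ) < 2 * ((n : ℝ) + g) := by positivity
  refine lt_of_lt_of_le ?_ (mul_le_mul_of_nonneg_left hM hd.le)
  have hg1 : (1 : ℝ) ≤ g := by exact_mod_cast hg
  have hn2 : 2 * (g : ℝ) ≤ n := by exact_mod_cast hn
  rcases le_or_gt t m with htm | htm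
  · rw [xs_le htm, prefix1 m g t (by omega)]
    have ht1' : (1 : ℝ) ≤ t := by exact_mod_cast ht1
    have hpos : 0 < (t : ℝ) * (((g : ℝ) - 1) * t + n + g) := by
      apply mul_pos (by linarith)
      have : 0 ≤ ((g : ℝ) - 1) * t := mul_nonneg (by linarith) (by linarith)
      linarith
    nlinarith [hpos]
  · obtain ⟨u, hu⟩ : ∃ u, t = m + 1 + u := ⟨t - m - 1, by omega⟩
    have hug : u + 1 ≤ g := by omega
    rw [xs_gt htm, hu, prefix2]
    push_cast
    have hug' : (u : ℝ) + 1 ≤ g := by exact_mod_cast hug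
    have hu0 : (0 : ℝ) ≤ u := by positivity
    have key : 2 * ((n : ℝ) + g) * (((m : ℝ) + 1 + u) * ((m : ℝ) + 1 + u + g) -
        (((m : ℝ) + 1 + u) * ((m : ℝ) + u) / 2 + (g : ℝ) * u)) -
        ((n : ℝ) + 1) * ((m : ℝ) + 1 + u + g) ^ 2 =
        (g : ℝ) * (n + g) * (n - 2 * g + 1) +
          (g - (u + 1)) * (n + 2 * g ^ 2 - g - (g - 1) * ((u + 1) + g)) := by
      rw [← hmg]; ring
    have p1 : 0 < (g : ℝ) * (n + g) * (n - 2 * g + 1) := by
      apply mul_pos (mul_pos (by linarith) (by linarith)) (by linarith)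
    have p2 : 0 ≤ ((g : ℝ) - (u + 1)) * (n + 2 * g ^ 2 - g - (g - 1) * ((u + 1) + g)) := by
      apply mul_nonneg (by linarith)
      nlinarith [mul_nonneg (show (0 : ℝ) ≤ g - 1 by linarith) (show (0 : ℝ) ≤ g - (u + 1) by linarith)]
    linarith [key, p1, p2]

end Groth.Agent.Lib.Helper98.ChainHullGIT
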