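import Groth.Agent.Lib.Helper98.CornerRing
set_option autoImplicit false
open scoped TensorProduct
open MulOpposite

/-! The corner `eAe` of an Azumaya algebra satisfies the sandwich isomorphism. -/

namespace Groth.Agent.Lib.Helper98.CornerRing
universe u v
variable {R : Type u} [CommRing R] {A : Type v} [Ring A] [Algebra R A] [IsAzumaya R A]
  {e : A} (he : IsIdempotentElem e)

/-- the sandwich isomorphism of an Azumaya algebra -/
noncomputable def sand (R : Type u) [CommRing R] (A : Type v) [Ring A] [Algebra R A]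
    [IsAzumaya R A] : (A ⊗[R] Aᵐᵒᵖ) ≃ₐ[R] Module.End R A :=
  AlgEquiv.ofBijective (AlgHom.mulLeftRight R A) IsAzumaya.bij

theorem sand_tmul (a : A) (b : Aᵐᵒᵖ) (x : A) : sand R A (a ⊗ₜ b) x = a * x * b.unop :=
  AlgHom.mulLeftRight_apply R A a b x

/-- `op ∘ proj ∘ unop` -/
def projOp : Aᵐᵒᵖ →ₗ[R] (Cor R he)ᵐᵒᵖ :=
  (opLinearEquiv R).toLinearMap ∘ₗ proj he ∘ₗ (opLinearEquiv R).symm.toLinearMap

@[simp] theorem projOp_apply (b : Aᵐᵒᵖ) : projOp (R := R) he b = op (proj he b.unop) := rfl

/-- extension of endomorphisms of `eAe` to `A` -/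
def extEnd : Module.End R (Cor R he) →ₗ[R] Module.End R A where
  toFun g := val he ∘ₗ g ∘ₗ proj he
  map_add' g h := by ext x; simp
  map_smul' r g := by ext x; simp

@[simp] theorem extEnd_apply (g : Module.End R (Cor R he)) (x : A) :
    extEnd he g x = val he (g (proj he x)) := rfl

theorem mulLeftRight_map (t : A ⊗[R] Aᵐᵒᵖ) :
    AlgHom.mulLeftRight R (Cor R he) (TensorProduct.map (proj he) (projOp he) t) =
      proj he ∘ₗ (sand R A t) ∘ₗ val he := by
  induction t using TensorProduct.induction_on with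
  | zero => simp
  | tmul a b =>
    ext x
    apply val_injective he
    simp only [TensorProduct.map_tmul, AlgHom.mulLeftRight_apply, projOp_apply, unop_op, val_mul,
      val_proj, LinearMap.comp_apply, sand_tmul]
    have h1 : ∀ y, e * (val he x * y) = val he x * y := fun y => by rw [← mul_assoc, left_mul]
    have h2 : ∀ y, val he x * (e * y) = val he x * y := fun y => by rw [← mul_assoc, mul_right]
    simp only [mul_assoc, h1, h2]
  | add t₁ t₂ h₁ h₂ =>
    rw [map_add, map_add, h₁, h₂, map_add, LinearMap.add_comp, LinearMap.comp_add]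

theorem extEnd_mulLeftRight (b₁ : Cor R he) (b₂ : (Cor R he)ᵐᵒᵖ) :
    extEnd he (AlgHom.mulLeftRight R (Cor R he) (b₁ ⊗ₜ b₂)) =
      sand R A (val he b₁ ⊗ₜ op (val he b₂.unop)) := by
  ext x
  simp only [extEnd_apply, AlgHom.mulLeftRight_apply, val_mul, val_proj, sand_tmul, unop_op]
  have h1 : val he b₁ * (e * x * e) = val he b₁ * x * e := by
    rw [← mul_assoc, ← mul_assoc, mul_right]
  rw [h1, mul_assoc, left_mul]

theorem mulLeftRight_bijective : Function.Bijective (AlgHom.mulLeftRight R (Cor R he)) := by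
  let Ψ : Module.End R (Cor R he) →ₗ[R] (Cor R he) ⊗[R] (Cor R he)ᵐᵒᵖ :=
    TensorProduct.map (proj he) (projOp he) ∘ₗ (sand R A).symm.toLinearMap ∘ₗ extEnd he
  have h1 : ∀ g, AlgHom.mulLeftRight R (Cor R he) (Ψ g) = g := by
    intro g
    simp only [Ψ, LinearMap.comp_apply, mulLeftRight_map]
    ext x
    apply val_injective he
    simp only [AlgEquiv.toLinearMap_apply, AlgEquiv.apply_symm_apply, LinearMap.comp_apply,
      extEnd_apply, proj_val]
  have h2 : Ψ ∘ₗ (AlgHom.mulLeftRight R (Cor R he)).toLinearMap = LinearMap.id := by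
    apply TensorProduct.ext'
    intro b₁ b₂
    simp only [Ψ, LinearMap.comp_apply, AlgHom.toLinearMap_apply, extEnd_mulLeftRight,
      AlgEquiv.toLinearMap_apply, AlgEquiv.symm_apply_apply, TensorProduct.map_tmul,
      projOp_apply, unop_op, proj_val, op_unop, LinearMap.id_apply]
  refine Function.bijective_iff_has_inverse.mpr ⟨Ψ, fun t => ?_, h1⟩
  exact LinearMap.congr_fun h2 t

end Groth.Agent.Lib.Helper98.CornerRing
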