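import Groth.Agent.Lib.Helper98.CornerLid
set_option autoImplicit false
open scoped TensorProduct
open MulOpposite

/-! Brauer equivalence `A ∼ eAe`, ranks of idempotents, and minimal idempotents over a
connected base. -/

namespace Groth.Agent.Lib.Helper98.CornerRing
universe u v

section Chain
variable {R : Type u} [CommRing R] {A : Type v} [Ring A] [Algebra R A] [IsAzumaya R A]
  {e : A} (he : IsIdempotentElem e)

theorem isAzumaya_cor [FaithfulSMul R (Cor R he)] : IsAzumaya R (Cor R he) :=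
  { bij := mulLeftRight_bijective he }

/-- Brauer equivalence of `A` and its corner `eAe`. -/
theorem nonempty_brauer_equiv [FaithfulSMul R (Cor R he)] :
    Nonempty (A ⊗[R] Module.End R (Cor R he) ≃ₐ[R] (Cor R he) ⊗[R] Module.End R (lidS R e)) := by
  have := isAzumaya_cor (R := R) he
  let B := Cor R he
  let e1 : A ⊗[R] Module.End R B ≃ₐ[R] A ⊗[R] (B ⊗[R] Bᵐᵒᵖ) :=
    Algebra.TensorProduct.congr AlgEquiv.refl (sand R B).symm
  let e2 : A ⊗[R] (B ⊗[R] Bᵐᵒᵖ) ≃ₐ[R] A ⊗[R] (Bᵐᵒᵖ ⊗[R] B) :=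
    Algebra.TensorProduct.congr AlgEquiv.refl (Algebra.TensorProduct.comm R B Bᵐᵒᵖ)
  let e3 : A ⊗[R] (Bᵐᵒᵖ ⊗[R] B) ≃ₐ[R] (A ⊗[R] Bᵐᵒᵖ) ⊗[R] B :=
    (Algebra.TensorProduct.assoc R R R A Bᵐᵒᵖ B).symm
  let e4 : (A ⊗[R] Bᵐᵒᵖ) ⊗[R] B ≃ₐ[R] Module.End R (lidS R e) ⊗[R] B :=
    Algebra.TensorProduct.congr (AlgEquiv.ofBijective (PhiQ he) (PhiQ_bijective he)) AlgEquiv.refl
  let e5 : Module.End R (lidS R e) ⊗[R] B ≃ₐ[R] B ⊗[R] Module.End R (lidS R e) :=
    Algebra.TensorProduct.comm R _ _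
  exact ⟨(((e1.trans e2).trans e3).trans e4).trans e5⟩

end Chain

section Rank
variable {R : Type u} [CommRing R] {A : Type v} [Ring A] [Algebra R A]

theorem sub_idem {e b : A} (he : IsIdempotentElem e) (hb : IsIdempotentElem b) (heb : e * b = b)
    (hbe : b * e = b) : IsIdempotentElem (e - b) := by
  show (e - b) * (e - b) = e - b
  rw [mul_sub, sub_mul, sub_mul, he.eq, heb, hbe, hb.eq, sub_self, sub_zero]

/-- `Ae ≃ Ab × A(e-b)` for an idempotent `b` of the corner `eAe` -/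
def lidSplit {e b : A} (he : IsIdempotentElem e) (hb : IsIdempotentElem b) (heb : e * b = b)
    (hbe : b * e = b) : lidS R e ≃ₗ[R] lidS R b × lidS R (e - b) where
  toFun q := (⟨q.1 * b, by show q.1 * b * b = q.1 * b; rw [mul_assoc, hb.eq]⟩,
    ⟨q.1 * (e - b), by
      show q.1 * (e - b) * (e - b) = q.1 * (e - b)
      rw [mul_assoc, (sub_idem he hb heb hbe).eq]⟩)
  map_add' q q' := by ext <;> simp [add_mul]
  map_smul' r q := by ext <;> simp
  invFun yz := ⟨yz.1.1 + yz.2.1, by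
    show (yz.1.1 + yz.2.1) * e = yz.1.1 + yz.2.1
    have h1 : yz.1.1 * e = yz.1.1 := by
      rw [← lid_mul yz.1, mul_assoc, hbe]
    have h2 : yz.2.1 * e = yz.2.1 := by
      rw [← lid_mul yz.2, mul_assoc, sub_mul, he.eq, hbe]
    rw [add_mul, h1, h2]⟩
  left_inv q := by
    apply Subtype.ext
    show q.1 * b + q.1 * (e - b) = q.1
    rw [← mul_add, add_sub_cancel, lid_mul]
  right_inv yz := by
    have h1 : yz.2.1 * b = 0 := by
      rw [← lid_mul yz.2, mul_assoc, sub_mul, heb, hb.eq, sub_self, mul_zero]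
    have h2 : yz.1.1 * (e - b) = 0 := by
      rw [← lid_mul yz.1, mul_assoc, mul_sub, hbe, hb.eq, sub_self, mul_zero]
    apply Prod.ext
    · apply Subtype.ext
      show (yz.1.1 + yz.2.1) * b = yz.1.1
      rw [add_mul, h1, add_zero, lid_mul]
    · apply Subtype.ext
      show (yz.1.1 + yz.2.1) * (e - b) = yz.2.1
      rw [add_mul, h2, zero_add, lid_mul]

end Rank

end Groth.Agent.Lib.Helper98.CornerRing
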