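import Groth.Agent.Lib.Helper98.CornerMin
set_option autoImplicit false
open scoped TensorProduct
open MulOpposite

/-! Over a connected base every Azumaya algebra is Brauer equivalent to one with only trivial
idempotents (the corner of a minimal idempotent). -/

namespace Groth.Agent.Lib.Helper98.CornerRing
universe u

theorem exists_trivial_idempotents {R : Type u} [CommRing R] [ConnectedSpace (PrimeSpectrum R)]
    (A : Type u) [Ring A] [Algebra R A] [IsAzumaya R A] :
    ∃ (B : Type u) (_ : Ring B) (_ : Algebra R B) (_ : IsAzumaya R B) (P Q : Type u)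
      (_ : AddCommGroup P) (_ : Module R P) (_ : AddCommGroup Q) (_ : Module R Q),
      (∀ b : B, IsIdempotentElem b → b = 0 ∨ b = 1) ∧ Module.Finite R P ∧ Module.Projective R P ∧
      FaithfulSMul R P ∧ Module.Finite R Q ∧ Module.Projective R Q ∧ FaithfulSMul R Q ∧
      Nonempty (A ⊗[R] Module.End R P ≃ₐ[R] B ⊗[R] Module.End R Q) := by
  classical
  obtain ⟨p₀⟩ : Nonempty (PrimeSpectrum R) := inferInstance
  have hRnt : Nontrivial R := PrimeSpectrum.nonempty_iff_nontrivial.mp ⟨p₀⟩
  have hAnt : Nontrivial A := by
    by_contra h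
    rw [not_nontrivial_iff_subsingleton] at h
    exact zero_ne_one (α := R)
      (FaithfulSMul.eq_of_smul_eq_smul (α := A) fun a => Subsingleton.elim _ _)
  -- a minimal nonzero idempotent
  have hex : ∃ n, ∃ e' : A, IsIdempotentElem e' ∧ e' ≠ 0 ∧ rk (R := R) e' p₀ = n :=
    ⟨_, 1, IsIdempotentElem.one, one_ne_zero, rfl⟩
  obtain ⟨e, he, hne, hn⟩ := Nat.find_spec hex
  have hmin : ∀ e' : A, IsIdempotentElem e' → e' ≠ 0 → rk (R := R) e p₀ ≤ rk (R := R) e' p₀ :=
    fun e' he' hne' => hn ▸ Nat.find_min' hex ⟨e', he', hne', rfl⟩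
  have hpos := rk_pos (R := R) he hne
  have hfinQ := finite_lidS (R := R) he
  have hprojQ := projective_lidS (R := R) he
  have hfaithQ : FaithfulSMul R (lidS R e) := faithfulSMul_of_rankAtStalk_pos _ hpos
  have hfaithB : FaithfulSMul R (Cor R he) := by
    refine ⟨fun {r₁ r₂} hr => ?_⟩
    apply FaithfulSMul.eq_of_smul_eq_smul (α := lidS R e)
    intro q
    apply Subtype.ext
    have h1 := congrArg (val he) (hr 1)
    simp only [map_smul, val_one] at h1
    show r₁ • q.1 = r₂ • q.1
    rw [← lid_mul q, ← mul_smul_comm, h1, mul_smul_comm]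
  have hAzB := isAzumaya_cor (R := R) he
  refine ⟨Cor R he, inferInstance, inferInstance, hAzB, Cor R he, lidS R e, inferInstance,
    inferInstance, inferInstance, inferInstance, ?_, inferInstance, inferInstance, hfaithB,
    hfinQ, hprojQ, hfaithQ, nonempty_brauer_equiv he⟩
  -- idempotents of the corner
  intro b hb
  have hb' : IsIdempotentElem (val he b) := by
    show val he b * val he b = val he b
    rw [← val_mul, hb.eq]
  have heb := left_mul he b
  have hbe := mul_right he b
  by_cases h0 : val he b = 0
  · left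
    exact val_injective he (by rw [h0, map_zero])
  by_cases h1 : e - val he b = 0
  · right
    exact val_injective he (by rw [val_one]; exact (sub_eq_zero.mp h1).symm)
  exfalso
  have hadd := rk_add (R := R) he hb' heb hbe p₀
  have h2 := hmin _ hb' h0
  have h3 := hmin _ (sub_idem he hb' heb hbe) h1
  have := hpos p₀
  omega

end Groth.Agent.Lib.Helper98.CornerRing
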