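import Groth.Agent.Lib.Helper98.CornerBrauer
set_option autoImplicit false
open scoped TensorProduct
open MulOpposite

/-! Minimal idempotents of a finite projective algebra over a connected ring. -/

namespace Groth.Agent.Lib.Helper98.CornerRing
universe u v

/-- finite projective modules of everywhere positive rank are faithful -/
theorem faithfulSMul_of_rankAtStalk_pos {R : Type u} [CommRing R] (M : Type v) [AddCommGroup M]
    [Module R M] [Module.Finite R M] [Module.Projective R M]
    (h : ∀ p : PrimeSpectrum R, 0 < Module.rankAtStalk (R := R) M p) : FaithfulSMul R M := by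
  refine ⟨fun {r₁ r₂} hr => ?_⟩
  by_contra hne
  set r := r₁ - r₂ with hrdef
  have hr0 : ∀ x : M, r • x = 0 := fun x => by rw [hrdef, sub_smul, hr x, sub_self]
  have hr_ne : r ≠ 0 := sub_ne_zero.mpr hne
  let I : Ideal R := LinearMap.ker (LinearMap.toSpanSingleton R R r)
  have hI : I ≠ ⊤ := by
    intro htop
    have h1 : (1 : R) ∈ I := htop ▸ Submodule.mem_top
    rw [LinearMap.mem_ker, LinearMap.toSpanSingleton_apply, one_smul] at h1
    exact hr_ne h1
  obtain ⟨m, hm, hIm⟩ := Ideal.exists_le_maximal I hI
  have hpos := h ⟨m, hm.isPrime⟩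
  rw [Module.rankAtStalk] at hpos
  have hfree : Module.Free (Localization.AtPrime m) (LocalizedModule m.primeCompl M) :=
    Module.free_of_flat_of_isLocalRing
  have hnt : Nontrivial (LocalizedModule m.primeCompl M) :=
    Module.nontrivial_of_finrank_pos (R := Localization.AtPrime m) hpos
  let b := Module.Free.chooseBasis (Localization.AtPrime m) (LocalizedModule m.primeCompl M)
  obtain ⟨i⟩ := b.index_nonempty
  have h0 : ∀ y : LocalizedModule m.primeCompl M, r • y = 0 := by
    intro y
    induction y using LocalizedModule.induction_on with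
    | h x s => rw [LocalizedModule.smul'_mk, hr0, LocalizedModule.zero_mk]
  have h1 : algebraMap R (Localization.AtPrime m) r = 0 := by
    have h2 : (algebraMap R (Localization.AtPrime m) r) • b i = 0 := by
      rw [algebraMap_smul]; exact h0 _
    have h3 := congrArg (fun y => b.repr y i) h2
    simp only [map_smul, Module.Basis.repr_self, Finsupp.smul_apply, Finsupp.single_eq_same,
      smul_eq_mul, mul_one, map_zero, Finsupp.zero_apply] at h3
    exact h3
  rw [IsLocalization.map_eq_zero_iff m.primeCompl] at h1
  obtain ⟨s, hs⟩ := h1
  apply s.2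
  apply hIm
  show s.1 ∈ LinearMap.ker (LinearMap.toSpanSingleton R R r)
  rw [LinearMap.mem_ker, LinearMap.toSpanSingleton_apply, smul_eq_mul]
  exact hs

section Rank
variable {R : Type u} [CommRing R] {A : Type v} [Ring A] [Algebra R A] [Module.Finite R A]
  [Module.Projective R A]

/-- rank of the left ideal `Ae` -/
noncomputable def rk (e : A) (p : PrimeSpectrum R) : ℕ := Module.rankAtStalk (R := R) (lidS R e) p

theorem rk_add {e b : A} (he : IsIdempotentElem e) (hb : IsIdempotentElem b) (heb : e * b = b)
    (hbe : b * e = b) (p : PrimeSpectrum R) : rk e p = rk b p + rk (e - b) p := by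
  have hc := sub_idem he hb heb hbe
  have := finite_lidS (R := R) hb
  have := projective_lidS (R := R) hb
  have := finite_lidS (R := R) hc
  have := projective_lidS (R := R) hc
  unfold rk
  rw [Module.rankAtStalk_eq_of_equiv (lidSplit (R := R) he hb heb hbe), Module.rankAtStalk_prod]
  rfl

theorem rk_pos [ConnectedSpace (PrimeSpectrum R)] {e : A} (he : IsIdempotentElem e) (hne : e ≠ 0)
    (p : PrimeSpectrum R) : 0 < rk e p := by
  have := finite_lidS (R := R) he
  have := projective_lidS (R := R) he
  have : Module.FinitePresentation R (lidS R e) := Module.finitePresentation_of_projective R _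
  rw [Nat.pos_iff_ne_zero]
  intro h0
  have hconst : Module.rankAtStalk (R := R) (lidS R e) = 0 := by
    ext q
    have := (Module.isLocallyConstant_rankAtStalk (R := R) (M := lidS R e)).apply_eq_of_preconnectedSpace q p
    rw [this]
    exact h0
  rw [Module.rankAtStalk_eq_zero_iff_subsingleton] at hconst
  have h1 : (⟨e, he.eq⟩ : lidS R e) = 0 := Subsingleton.elim _ _
  exact hne (congrArg Subtype.val h1)

end Rank

end Groth.Agent.Lib.Helper98.CornerRing
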