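import Mathlib
set_option autoImplicit false
open scoped TensorProduct
open MulOpposite

/-! The corner ring `eAe` of an idempotent in an `R`-algebra, as an `R`-algebra, and the left ideal
`Ae` as an `R`-module. -/

namespace Groth.Agent.Lib.Helper98.CornerRing
universe u v
variable (R : Type u) [CommRing R] {A : Type v} [Ring A] [Algebra R A]

/-- the underlying submodule of the corner `eAe` -/
def corS (e : A) : Submodule R A where
  carrier := {x | e * x = x ∧ x * e = x}
  add_mem' := by
    rintro a b ⟨h1, h2⟩ ⟨h3, h4⟩
    exact ⟨by rw [mul_add, h1, h3], by rw [add_mul, h2, h4]⟩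
  zero_mem' := ⟨mul_zero _, zero_mul _⟩
  smul_mem' := by
    rintro c x ⟨h1, h2⟩
    exact ⟨by rw [mul_smul_comm, h1], by rw [smul_mul_assoc, h2]⟩

/-- the corner ring `eAe` -/
def Cor {e : A} (_he : IsIdempotentElem e) : Type v := ↥(corS R e)

variable {R} {e : A} (he : IsIdempotentElem e)

instance : AddCommGroup (Cor R he) := inferInstanceAs (AddCommGroup ↥(corS R e))
instance : Module R (Cor R he) := inferInstanceAs (Module R ↥(corS R e))

/-- inclusion `eAe → A` -/
def val : Cor R he →ₗ[R] A := (corS R e).subtype

theorem val_injective : Function.Injective (val (R := R) he) := Subtype.val_injective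

theorem left_mul (x : Cor R he) : e * val he x = val he x := x.2.1
theorem mul_right (x : Cor R he) : val he x * e = val he x := x.2.2

instance : Mul (Cor R he) :=
  ⟨fun x y => ⟨val he x * val he y, by
    show e * (val he x * val he y) = _ ∧ _
    exact ⟨by rw [← mul_assoc, left_mul], by rw [mul_assoc, mul_right]⟩⟩⟩

instance : One (Cor R he) := ⟨⟨e, he.eq, he.eq⟩⟩

@[simp] theorem val_mul (x y : Cor R he) : val he (x * y) = val he x * val he y := rfl
@[simp] theorem val_one : val he (1 : Cor R he) = e := rfl

instance : Ring (Cor R he) :=
  { (inferInstance : AddCommGroup (Cor R he)) with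
    mul := (· * ·)
    one := 1
    mul_assoc := fun a b c => val_injective he (by simp only [val_mul, mul_assoc])
    one_mul := fun a => val_injective he (by rw [val_mul, val_one, left_mul])
    mul_one := fun a => val_injective he (by rw [val_mul, val_one, mul_right])
    left_distrib := fun a b c => val_injective he (by simp only [val_mul, map_add, mul_add])
    right_distrib := fun a b c => val_injective he (by simp only [val_mul, map_add, add_mul])
    zero_mul := fun a => val_injective he (by rw [val_mul, map_zero, zero_mul])
    mul_zero := fun a => val_injective he (by rw [val_mul, map_zero, mul_zero]) }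

noncomputable instance : Algebra R (Cor R he) :=
  Algebra.ofModule
    (fun r x y => val_injective he (by
      simp only [val_mul, map_smul, smul_mul_assoc]))
    (fun r x y => val_injective he (by
      simp only [val_mul, map_smul, mul_smul_comm]))

/-- the projection `A → eAe`, `x ↦ e x e` -/
def proj : A →ₗ[R] Cor R he where
  toFun x := ⟨e * x * e, by
    show e * (e * x * e) = _ ∧ _
    exact ⟨by rw [← mul_assoc, ← mul_assoc, he.eq], by rw [mul_assoc, he.eq]⟩⟩
  map_add' x y := val_injective he (by
    show e * (x + y) * e = e * x * e + e * y * e
    rw [mul_add, add_mul])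
  map_smul' r x := val_injective he (by
    show e * (r • x) * e = r • (e * x * e)
    rw [mul_smul_comm, smul_mul_assoc])

@[simp] theorem val_proj (x : A) : val he (proj (R := R) he x) = e * x * e := rfl

theorem proj_val (x : Cor R he) : proj he (val he x) = x :=
  val_injective he (by rw [val_proj, left_mul, mul_right])

theorem proj_comp_val : (proj (R := R) he) ∘ₗ (val he) = LinearMap.id :=
  LinearMap.ext (proj_val he)

instance [Module.Finite R A] : Module.Finite R (Cor R he) :=
  Module.Finite.of_surjective (proj he) fun x => ⟨val he x, proj_val he x⟩

instance [Module.Projective R A] : Module.Projective R (Cor R he) :=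
  Module.Projective.of_split (val he) (proj he) (proj_comp_val he)

end Groth.Agent.Lib.Helper98.CornerRing
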