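import Mathlib

set_option autoImplicit false
universe u

namespace Groth.Agent.Lib.Helper98.CrimpOrder
open PowerSeries

variable {k : Type u} [Field k]

/-- the order of a nonzero power series as a natural number -/
lemma exists_order_eq {a : k⟦X⟧} (ha : a ≠ 0) : ∃ o : ℕ, a.order = (o : ℕ∞) :=
  ⟨a.order.toNat, (coe_toNat_order ha).symm⟩

/-- key order computation: `A + B * (X^m g)` with `A, B` in `k⟦X^p⟧` cannot have order `c` when
`c` is neither `≡ 0` nor `≡ m` mod `p`. -/
lemma order_expand_add_ne (p : ℕ) (hp : p ≠ 0) (m c : ℕ) (hm : ¬ p ∣ m) (hc0 : ¬ p ∣ c)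
    (hcm : ∀ j : ℕ, c ≠ p * j + m) (a b g : k⟦X⟧) (hg : g.order = 0) :
    (expand p hp a + expand p hp b * (X ^ m * g)).order ≠ (c : ℕ∞) := by
  intro h
  have hB : (expand p hp b * (X ^ m * g)).order = p • b.order + m := by
    rw [order_mul, order_mul, order_expand, order_X_pow, hg, add_zero]
  have hA : (expand p hp a).order = p • a.order := order_expand p hp a
  by_cases ha : a = 0
  · by_cases hb : b = 0
    · subst ha hb
      simp at h
    · obtain ⟨ob, hob⟩ := exists_order_eq hb
      subst ha
      rw [map_zero, zero_add, hB, hob] at h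
      have : (p * ob + m : ℕ) = c := by
        have h' : ((p * ob + m : ℕ) : ℕ∞) = (c : ℕ∞) := by
          rw [← h]; push_cast; simp [nsmul_eq_mul]
        exact_mod_cast h'
      exact hcm ob this.symm
  · obtain ⟨oa, hoa⟩ := exists_order_eq ha
    by_cases hb : b = 0
    · subst hb
      rw [map_zero, zero_mul, add_zero, hA, hoa] at h
      have : (p * oa : ℕ) = c := by
        have h' : ((p * oa : ℕ) : ℕ∞) = (c : ℕ∞) := by
          rw [← h]; push_cast; simp [nsmul_eq_mul]
        exact_mod_cast h'
      exact hc0 ⟨oa, this.symm⟩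
    · obtain ⟨ob, hob⟩ := exists_order_eq hb
      have hA' : (expand p hp a).order = ((p * oa : ℕ) : ℕ∞) := by
        rw [hA, hoa]; push_cast; simp [nsmul_eq_mul]
      have hB' : (expand p hp b * (X ^ m * g)).order = ((p * ob + m : ℕ) : ℕ∞) := by
        rw [hB, hob]; push_cast; simp [nsmul_eq_mul]
      have hne : (expand p hp a).order ≠ (expand p hp b * (X ^ m * g)).order := by
        rw [hA', hB']
        intro heq
        have heq' : p * oa = p * ob + m := by exact_mod_cast heq
        apply hm
        have : m = p * oa - p * ob := by omega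
        rw [this]
        exact Nat.dvd_sub (Dvd.intro _ rfl) (Dvd.intro _ rfl)
      rw [order_add_of_order_ne _ _ hne, hA', hB'] at h
      rcases le_total ((p * oa : ℕ) : ℕ∞) ((p * ob + m : ℕ) : ℕ∞) with hle | hle
      · rw [inf_eq_left.mpr hle] at h
        have : p * oa = c := by exact_mod_cast h
        exact hc0 ⟨oa, this.symm⟩
      · rw [inf_eq_right.mpr hle] at h
        have : p * ob + m = c := by exact_mod_cast h
        exact hcm ob this.symm

/-- `X^c * u - X^n s` has order `c` when `u` has order `0` and `c < n`. -/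
lemma order_sub_eq (c n : ℕ) (hcn : c < n) (u s : k⟦X⟧) (hu : u.order = 0) :
    (X ^ c * u - X ^ n * s).order = (c : ℕ∞) := by
  have h1 : (X ^ c * u).order = (c : ℕ∞) := by rw [order_mul, order_X_pow, hu, add_zero]
  have h2 : (c : ℕ∞) < (-(X ^ n * s)).order := by
    rw [order_neg]
    have e1 : (c : ℕ∞) < (n : ℕ∞) := by exact_mod_cast hcn
    have e2 : (n : ℕ∞) ≤ (X ^ n : k⟦X⟧).order + s.order := by rw [order_X_pow]; exact le_self_add
    exact lt_of_lt_of_le e1 (e2.trans (le_order_mul _ _))
  rw [sub_eq_add_neg, order_add_of_order_ne _ _ (by rw [h1]; exact h2.ne), h1]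
  exact inf_eq_left.mpr h2.le

end Groth.Agent.Lib.Helper98.CrimpOrder
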