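import Mathlib
set_option autoImplicit false
open scoped TensorProduct

/-! If `N` is invertible and `N^n ≃ R^n` then `N^{⊗ n} ≃ R`, by explicit determinants
(no exterior powers). -/

namespace Groth.Agent.Lib.Helper98.DetTensor
universe u v
variable {R : Type u} [CommRing R] {N : Type v} [AddCommGroup N] [Module R N] {n : ℕ}

/-- `D(x) = det (ι (single i (x i)))_i` -/
noncomputable def D (ι : (Fin n → N) →ₗ[R] (Fin n → R)) :
    MultilinearMap R (fun _ : Fin n => N) R :=
  (Matrix.detRowAlternating (n := Fin n) (R := R)).toMultilinearMap.compLinearMap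
    (fun i => ι ∘ₗ LinearMap.single R (fun _ : Fin n => N) i)

theorem D_apply (ι : (Fin n → N) →ₗ[R] (Fin n → R)) (x : Fin n → N) :
    D ι x = Matrix.det (Matrix.of fun i j => ι (Pi.single i (x i)) j) := rfl

/-- `D'(μ) = det (μ i (κ e_j)_i)` -/
noncomputable def D' (κ : (Fin n → R) →ₗ[R] (Fin n → N)) :
    MultilinearMap R (fun _ : Fin n => Module.Dual R N) R :=
  (Matrix.detRowAlternating (n := Fin n) (R := R)).toMultilinearMap.compLinearMap
    (fun i => LinearMap.pi (fun j => LinearMap.applyₗ (κ (Pi.single j 1) i)))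

theorem D'_apply (κ : (Fin n → R) →ₗ[R] (Fin n → N)) (μ : Fin n → Module.Dual R N) :
    D' κ μ = Matrix.det (Matrix.of fun i j => μ i (κ (Pi.single j 1) i)) := rfl

theorem D'_mul_D (ι : (Fin n → N) ≃ₗ[R] (Fin n → R)) (μ : Fin n → Module.Dual R N)
    (x : Fin n → N) :
    D' ι.symm.toLinearMap μ * D ι.toLinearMap x = ∏ i, μ i (x i) := by
  classical
  rw [D'_apply, D_apply,
    ← Matrix.det_transpose (Matrix.of fun i j => ι.toLinearMap (Pi.single i (x i)) j),
    ← Matrix.det_mul]
  have h1 : ∀ v : Fin n → R, ι.symm v = ∑ j, v j • ι.symm (Pi.single j 1) := by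
    intro v
    have hv : v = ∑ j, v j • (Pi.single j (1:R) : Fin n → R) := by
      ext k; simp [Finset.sum_apply, Pi.single_apply]
    conv_lhs => rw [hv]
    simp only [map_sum, map_smul]
  have h2 : (Matrix.of fun i j => μ i (ι.symm.toLinearMap (Pi.single j 1) i)) *
      (Matrix.of fun i j => ι.toLinearMap (Pi.single i (x i)) j).transpose =
      Matrix.diagonal (fun i => μ i (x i)) := by
    ext i k
    rw [Matrix.mul_apply]
    simp only [Matrix.transpose_apply, Matrix.of_apply, LinearEquiv.coe_coe]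
    have h3 := congrFun (h1 (ι (Pi.single k (x k)))) i
    rw [LinearEquiv.symm_apply_apply, Finset.sum_apply] at h3
    simp only [Pi.smul_apply] at h3
    rw [Matrix.diagonal_apply]
    have h4 : μ i ((Pi.single k (x k) : Fin n → N) i) = if i = k then μ i (x i) else 0 := by
      by_cases hik : i = k
      · subst hik; simp
      · rw [Pi.single_apply, if_neg hik, if_neg hik, map_zero]
    rw [← h4, h3, map_sum]
    refine Finset.sum_congr rfl fun j _ => ?_
    rw [map_smul, smul_eq_mul, mul_comm]
  rw [h2, Matrix.det_diagonal]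

theorem smul_comm_of_invertible [Module.Invertible R N] (μ : Module.Dual R N) (x y : N) :
    μ y • x = μ x • y := by
  have h := congrArg ((TensorProduct.lid R N).toLinearMap ∘ₗ LinearMap.rTensor N μ)
    (Module.Invertible.tmul_comm (R := R) (m₁ := x) (m₂ := y))
  simp only [LinearMap.comp_apply, LinearMap.rTensor_tmul, LinearEquiv.coe_coe,
    TensorProduct.lid_tmul] at h
  exact h.symm

theorem exists_dualBasis_of_invertible (R : Type u) [CommRing R] (N : Type v) [AddCommGroup N]
    [Module R N] [Module.Invertible R N] :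
    ∃ (K : Type) (_ : Fintype K) (μ : K → Module.Dual R N) (xs : K → N),
      ∑ k, μ k (xs k) = 1 ∧ ∀ y, ∑ k, μ k y • xs k = y := by
  classical
  obtain ⟨t, ht⟩ := (Module.Invertible.bijective (R := R) (M := N)).2 1
  have key : ∀ t : Module.Dual R N ⊗[R] N, ∃ (K : Type) (_ : Fintype K)
      (μ : K → Module.Dual R N) (xs : K → N), contractLeft R N t = ∑ k, μ k (xs k) := by
    intro t
    induction t using TensorProduct.induction_on with
    | zero => exact ⟨Empty, inferInstance, fun e => e.elim, fun e => e.elim, by simp⟩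
    | tmul μ x => exact ⟨Unit, inferInstance, fun _ => μ, fun _ => x, by simp⟩
    | add t₁ t₂ h₁ h₂ =>
      obtain ⟨K₁, _, μ₁, x₁, e₁⟩ := h₁
      obtain ⟨K₂, _, μ₂, x₂, e₂⟩ := h₂
      exact ⟨K₁ ⊕ K₂, inferInstance, Sum.elim μ₁ μ₂, Sum.elim x₁ x₂, by
        simp [map_add, e₁, e₂]⟩
  obtain ⟨K, _, μ, xs, e⟩ := key t
  refine ⟨K, inferInstance, μ, xs, by rw [← e, ht], fun y => ?_⟩
  simp_rw [smul_comm_of_invertible (μ _) (xs _) y]
  rw [← Finset.sum_smul, ← e, ht, one_smul]

/-- **Determinant trick**: `N` invertible with `N^n ≃ R^n` has trivial `n`-th tensor power. -/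
theorem nonempty_piTensor_equiv [Module.Invertible R N]
    (ι : (Fin n → N) ≃ₗ[R] (Fin n → R)) :
    Nonempty ((⨂[R] _ : Fin n, N) ≃ₗ[R] R) := by
  classical
  obtain ⟨K, _, μ, xs, h1, hdb⟩ := exists_dualBasis_of_invertible R N
  let Dl : (⨂[R] _ : Fin n, N) →ₗ[R] R := PiTensorProduct.lift (D ι.toLinearMap)
  let w : ⨂[R] _ : Fin n, N := ∑ p : Fin n → K,
    D' ι.symm.toLinearMap (fun i => μ (p i)) • PiTensorProduct.tprod R (fun i => xs (p i))
  have hDw : Dl w = 1 := by
    simp only [w, map_sum, map_smul, Dl, PiTensorProduct.lift.tprod, smul_eq_mul, D'_mul_D]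
    have := Finset.prod_univ_sum (fun _ : Fin n => (Finset.univ : Finset K))
      (fun _ k => μ k (xs k))
    rw [Fintype.piFinset_univ] at this
    rw [← this]
    simp [h1]
  have hE : (LinearMap.toSpanSingleton R _ w) ∘ₗ Dl = LinearMap.id := by
    apply PiTensorProduct.ext
    ext y
    simp only [LinearMap.compMultilinearMap_apply, LinearMap.comp_apply, LinearMap.id_apply,
      LinearMap.toSpanSingleton_apply, Dl, PiTensorProduct.lift.tprod]
    calc D ι.toLinearMap y • w
        = ∑ p : Fin n → K, (∏ i, μ (p i) (y i)) • PiTensorProduct.tprod R (fun i => xs (p i)) := by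
          simp only [w, Finset.smul_sum, smul_smul]
          refine Finset.sum_congr rfl fun p _ => ?_
          rw [mul_comm, D'_mul_D]
      _ = ∑ p : Fin n → K, PiTensorProduct.tprod R (fun i => μ (p i) (y i) • xs (p i)) := by
          refine Finset.sum_congr rfl fun p _ => ?_
          rw [MultilinearMap.map_smul_univ]
      _ = PiTensorProduct.tprod R (fun i => ∑ k, μ k (y i) • xs k) :=
          (MultilinearMap.map_sum (PiTensorProduct.tprod R) (fun i k => μ k (y i) • xs k)).symm
      _ = PiTensorProduct.tprod R y := by simp_rw [hdb]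
  refine ⟨LinearEquiv.ofLinearMap Dl (LinearMap.toSpanSingleton R _ w) ?_ hE⟩
  ext
  simp [hDw]

end Groth.Agent.Lib.Helper98.DetTensor
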