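import Groth.Agent.Lib.Helper98.DetTensor
set_option autoImplicit false
open scoped TensorProduct

/-! `Pic.mk N ^ n` is the class of the `n`-th tensor power; with `DetTensor` this gives
`[N]^n = 1` whenever `N^n ≃ R^n`. -/

namespace Groth.Agent.Lib.Helper98.DetTensor
universe u v
variable (R : Type u) [CommRing R] (N : Type v) [AddCommGroup N] [Module R N]

/-- `N^{⊗ n} ⊗ N ≃ N^{⊗ (n+1)}` -/
noncomputable def succEquiv (n : ℕ) :
    (⨂[R] _ : Fin n, N) ⊗[R] N ≃ₗ[R] (⨂[R] _ : Fin (n + 1), N) :=
  TensorProduct.congr (LinearEquiv.refl R _)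
      (PiTensorProduct.subsingletonEquiv (R := R) (s := fun _ : Fin 1 => N) (0 : Fin 1)).symm ≪≫ₗ
    TensorPower.mulEquiv

theorem invertible_piTensor [Module.Invertible R N] (n : ℕ) :
    Module.Invertible R (⨂[R] _ : Fin n, N) := by
  induction n with
  | zero => exact Module.Invertible.congr (PiTensorProduct.isEmptyEquiv (Fin 0)).symm
  | succ n ih =>
    have := ih
    exact Module.Invertible.congr (succEquiv R N n)

theorem pic_mk_piTensor [Module.Invertible R N] (n : ℕ) :
    have := invertible_piTensor R N n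
    CommRing.Pic.mk R (⨂[R] _ : Fin n, N) = CommRing.Pic.mk R N ^ n := by
  induction n with
  | zero =>
    intro _
    rw [pow_zero, CommRing.Pic.mk_eq_one_iff]
    exact ⟨PiTensorProduct.isEmptyEquiv (Fin 0)⟩
  | succ n ih =>
    intro _
    have := invertible_piTensor R N n
    rw [pow_succ, ← ih, ← CommRing.Pic.mk_tensor, CommRing.Pic.mk_eq_mk_iff]
    exact ⟨(succEquiv R N n).symm⟩

theorem pic_mk_pow_eq_one [Module.Invertible R N] (n : ℕ)
    (ι : (Fin n → N) ≃ₗ[R] (Fin n → R)) : CommRing.Pic.mk R N ^ n = 1 := by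
  have := invertible_piTensor R N n
  rw [← pic_mk_piTensor R N n, CommRing.Pic.mk_eq_one_iff]
  exact nonempty_piTensor_equiv ι

end Groth.Agent.Lib.Helper98.DetTensor
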