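import Groth.Agent.Lib.Helper4.FlatDiag
import Groth.Agent.Lib.Helper10.WEBasic

/-!
# Morphisms with flat diagonal

* ring level: `DF A B` (the multiplication `B ⊗[A] B → B` is flat) is stable under composition and
  satisfies cancellation; localizations satisfy it.
* scheme level: if `pullback.diagonal f` is flat then `DF` holds for the maps on affine opens and for
  the stalk maps.
-/

set_option autoImplicit false
set_option linter.style.haveILetI false

universe u

open TensorProduct

namespace Groth.Agent.Lib.Helper98.DiagFlat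

section Ring

/-- The diagonal of `A → B` is flat. -/
def DF (A B : Type u) [CommRing A] [CommRing B] [Algebra A B] : Prop :=
  (Algebra.TensorProduct.lmul' (S := B) A).Flat

variable (A B C : Type u) [CommRing A] [CommRing B] [CommRing C]
  [Algebra A B] [Algebra A C] [Algebra B C] [IsScalarTower A B C]

set_option backward.isDefEq.respectTransparency false in
theorem DF.trans (h1 : DF A B) (h2 : DF B C) : DF A C := by
  have heq : Algebra.TensorProduct.lmul' (S := C) A =
      AlgHom.comp ((Algebra.TensorProduct.lmul' (S := C) B).restrictScalars A)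
        (Algebra.TensorProduct.mapOfCompatibleSMul B A A C C) := by
    ext <;> simp
  unfold DF
  rw [heq]
  refine RingHom.Flat.comp ?_ ?_
  · exact RingHom.Flat.mapOfCompatibleSMul C C h1
  · exact h2

theorem DF.cancel (h : DF A C) : DF B C := by
  let π : C ⊗[A] C →ₐ[A] C ⊗[B] C :=
    Algebra.TensorProduct.lift
      ((Algebra.TensorProduct.includeLeft (R := B) (S := B) (A := C) (B := C)).restrictScalars A)
      ((Algebra.TensorProduct.includeRight (R := B) (A := C) (B := C)).restrictScalars A)
      (fun _ _ => Commute.all _ _)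
  have hπ_tmul : ∀ c c' : C, π (c ⊗ₜ c') = c ⊗ₜ[B] c' := by
    intro c c'
    simp [π, Algebra.TensorProduct.tmul_mul_tmul]
  have hπ : Function.Surjective π.toRingHom := by
    intro x
    induction x using TensorProduct.induction_on with
    | zero => exact ⟨0, map_zero _⟩
    | tmul c c' => exact ⟨c ⊗ₜ c', hπ_tmul c c'⟩
    | add x y hx hy =>
      obtain ⟨x', rfl⟩ := hx
      obtain ⟨y', rfl⟩ := hy
      exact ⟨x' + y', map_add _ _ _⟩
  refine Groth.Agent.Lib.Helper4.FlatDiag.ringHomFlat_of_comp_surjective π.toRingHom hπ _ ?_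
  have hcomp : (Algebra.TensorProduct.lmul' B (S := C)).toRingHom.comp π.toRingHom =
      (Algebra.TensorProduct.lmul' A (S := C)).toRingHom := by
    have : ((Algebra.TensorProduct.lmul' B (S := C)).restrictScalars A).comp π =
        Algebra.TensorProduct.lmul' A (S := C) := by
      apply Algebra.TensorProduct.ext'
      intro c c'
      simp only [AlgHom.comp_apply, hπ_tmul, AlgHom.restrictScalars_apply,
        Algebra.TensorProduct.lmul'_apply_tmul]
    exact congrArg (fun φ : C ⊗[A] C →ₐ[A] C => φ.toRingHom) this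
  rw [hcomp]
  exact h

theorem DF.of_isLocalization (M : Submonoid A) [IsLocalization M B] : DF A B :=
  have := Groth.Agent.Lib.Helper10.WE.weaklyEtale_of_isLocalization (R := A) (S := B) M
  Algebra.WeaklyEtale.flat_lmul' A B

end Ring

section Sch

open AlgebraicGeometry CategoryTheory Limits

variable {P : MorphismProperty Scheme.{u}}

lemma of_comp_mono [P.IsStableUnderBaseChange] {X Y Z : Scheme.{u}} (f : X ⟶ Y) (ι : Y ⟶ Z)
    [Mono ι] (h : P (f ≫ ι)) : P f := by
  have h1 : IsPullback (𝟙 Y) (𝟙 Y) ι ι := IsKernelPair.id_of_mono ι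
  have h2 : IsPullback f (𝟙 X) (𝟙 Y) f := IsPullback.of_vert_isIso ⟨by simp⟩
  have h3 := (h2.paste_horiz h1).flip
  have := MorphismProperty.of_isPullback h3 h
  simpa using this

set_option backward.isDefEq.respectTransparency.types false in
theorem flat_diagonal_SpecMap_iff {R S : Type u} [CommRing R] [CommRing S] [Algebra R S] :
    Flat (pullback.diagonal (Spec.map (CommRingCat.ofHom (algebraMap R S)))) ↔ DF R S := by
  rw [diagonal_SpecMap R S,
    MorphismProperty.cancel_right_of_respectsIso (@Flat : MorphismProperty Scheme.{u}),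
    HasRingHomProperty.Spec_iff (P := @Flat)]
  rfl

set_option backward.isDefEq.respectTransparency.types false in
theorem df_appLE {X Y : Scheme.{u}} (f : X ⟶ Y) [hf : Flat (pullback.diagonal f)]
    (U : X.Opens) (V : Y.Opens) (hU : IsAffineOpen U) (hV : IsAffineOpen V) (hUV : U ≤ f ⁻¹ᵁ V) :
    letI := (f.appLE V U hUV).hom.toAlgebra
    DF Γ(Y, V) Γ(X, U) := by
  let _ := (f.appLE V U hUV).hom.toAlgebra
  have h0 : (MorphismProperty.diagonal @Flat : MorphismProperty Scheme.{u}) f := hf
  have h1 : (MorphismProperty.diagonal @Flat : MorphismProperty Scheme.{u}) (hU.fromSpec ≫ f) :=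
    IsZariskiLocalAtSource.comp h0 _
  rw [← hV.SpecMap_appLE_fromSpec f hU hUV] at h1
  have h2 : (MorphismProperty.diagonal @Flat : MorphismProperty Scheme.{u})
      (Spec.map (f.appLE V U hUV)) := of_comp_mono _ hV.fromSpec h1
  exact (flat_diagonal_SpecMap_iff (R := Γ(Y, V)) (S := Γ(X, U))).mp h2

/-- The stalk maps of a morphism with flat diagonal have flat diagonal. -/
theorem df_stalkMap {X Y : Scheme.{u}} (f : X ⟶ Y) [Flat (pullback.diagonal f)] (x : X) :
    letI := (f.stalkMap x).hom.toAlgebra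
    DF (Y.presheaf.stalk (f x)) (X.presheaf.stalk x) := by
  obtain ⟨_, ⟨V, hV, rfl⟩, hxV, -⟩ :=
    Y.isBasis_affineOpens.exists_subset_of_mem_open (Set.mem_univ (f.base x)) isOpen_univ
  obtain ⟨_, ⟨U, hU, rfl⟩, hxU, hUV⟩ :=
    X.isBasis_affineOpens.exists_subset_of_mem_open (show x ∈ (f ⁻¹ᵁ V : Set X) from hxV)
      (f ⁻¹ᵁ V).2
  have hUV' : U ≤ f ⁻¹ᵁ V := hUV
  let algAB : Algebra Γ(Y, V) Γ(X, U) := (f.appLE V U hUV').hom.toAlgebra
  let algAA' : Algebra Γ(Y, V) (Y.presheaf.stalk (f x)) :=
    Y.presheaf.algebra_section_stalk ⟨f x, hxV⟩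
  let algBB' : Algebra Γ(X, U) (X.presheaf.stalk x) := X.presheaf.algebra_section_stalk ⟨x, hxU⟩
  let algA'B' : Algebra (Y.presheaf.stalk (f x)) (X.presheaf.stalk x) :=
    (f.stalkMap x).hom.toAlgebra
  let algAB' : Algebra Γ(Y, V) (X.presheaf.stalk x) :=
    ((algebraMap Γ(X, U) (X.presheaf.stalk x)).comp (algebraMap Γ(Y, V) Γ(X, U))).toAlgebra
  have : IsScalarTower Γ(Y, V) Γ(X, U) (X.presheaf.stalk x) :=
    IsScalarTower.of_algebraMap_eq (fun _ => rfl)
  have : IsScalarTower Γ(Y, V) (Y.presheaf.stalk (f x)) (X.presheaf.stalk x) :=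
    IsScalarTower.of_algebraMap_eq (fun a => by
      show (X.presheaf.germ U x hxU).hom ((f.appLE V U hUV').hom a) =
        (f.stalkMap x).hom ((Y.presheaf.germ V (f x) hxV).hom a)
      rw [Scheme.Hom.germ_stalkMap_apply]
      simp only [Scheme.Hom.appLE, homOfLE_leOfHom, CommRingCat.hom_comp, RingHom.coe_comp,
        Function.comp_apply, X.presheaf.germ_res_apply])
  have hAB : DF Γ(Y, V) Γ(X, U) := df_appLE f U V hU hV hUV'
  have hlocB : IsLocalization.AtPrime (X.presheaf.stalk x) (hU.primeIdealOf ⟨x, hxU⟩).asIdeal :=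
    hU.isLocalization_stalk ⟨x, hxU⟩
  have hBB' : DF Γ(X, U) (X.presheaf.stalk x) :=
    DF.of_isLocalization _ _ (hU.primeIdealOf ⟨x, hxU⟩).asIdeal.primeCompl
  have hAB' : DF Γ(Y, V) (X.presheaf.stalk x) := DF.trans _ _ _ hAB hBB'
  exact DF.cancel Γ(Y, V) (Y.presheaf.stalk (f x)) (X.presheaf.stalk x) hAB'

end Sch

end Groth.Agent.Lib.Helper98.DiagFlat
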