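import Mathlib.RingTheory.Flat.EquationalCriterion
import Mathlib.RingTheory.Flat.Stability
import Mathlib.Algebra.DualNumber
import Mathlib.Tactic

/-!
# Flatness over square-zero extensions `A[ε]`

`flat_of_sqZero_criterion`: the "local criterion of flatness" for `B = A + εA`, `ε² = 0`, proved by
hand through the equational criterion.
-/

set_option autoImplicit false

namespace Groth.Agent.Lib.Helper98.DualFlat

open TensorProduct

section Aux

variable {A N : Type*} [CommRing A] [AddCommGroup N] [Module A N]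

lemma sum_smul_sum {ι κ : Type*} [Fintype ι] [Fintype κ] (r : ι → A) (c : ι → κ → A)
    (y : κ → N) : ∑ i, r i • ∑ j, c i j • y j = ∑ j, (∑ i, r i * c i j) • y j := by
  simp_rw [Finset.smul_sum, Finset.sum_smul, mul_smul]
  exact Finset.sum_comm

lemma sum_mul_sum {ι κ : Type*} [Fintype ι] [Fintype κ] (r : ι → A) (c : ι → κ → A)
    (e : κ → A) : ∑ i, r i * ∑ j, c i j * e j = ∑ j, (∑ i, r i * c i j) * e j := by
  simp_rw [Finset.mul_sum, Finset.sum_mul, mul_assoc]
  exact Finset.sum_comm

end Aux

section Criterion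

variable {A B : Type*} [CommRing A] [CommRing B] [Algebra A B] (ε : B)
  {N : Type*} [AddCommGroup N] [Module B N] [Module A N] [IsScalarTower A B N]

/-- multiplication by `ε` as an `A`-linear map -/
def E : N →ₗ[A] N where
  toFun n := ε • n
  map_add' := smul_add ε
  map_smul' r n := by
    simp only [RingHom.id_apply]
    rw [← algebraMap_smul B r n, ← algebraMap_smul B r (ε • n), smul_smul, smul_smul, mul_comm]

@[simp] lemma E_apply (n : N) : E (A := A) ε n = ε • n := rfl

variable {ε}

/-- **Flatness over `A[ε]`**: if `N/εN` is `A`-flat and `ker ε = im ε` on `N` then `N` is flat over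
`B = A + εA`. -/
theorem flat_of_sqZero_criterion (hε : ε * ε = 0)
    (hB : ∀ b : B, ∃ a a' : A, b = algebraMap A B a + ε * algebraMap A B a')
    {Q : Type*} [AddCommGroup Q] [Module A Q] [Module.Flat A Q]
    (π : N →ₗ[A] Q) (hπ : Function.Surjective π) (hker : ∀ n, π n = 0 ↔ ∃ m, n = ε • m)
    (hε2 : ∀ n : N, ε • n = 0 → ∃ m, n = ε • m) : Module.Flat B N := by
  apply Module.Flat.of_forall_isTrivialRelation
  intro l f x hfx
  choose a₀ a₀' hf₀ using hB
  set α : Fin l → A := fun i => a₀ (f i) with hα
  set α' : Fin l → A := fun i => a₀' (f i) with hα'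
  have hf : ∀ i, f i = algebraMap A B (α i) + ε * algebraMap A B (α' i) := fun i => hf₀ (f i)
  have hE2 : ∀ n : N, E (A := A) ε (E (A := A) ε n) = 0 := fun n => by
    simp only [E_apply, smul_smul, hε, zero_smul]
  have hbE : ∀ (r r' : A) (n : N),
      (algebraMap A B r + ε * algebraMap A B r') • n = r • n + E (A := A) ε (r' • n) := by
    intro r r' n
    rw [add_smul, algebraMap_smul, mul_smul, algebraMap_smul, E_apply]
  have hπE : ∀ n : N, π (E (A := A) ε n) = 0 := fun n => (hker _).mpr ⟨n, rfl⟩
  -- Step 1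
  have h1 : ∑ i, α i • π (x i) = 0 := by
    have h0 : π (∑ i, f i • x i) = 0 := by rw [hfx, map_zero]
    rw [map_sum] at h0
    rw [← h0]
    refine Finset.sum_congr rfl fun i _ => ?_
    rw [hf i, hbE, map_add, hπE, add_zero, map_smul]
  obtain ⟨K₁, c, ybar, hx1', hc⟩ := Module.Flat.isTrivialRelation_of_sum_smul_eq_zero h1
  have hx1 : ∀ i, π (x i) = ∑ j, c i j • ybar j := hx1'
  choose y hy using fun j => hπ (ybar j)
  have hp : ∀ i, ∃ p, x i - ∑ j, c i j • y j = ε • p := fun i => (hker _).mp (by
    rw [map_sub, map_sum, hx1 i, sub_eq_zero]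
    refine Finset.sum_congr rfl fun j _ => ?_
    rw [map_smul, hy])
  choose p hp using hp
  have hx : ∀ i, x i = ∑ j, c i j • y j + E (A := A) ε (p i) := fun i => by
    rw [E_apply, ← hp i]; abel
  -- Step 2
  set d : Fin K₁ → A := fun j => ∑ i, α' i * c i j with hd
  set q : N := ∑ j, d j • y j + ∑ i, α i • p i with hq
  have hEq : E (A := A) ε q = 0 := by
    have h0 : ∑ i, f i • x i = E (A := A) ε q := by
      have h3 : ∀ i, f i • x i = α i • ∑ j, c i j • y j + E (A := A) ε (α i • p i)
          + E (A := A) ε (α' i • ∑ j, c i j • y j) := by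
        intro i
        rw [hf i, hbE]
        conv_lhs => rw [hx i]
        rw [smul_add, smul_add, map_add, map_smul, map_smul (E (A := A) ε) (α' i) (E (A := A) ε (p i)),
          hE2, smul_zero, add_zero, map_smul]
      simp_rw [h3]
      rw [Finset.sum_add_distrib, Finset.sum_add_distrib, sum_smul_sum]
      simp only [hc, zero_smul, Finset.sum_const_zero, zero_add]
      rw [← map_sum, ← map_sum, ← map_add, sum_smul_sum, add_comm]
    rw [← h0, hfx]
  obtain ⟨r, hr⟩ := hε2 q hEq
  have h2 : ∑ s : Fin K₁ ⊕ Fin l, (Sum.elim d α) s • (Sum.elim ybar (fun i => π (p i))) s = 0 := by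
    rw [Fintype.sum_sum_type]
    simp only [Sum.elim_inl, Sum.elim_inr]
    have h0 : π q = 0 := by rw [hr]; exact hπE r
    rw [hq, map_add, map_sum, map_sum] at h0
    rw [← h0]
    congr 1
    · refine Finset.sum_congr rfl fun j _ => ?_
      rw [map_smul, hy]
    · refine Finset.sum_congr rfl fun i _ => ?_
      rw [map_smul]
  obtain ⟨K₂, e, wbar, hw₀, he⟩ := Module.Flat.isTrivialRelation_of_sum_smul_eq_zero h2
  have hw : ∀ s, (Sum.elim ybar (fun i => π (p i))) s = ∑ k, e s k • wbar k := hw₀
  choose w hw' using fun k => hπ (wbar k)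
  have hu : ∀ j, ∃ u, y j - ∑ k, e (Sum.inl j) k • w k = ε • u := fun j => (hker _).mp (by
    have := hw (Sum.inl j)
    simp only [Sum.elim_inl] at this
    rw [map_sub, map_sum, hy, this, sub_eq_zero]
    refine Finset.sum_congr rfl fun k _ => ?_
    rw [map_smul, hw'])
  choose u hu using hu
  have hv : ∀ i, ∃ v, p i - ∑ k, e (Sum.inr i) k • w k = ε • v := fun i => (hker _).mp (by
    have := hw (Sum.inr i)
    simp only [Sum.elim_inr] at this
    rw [map_sub, map_sum, this, sub_eq_zero]
    refine Finset.sum_congr rfl fun k _ => ?_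
    rw [map_smul, hw'])
  choose v hv using hv
  have hy' : ∀ j, y j = ∑ k, e (Sum.inl j) k • w k + E (A := A) ε (u j) := fun j => by
    rw [E_apply, ← hu j]; abel
  have hp' : ∀ i, p i = ∑ k, e (Sum.inr i) k • w k + E (A := A) ε (v i) := fun i => by
    rw [E_apply, ← hv i]; abel
  have he' : ∀ k, ∑ j, d j * e (Sum.inl j) k + ∑ i, α i * e (Sum.inr i) k = 0 := fun k => by
    have := he k
    rw [Fintype.sum_sum_type] at this
    simpa using this
  -- the trivialisation
  set g : Fin l → Fin K₂ → A := fun i k => ∑ j, c i j * e (Sum.inl j) k with hg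
  let Cmat : Fin l → (Fin K₂ ⊕ Fin K₁) → B := fun i s =>
    Sum.elim (fun k => algebraMap A B (g i k) + ε * algebraMap A B (e (Sum.inr i) k))
      (fun j => ε * algebraMap A B (c i j)) s
  rw [Module.isTrivialRelation_iff_vanishesTrivially]
  refine TensorProduct.VanishesTrivially.of_fintype (κ := Fin K₂ ⊕ Fin K₁) Cmat (Sum.elim w u) ?_ ?_
  · intro i
    rw [Fintype.sum_sum_type]
    simp only [Cmat, Sum.elim_inl, Sum.elim_inr]
    simp_rw [hbE]
    have h4 : ∀ j, (ε * algebraMap A B (c i j)) • u j = E (A := A) ε (c i j • u j) := fun j => by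
      rw [mul_smul, algebraMap_smul, E_apply]
    simp_rw [h4]
    rw [Finset.sum_add_distrib, hx i]
    conv_lhs => rw [hp' i]
    simp_rw [hy']
    simp_rw [smul_add]
    rw [Finset.sum_add_distrib, map_add, hE2, add_zero, map_sum]
    have h5 : ∑ j, c i j • ∑ k, e (Sum.inl j) k • w k = ∑ k, g i k • w k := by
      rw [sum_smul_sum]
    rw [h5]
    simp_rw [map_smul]
    abel
  · intro s
    rcases s with k | j
    · simp only [Cmat, Sum.elim_inl, smul_eq_mul]
      have h6 : ∀ i, (algebraMap A B (g i k) + ε * algebraMap A B (e (Sum.inr i) k)) * f i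
          = algebraMap A B (α i * g i k)
            + ε * algebraMap A B (α' i * g i k + α i * e (Sum.inr i) k) := by
        intro i
        rw [hf i]
        simp only [map_mul, map_add]
        linear_combination (algebraMap A B (e (Sum.inr i) k) * algebraMap A B (α' i)) * hε
      simp_rw [h6]
      rw [Finset.sum_add_distrib, ← Finset.mul_sum, ← map_sum, ← map_sum]
      have h7 : ∑ i, α i * g i k = 0 := by
        simp only [hg]
        rw [sum_mul_sum]
        simp [hc]
      have h8 : ∑ i, (α' i * g i k + α i * e (Sum.inr i) k) = 0 := by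
        rw [Finset.sum_add_distrib]
        simp only [hg]
        rw [sum_mul_sum]
        exact he' k
      rw [h7, h8, map_zero, mul_zero, add_zero]
    · simp only [Cmat, Sum.elim_inr, smul_eq_mul]
      have h6 : ∀ i, (ε * algebraMap A B (c i j)) * f i = ε * algebraMap A B (α i * c i j) := by
        intro i
        rw [hf i]
        simp only [map_mul]
        linear_combination (algebraMap A B (c i j) * algebraMap A B (α' i)) * hε
      simp_rw [h6]
      rw [← Finset.mul_sum, ← map_sum, hc, map_zero, mul_zero]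

end Criterion

section Converse

variable {B : Type*} [CommRing B] (ε : B)
  {N : Type*} [AddCommGroup N] [Module B N]

/-- If `B --ε--> B --ε--> B` is exact and `N` is flat then `ker ε = im ε` on `N`. -/
theorem exists_eq_smul_of_flat (hε : ε * ε = 0) (hBε : ∀ b : B, ε * b = 0 → ∃ b', b = ε * b')
    [Module.Flat B N] (n : N) (hn : ε • n = 0) : ∃ m, n = ε • m := by
  let μ : B →ₗ[B] B := LinearMap.mulLeft B ε
  have hex : Function.Exact μ μ := by
    intro b
    constructor
    · intro hb
      obtain ⟨b', rfl⟩ := hBε b hb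
      exact ⟨b', rfl⟩
    · rintro ⟨b', rfl⟩
      change ε * (ε * b') = 0
      rw [← mul_assoc, hε, zero_mul]
  have hex' := Module.Flat.lTensor_exact N hex
  have h1 : (μ.lTensor N) (n ⊗ₜ[B] (1 : B)) = 0 := by
    rw [LinearMap.lTensor_tmul]
    change n ⊗ₜ[B] (ε * 1) = 0
    rw [mul_one, ← mul_one ε, ← smul_eq_mul, ← TensorProduct.smul_tmul, hn, TensorProduct.zero_tmul]
  obtain ⟨t, ht⟩ := (hex' _).mp h1
  have h2 : ∀ t : N ⊗[B] B, TensorProduct.rid B N ((μ.lTensor N) t) = ε • TensorProduct.rid B N t := by
    intro t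
    induction t using TensorProduct.induction_on with
    | zero => simp
    | tmul n' b =>
      rw [LinearMap.lTensor_tmul, TensorProduct.rid_tmul, TensorProduct.rid_tmul]
      change (ε * b) • n' = ε • b • n'
      rw [mul_smul]
    | add t₁ t₂ h₁ h₂ => rw [map_add, map_add, map_add, h₁, h₂, smul_add]
  refine ⟨TensorProduct.rid B N t, ?_⟩
  rw [← h2, ht, TensorProduct.rid_tmul, one_smul]

end Converse

end Groth.Agent.Lib.Helper98.DualFlat
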