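import Mathlib

open Polynomial Finset

namespace Groth.Agent.Lib.Helper98.ExpCount

/-- one-variable weight polynomial -/
noncomputable def wP (q : ℕ) : ℕ[X] :=
  ∑ e : Fin q, if 1 ≤ (e : ℕ) then (X : ℕ[X]) ^ (e : ℕ) else 0

theorem wP_pow (q a : ℕ) : (wP q) ^ a = ∑ e : Fin a → Fin q,
      if (∀ i, 1 ≤ (e i : ℕ)) then (X : ℕ[X]) ^ (∑ i, (e i : ℕ)) else 0 := by
  classical
  unfold wP
  have h0 : ∀ c : ℕ[X], c ^ a = ∏ _i : Fin a, c := by intro c; simp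
  rw [h0, Fintype.prod_sum]
  refine Finset.sum_congr rfl fun e _ => ?_
  rw [Fintype.prod_ite_zero, Finset.prod_pow_eq_pow_sum]
  by_cases h : ∀ i, 1 ≤ (e i : ℕ)
  · rw [if_pos h, if_pos h]
  · rw [if_neg h, if_neg h]

theorem coeff_wP_pow (q a t : ℕ) :
    ((wP q) ^ a).coeff t =
      Fintype.card {e : Fin a → Fin q // (∀ i, 1 ≤ (e i : ℕ)) ∧ ∑ i, (e i : ℕ) = t} := by
  classical
  rw [wP_pow, Polynomial.finsetSum_coeff]
  have : ∀ e : Fin a → Fin q,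
      (if (∀ i, 1 ≤ (e i : ℕ)) then (X : ℕ[X]) ^ (∑ i, (e i : ℕ)) else 0).coeff t =
      if ((∀ i, 1 ≤ (e i : ℕ)) ∧ ∑ i, (e i : ℕ) = t) then 1 else 0 := by
    intro e
    by_cases h : ∀ i, 1 ≤ (e i : ℕ)
    · rw [if_pos h, coeff_X_pow]
      by_cases h2 : t = ∑ i, (e i : ℕ)
      · rw [if_pos h2, if_pos ⟨h, h2.symm⟩]
      · rw [if_neg h2, if_neg (fun h3 => h2 h3.2.symm)]
    · rw [if_neg h, if_neg (fun h3 => h h3.1)]
      simp
  rw [Finset.sum_congr rfl (fun e _ => this e), Finset.sum_boole]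
  rw [Fintype.card_of_subtype (Finset.univ.filter fun e : Fin a → Fin q =>
    (∀ i, 1 ≤ (e i : ℕ)) ∧ ∑ i, (e i : ℕ) = t)]
  · simp
  · intro x; simp

theorem coeff_zero_wP_pow (q a : ℕ) (ha : 0 < a) : ((wP q) ^ a).coeff 0 = 0 := by
  rw [Polynomial.coeff_zero_eq_eval_zero, Polynomial.eval_pow]
  have : (wP q).eval 0 = 0 := by
    unfold wP
    rw [Polynomial.eval_finsetSum]
    refine Finset.sum_eq_zero fun e _ => ?_
    by_cases h : 1 ≤ (e : ℕ)
    · simp only [h, if_true, eval_pow, eval_X]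
      exact zero_pow (by omega)
    · simp [h]
  rw [this]
  exact zero_pow (by omega)

/-- two-variable weight polynomial: outer variable marks "small" exponents -/
noncomputable def wQ (p : ℕ) : (ℕ[X])[X] :=
  ∑ e : Fin p, C (if 1 ≤ (e : ℕ) then (X : ℕ[X]) ^ (e : ℕ) else 0) *
    (if 2 * (e : ℕ) < p then (X : (ℕ[X])[X]) else 1)

theorem wQ_pow (p n : ℕ) : (wQ p) ^ n = ∑ e : Fin n → Fin p,
      C (if (∀ i, 1 ≤ (e i : ℕ)) then (X : ℕ[X]) ^ (∑ i, (e i : ℕ)) else 0) *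
          (X : (ℕ[X])[X]) ^ (Finset.univ.filter fun i => 2 * (e i : ℕ) < p).card := by
  classical
  unfold wQ
  have h0 : ∀ c : (ℕ[X])[X], c ^ n = ∏ _i : Fin n, c := by intro c; simp
  rw [h0, Fintype.prod_sum (fun (_ : Fin n) (e : Fin p) =>
    C (if 1 ≤ (e : ℕ) then (X : ℕ[X]) ^ (e : ℕ) else 0) *
      (if 2 * (e : ℕ) < p then (X : (ℕ[X])[X]) else 1))]
  refine Finset.sum_congr rfl fun e _ => ?_
  have e1 : ∏ i, (if 1 ≤ ((e i : Fin p) : ℕ) then (X : ℕ[X]) ^ ((e i : Fin p) : ℕ) else 0) =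
      if (∀ i, 1 ≤ (e i : ℕ)) then (X : ℕ[X]) ^ (∑ i, (e i : ℕ)) else 0 := by
    rw [Fintype.prod_ite_zero, Finset.prod_pow_eq_pow_sum]
    by_cases h : ∀ i, 1 ≤ (e i : ℕ)
    · rw [if_pos h, if_pos h]
    · rw [if_neg h, if_neg h]
  have e2 : ∏ i, (if 2 * ((e i : Fin p) : ℕ) < p then (X : (ℕ[X])[X]) else 1) =
      (X : (ℕ[X])[X]) ^ (Finset.univ.filter fun i => 2 * (e i : ℕ) < p).card := by
    rw [Finset.prod_ite]
    simp
  rw [Finset.prod_mul_distrib, ← map_prod, e1, e2]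

theorem coeff_wQ_pow (p n s D : ℕ) :
    (((wQ p) ^ n).coeff D).coeff s =
      Fintype.card {e : Fin n → Fin p // (∀ i, 1 ≤ (e i : ℕ)) ∧ ∑ i, (e i : ℕ) = s ∧
        (Finset.univ.filter fun i => 2 * (e i : ℕ) < p).card = D} := by
  classical
  rw [wQ_pow, Polynomial.finsetSum_coeff, Polynomial.finsetSum_coeff]
  have : ∀ e : Fin n → Fin p,
      ((C (if (∀ i, 1 ≤ (e i : ℕ)) then (X : ℕ[X]) ^ (∑ i, (e i : ℕ)) else 0) *
          (X : (ℕ[X])[X]) ^ (Finset.univ.filter fun i => 2 * (e i : ℕ) < p).card).coeff D).coeff s =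
      if ((∀ i, 1 ≤ (e i : ℕ)) ∧ ∑ i, (e i : ℕ) = s ∧
        (Finset.univ.filter fun i => 2 * (e i : ℕ) < p).card = D) then 1 else 0 := by
    intro e
    rw [coeff_C_mul_X_pow]
    by_cases h : ∀ i, 1 ≤ (e i : ℕ)
    · rw [if_pos h]
      by_cases h2 : D = (Finset.univ.filter fun i => 2 * (e i : ℕ) < p).card
      · rw [if_pos h2, coeff_X_pow]
        by_cases h3 : s = ∑ i, (e i : ℕ)
        · rw [if_pos h3, if_pos ⟨h, h3.symm, h2.symm⟩]
        · rw [if_neg h3, if_neg (fun h4 => h3 h4.2.1.symm)]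
      · rw [if_neg h2, if_neg (fun h4 => h2 h4.2.2.symm)]
        simp
    · rw [if_neg h, if_neg (show ¬ ((∀ i, 1 ≤ (e i : ℕ)) ∧ ∑ i, (e i : ℕ) = s ∧
        (Finset.univ.filter fun i => 2 * (e i : ℕ) < p).card = D) from fun h3 => h h3.1)]
      simp
  rw [Finset.sum_congr rfl (fun e _ => this e), Finset.sum_boole]
  rw [Fintype.card_of_subtype (Finset.univ.filter fun e : Fin n → Fin p =>
    (∀ i, 1 ≤ (e i : ℕ)) ∧ ∑ i, (e i : ℕ) = s ∧
        (Finset.univ.filter fun i => 2 * (e i : ℕ) < p).card = D)]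
  · simp
  · intro x; simp

theorem wP_succ (m : ℕ) : wP (m + 1) = ∑ e ∈ Finset.range m, (X : ℕ[X]) ^ (e + 1) := by
  unfold wP
  rw [Fin.sum_univ_eq_sum_range (fun e => if 1 ≤ e then (X : ℕ[X]) ^ e else 0) (m + 1),
    Finset.sum_range_succ']
  simp

theorem wP_range (q : ℕ) :
    wP q = ∑ e ∈ Finset.range q, if 1 ≤ e then (X : ℕ[X]) ^ e else 0 := by
  unfold wP
  exact Fin.sum_univ_eq_sum_range (fun e => if 1 ≤ e then (X : ℕ[X]) ^ e else 0) q

theorem wQ_odd (m : ℕ) :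
    wQ (2 * m + 1) = C (wP (m + 1)) * X + C ((X : ℕ[X]) ^ m * wP (m + 1)) := by
  obtain ⟨F, hF⟩ : ∃ F : ℕ → (ℕ[X])[X], F = fun e =>
    C (if 1 ≤ e then (X : ℕ[X]) ^ e else 0) *
      (if 2 * e < 2 * m + 1 then (X : (ℕ[X])[X]) else 1) := ⟨_, rfl⟩
  have h1 : wQ (2 * m + 1) = ∑ e ∈ Finset.range (2 * m + 1), F e := by
    rw [← Fin.sum_univ_eq_sum_range F (2 * m + 1), hF]
    rfl
  have h2 := Finset.sum_range_add F (m + 1) m
  rw [show m + 1 + m = 2 * m + 1 by ring] at h2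
  rw [h1, h2]
  congr 1
  · rw [wP_range, map_sum (C : ℕ[X] →+* (ℕ[X])[X]), Finset.sum_mul]
    refine Finset.sum_congr rfl fun e he => ?_
    rw [Finset.mem_range] at he
    rw [hF]
    have h3 : 2 * e < 2 * m + 1 := by omega
    simp only [h3, if_true]
  · rw [wP_succ, Finset.mul_sum, map_sum (C : ℕ[X] →+* (ℕ[X])[X])]
    refine Finset.sum_congr rfl fun e he => ?_
    rw [hF]
    have h3 : ¬ (2 * (m + 1 + e) < 2 * m + 1) := by omega
    have h4 : 1 ≤ m + 1 + e := by omega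
    simp only [h3, h4, if_true, if_false, mul_one]
    rw [← pow_add]
    congr 2
    ring

theorem main (p n s D : ℕ) (hp : Odd p) :
    Fintype.card {e : Fin n → Fin p // (∀ i, 1 ≤ (e i : ℕ)) ∧ ∑ i, (e i : ℕ) = s ∧
        (Finset.univ.filter fun i => 2 * (e i : ℕ) < p).card = D} =
      n.choose D * ∑ j ∈ Finset.range (s + 1),
        Fintype.card {e : Fin D → Fin ((p + 1) / 2) // (∀ i, 1 ≤ (e i : ℕ)) ∧ ∑ i, (e i : ℕ) = j} *
          Fintype.card {e : Fin (n - D) → Fin ((p + 1) / 2) // (∀ i, 1 ≤ (e i : ℕ)) ∧ ∑ i, (e i : ℕ) = (s - j - (n - D) * ((p - 1) / 2))} := by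
  obtain ⟨m, rfl⟩ := hp
  have e1 : (2 * m + 1 + 1) / 2 = m + 1 := by omega
  have e2 : (2 * m + 1 - 1) / 2 = m := by omega
  rw [← coeff_wQ_pow, wQ_odd]
  simp only [← coeff_wP_pow]
  rw [e1, e2]
  obtain ⟨P, hP⟩ : ∃ P, P = wP (m + 1) := ⟨_, rfl⟩
  rw [← hP]
  have key : (C P * X + C (X ^ m * P)) ^ n =
      ∑ k ∈ Finset.range (n + 1),
        C (P ^ k * (X ^ m * P) ^ (n - k) * (n.choose k : ℕ[X])) * (X : (ℕ[X])[X]) ^ k := by
    refine (_root_.add_pow (C P * X : (ℕ[X])[X]) (C (X ^ m * P)) n).trans ?_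
    refine Finset.sum_congr rfl fun k _ => ?_
    simp only [mul_pow, map_mul, map_pow, map_natCast]
    ring
  rw [key, finsetSum_coeff]
  simp only [coeff_C_mul_X_pow]
  rw [Finset.sum_ite_eq]
  have hD : (if D ∈ Finset.range (n + 1) then
      P ^ D * (X ^ m * P) ^ (n - D) * (n.choose D : ℕ[X]) else 0) =
      P ^ D * (X ^ m * P) ^ (n - D) * (n.choose D : ℕ[X]) := by
    split_ifs with h
    · rfl
    · rw [Finset.mem_range] at h
      rw [Nat.choose_eq_zero_of_lt (by omega)]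
      simp
  rw [hD, mul_pow, ← pow_mul, ← C_eq_natCast, coeff_mul_C, mul_comm (n.choose D)]
  congr 1
  rw [coeff_mul, Finset.Nat.sum_antidiagonal_eq_sum_range_succ
    (fun i j => (P ^ D).coeff i * ((X : ℕ[X]) ^ (m * (n - D)) * P ^ (n - D)).coeff j)]
  refine Finset.sum_congr rfl fun j hj => ?_
  rw [coeff_X_pow_mul']
  by_cases h : m * (n - D) ≤ s - j
  · rw [if_pos h, mul_comm m]
  · rw [if_neg h]
    have h1 : s - j - (n - D) * m = 0 := by
      rw [mul_comm]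
      exact Nat.sub_eq_zero_of_le (le_of_lt (not_le.mp h))
    have h2 : 0 < n - D := by
      rcases Nat.eq_zero_or_pos (n - D) with h3 | h3
      · rw [h3] at h; simp at h
      · exact h3
    rw [h1, hP, coeff_zero_wP_pow _ _ h2]

end Groth.Agent.Lib.Helper98.ExpCount
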