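import Groth.Agent.Lib.Helper4.FlatDiag

/-!
# Cancellation of flatness along a map with flat diagonal, universe polymorphic in the module

Copy of helper46's / helper4's argument (`Lib/Helper46/WeaklyEtaleFlat.lean`,
`Lib/Helper4/FlatDiag.lean`) with the module in an arbitrary universe.
-/

set_option autoImplicit false
set_option linter.style.haveILetI false
universe u v

open TensorProduct

namespace Groth.Agent.Lib.Helper98.FlatDiagU

section
variable {A B : Type u} [CommRing A] [CommRing B] [Algebra A B]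
variable {Z : Type v} [AddCommGroup Z] [Module A Z] [Module B Z] [IsScalarTower A B Z]

/-- `phi x (c ⊗ d) = c ⊗ d • x` -/
noncomputable def phi (x : Z) : B ⊗[A] B →ₗ[A] B ⊗[A] Z :=
  LinearMap.lTensor B ((LinearMap.toSpanSingleton B Z x).restrictScalars A)

lemma phi_tmul (x : Z) (c d : B) : phi (A := A) x (c ⊗ₜ d) = c ⊗ₜ (d • x) := by
  simp [phi]

lemma phi_add (x y : Z) (t : B ⊗[A] B) : phi (A := A) (x + y) t = phi x t + phi y t := by
  induction t using TensorProduct.induction_on with
  | zero => simp
  | tmul c d => simp only [phi_tmul, smul_add, tmul_add]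
  | add t₁ t₂ h₁ h₂ => simp only [map_add, h₁, h₂]; abel

lemma phi_zero (t : B ⊗[A] B) : phi (A := A) (0 : Z) t = 0 := by
  induction t using TensorProduct.induction_on with
  | zero => simp
  | tmul c d => simp [phi_tmul]
  | add t₁ t₂ h₁ h₂ => simp only [map_add, h₁, h₂, add_zero]

lemma smul_phi (f : B) (x : Z) (t : B ⊗[A] B) :
    f • phi (A := A) x t = phi x ((f ⊗ₜ[A] (1 : B)) * t) := by
  induction t using TensorProduct.induction_on with
  | zero => simp
  | tmul c d =>
    rw [phi_tmul, Algebra.TensorProduct.tmul_mul_tmul, phi_tmul, TensorProduct.smul_tmul',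
      smul_eq_mul, one_mul]
  | add t₁ t₂ h₁ h₂ => simp only [map_add, smul_add, mul_add, h₁, h₂]

lemma phi_smul (f : B) (x : Z) (t : B ⊗[A] B) :
    phi (A := A) (f • x) t = phi x (((1 : B) ⊗ₜ[A] f) * t) := by
  induction t using TensorProduct.induction_on with
  | zero => simp
  | tmul c d =>
    rw [phi_tmul, Algebra.TensorProduct.tmul_mul_tmul, phi_tmul, one_mul, smul_smul, mul_comm]
  | add t₁ t₂ h₁ h₂ => simp only [map_add, mul_add, h₁, h₂]

/-- multiplication `B ⊗ Z → Z` -/
noncomputable def muZ : B ⊗[A] Z →ₗ[B] Z :=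
  LinearMap.liftBaseChange B (LinearMap.id : Z →ₗ[A] Z)

lemma muZ_phi (x : Z) (t : B ⊗[A] B) :
    muZ (A := A) (phi x t) = (Algebra.TensorProduct.lmul' A (S := B) t) • x := by
  induction t using TensorProduct.induction_on with
  | zero => simp
  | tmul c d =>
    rw [phi_tmul, muZ, LinearMap.liftBaseChange_tmul, Algebra.TensorProduct.lmul'_apply_tmul,
      LinearMap.id_apply, mul_smul]
  | add t₁ t₂ h₁ h₂ => simp only [map_add, add_smul, h₁, h₂]

end

section
variable (A B : Type u) [CommRing A] [CommRing B] [Algebra A B]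

open Groth.Agent.Lib.Helper4.FlatDiag in
/-- An `A`-flat `B`-module is `B`-flat when `B ⊗_A B → B` is flat. -/
theorem flat_of_flat_of_flat_lmul' (h : (Algebra.TensorProduct.lmul' A (S := B)).Flat)
    (Z : Type v) [AddCommGroup Z] [Module A Z] [Module B Z] [IsScalarTower A B Z]
    [Module.Flat A Z] : Module.Flat B Z := by
  rw [Module.Flat.iff_forall_isTrivialRelation]
  intro l f x hfx
  obtain ⟨t, htdef⟩ : ∃ t : Fin l → B ⊗[A] B, ∀ i, t i = f i ⊗ₜ[A] (1 : B) - (1 : B) ⊗ₜ[A] f i :=
    ⟨_, fun _ => rfl⟩
  have ht : ∀ i ∈ (Finset.univ : Finset (Fin l)),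
      Algebra.TensorProduct.lmul' A (S := B) (t i) = 0 := by
    intro i _
    rw [htdef, map_sub, Algebra.TensorProduct.lmul'_apply_tmul,
      Algebra.TensorProduct.lmul'_apply_tmul, mul_one, one_mul, sub_self]
  obtain ⟨e, he1, he⟩ := exists_unit_like' A B h Finset.univ t ht
  have hy : ∑ i, f i • phi (A := A) (x i) e = 0 := by
    have h1 : ∀ i, f i • phi (A := A) (x i) e =
        phi (x i) (t i * e) + phi (f i • x i) e := by
      intro i
      rw [smul_phi, phi_smul, ← map_add, ← add_mul, htdef, sub_add_cancel]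
    simp_rw [h1]
    rw [Finset.sum_add_distrib]
    have h2 : ∀ i, phi (A := A) (x i) (t i * e) = 0 := by
      intro i; rw [mul_comm, he i (Finset.mem_univ i), map_zero]
    simp_rw [h2]
    rw [Finset.sum_const_zero, zero_add]
    have h3 : ∀ s : Finset (Fin l),
        ∑ i ∈ s, phi (A := A) (f i • x i) e = phi (∑ i ∈ s, f i • x i) e := by
      classical
      intro s
      induction s using Finset.induction_on with
      | empty => rw [Finset.sum_empty, Finset.sum_empty, phi_zero]
      | insert i s hi ih => rw [Finset.sum_insert hi, Finset.sum_insert hi, phi_add, ih]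
    rw [h3, hfx, phi_zero]
  obtain ⟨k, a, z, hz, ha⟩ := Module.Flat.isTrivialRelation_of_sum_smul_eq_zero hy
  refine ⟨k, a, fun j => muZ (A := A) (z j), fun i => ?_, ha⟩
  have := congrArg (muZ (A := A)) (hz i)
  rw [muZ_phi, he1, one_smul, map_sum] at this
  rw [this]
  exact Finset.sum_congr rfl fun j _ => map_smul _ _ _



end

end Groth.Agent.Lib.Helper98.FlatDiagU
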