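import Mathlib

/-!
# Graded pieces of a finitely generated graded module are finite over the base (helper98)

ns `Groth.Agent.Lib.Helper98.GradedFin`.
* `exists_homog_gens` : a f.t. graded `A`-algebra with `𝒜 0 = image of A` is generated by finitely many
  homogeneous elements of nonzero degree
* `finite_gradedPiece` : each graded piece of a f.g. graded module is a finite `A`-module
-/

set_option autoImplicit false
universe u

namespace Groth.Agent.Lib.Helper98.GradedFin
open DirectSum

variable {A S : Type u} [CommRing A] [CommRing S] [Algebra A S] (𝒜 : ℕ → Submodule A S) [GradedAlgebra 𝒜]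

/-- homogeneous generators of nonzero degree -/
theorem exists_homog_gens (h0 : ∀ s ∈ 𝒜 0, s ∈ Set.range (algebraMap A S)) [Algebra.FiniteType A S] :
    ∃ (F : Finset S) (deg : S → ℕ), Algebra.adjoin A (F : Set S) = ⊤ ∧
      ∀ x ∈ F, x ∈ 𝒜 (deg x) ∧ deg x ≠ 0 := by
  classical
  obtain ⟨F, hF⟩ := Algebra.FiniteType.out (R := A) (A := S)
  let F' : Finset S := F.biUnion (fun x => (DirectSum.decompose 𝒜 x).support.image
    (fun k => ((DirectSum.decompose 𝒜 x k : 𝒜 k) : S)))
  have hF' : ∀ y ∈ F', ∃ k, y ∈ 𝒜 k := by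
    intro y hy
    simp only [F', Finset.mem_biUnion, Finset.mem_image] at hy
    obtain ⟨x, _, k, _, rfl⟩ := hy
    exact ⟨k, (DirectSum.decompose 𝒜 x k).2⟩
  choose! deg hdeg using hF'
  refine ⟨F'.filter (fun y => deg y ≠ 0), deg, ?_, ?_⟩
  · rw [← top_le_iff, ← hF, Algebra.adjoin_le_iff]
    intro s hs
    rw [← DirectSum.sum_support_decompose 𝒜 s]
    refine sum_mem fun k hk => ?_
    have hmem : ((DirectSum.decompose 𝒜 s k : 𝒜 k) : S) ∈ F' := by
      simp only [F', Finset.mem_biUnion, Finset.mem_image]
      exact ⟨s, hs, k, hk, rfl⟩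
    by_cases hd : deg ((DirectSum.decompose 𝒜 s k : 𝒜 k) : S) = 0
    · have h1 := hdeg _ hmem
      rw [hd] at h1
      obtain ⟨a, ha⟩ := h0 _ h1
      rw [← ha]
      exact Subalgebra.algebraMap_mem _ a
    · exact Algebra.subset_adjoin (by
        rw [Finset.coe_filter]
        exact ⟨hmem, hd⟩)
  · intro x hx
    simp only [Finset.mem_filter] at hx
    exact ⟨hdeg x hx.1, hx.2⟩

variable {M : Type u} [AddCommGroup M] [Module A M] [Module S M] [IsScalarTower A S M]
  (ℳ : ℕ → Submodule A M) [DirectSum.Decomposition ℳ] [SetLike.GradedSMul 𝒜 ℳ]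

/-- homogeneous generators of a f.g. graded module -/
theorem exists_homog_gens_module [Module.Finite S M] :
    ∃ (G : Finset M) (e : M → ℕ), Submodule.span S (G : Set M) = ⊤ ∧ ∀ x ∈ G, x ∈ ℳ (e x) := by
  classical
  obtain ⟨G, hG⟩ := (Module.finite_def (R := S) (M := M)).mp inferInstance
  let G' : Finset M := G.biUnion (fun x => (DirectSum.decompose ℳ x).support.image
    (fun k => ((DirectSum.decompose ℳ x k : ℳ k) : M)))
  have hG' : ∀ y ∈ G', ∃ k, y ∈ ℳ k := by
    intro y hy
    simp only [G', Finset.mem_biUnion, Finset.mem_image] at hy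
    obtain ⟨x, _, k, _, rfl⟩ := hy
    exact ⟨k, (DirectSum.decompose ℳ x k).2⟩
  choose! e he using hG'
  refine ⟨G', e, ?_, he⟩
  rw [← top_le_iff, ← hG, Submodule.span_le]
  intro s hs
  rw [← DirectSum.sum_support_decompose ℳ s]
  refine sum_mem fun k hk => Submodule.subset_span ?_
  simp only [G', Finset.coe_biUnion, Finset.coe_image, Set.mem_iUnion, Set.mem_image]
  exact ⟨s, hs, k, hk, rfl⟩


/-- the projection onto the degree `n` piece, as an `A`-linear endomorphism -/
noncomputable def proj (n : ℕ) : M →ₗ[A] M :=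
  (ℳ n).subtype ∘ₗ DirectSum.component A ℕ (fun i => ℳ i) n ∘ₗ (decomposeLinearEquiv ℳ).toLinearMap

omit [Module S M] in
lemma proj_apply (n : ℕ) (x : M) : proj ℳ n x = (DirectSum.decompose ℳ x n : M) := rfl

omit [Module S M] in
lemma proj_of_mem_same {n : ℕ} {x : M} (hx : x ∈ ℳ n) : proj ℳ n x = x :=
  DirectSum.decompose_of_mem_same ℳ hx

omit [Module S M] in
lemma proj_of_mem_ne {n k : ℕ} {x : M} (hx : x ∈ ℳ k) (hk : k ≠ n) : proj ℳ n x = 0 :=
  DirectSum.decompose_of_mem_ne ℳ hx hk

/-- **each graded piece of a finitely generated graded module over a graded algebra of finite type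
(with `𝒜 0` the image of `A`) is a finite `A`-module** -/
theorem finite_gradedPiece (h0 : ∀ s ∈ 𝒜 0, s ∈ Set.range (algebraMap A S)) [Algebra.FiniteType A S]
    [Module.Finite S M] (n : ℕ) : Module.Finite A (ℳ n) := by
  classical
  obtain ⟨F, deg, hF, hdeg⟩ := exists_homog_gens 𝒜 h0
  obtain ⟨G, e, hG, he⟩ := exists_homog_gens_module (S := S) ℳ
  let mon : (F → ℕ) → S := fun α => ∏ i : F, (i : S) ^ α i
  have hmon : ∀ α, mon α ∈ 𝒜 (∑ i : F, α i * deg i) := by
    intro α
    have := SetLike.prod_pow_mem_graded 𝒜 (fun i : F => deg i) (fun i : F => (i : S)) α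
      (F := Finset.univ) (fun k _ => (hdeg k k.2).1)
    simp only [smul_eq_mul] at this
    exact this
  let H : Set M := {x | ∃ (α : F → ℕ) (g : G), x = mon α • (g : M)}
  have hHdeg : ∀ (α : F → ℕ) (g : G), mon α • (g : M) ∈ ℳ (∑ i : F, α i * deg i + e g) := by
    intro α g
    have := SetLike.GradedSMul.smul_mem (A := 𝒜) (B := ℳ) (hmon α) (he g g.2)
    simpa [vadd_eq_add] using this
  -- closure of the `A`-span of `H` under `S`
  have hgen : ∀ (i : F) (x : M), x ∈ Submodule.span A H → (i : S) • x ∈ Submodule.span A H := by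
    intro i x hx
    induction hx using Submodule.span_induction with
    | mem x hx =>
      obtain ⟨α, g, rfl⟩ := hx
      refine Submodule.subset_span ⟨α + Pi.single i 1, g, ?_⟩
      rw [smul_smul]
      congr 1
      change (i : S) * ∏ j : F, (j : S) ^ α j = ∏ j : F, (j : S) ^ ((α + Pi.single i 1 : F → ℕ) j)
      simp only [Pi.add_apply, pow_add, Finset.prod_mul_distrib]
      rw [mul_comm]
      congr 1
      rw [Finset.prod_eq_single i]
      · simp
      · intro j _ hj
        simp [Pi.single_apply, hj]
      · intro h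
        exact absurd (Finset.mem_univ i) h
    | zero => simp
    | add x y _ _ hx hy => rw [smul_add]; exact add_mem hx hy
    | smul a x _ hx => rw [smul_comm]; exact Submodule.smul_mem _ _ hx
  have hclosed : ∀ (s : S) (x : M), x ∈ Submodule.span A H → s • x ∈ Submodule.span A H := by
    intro s
    have hs : s ∈ Algebra.adjoin A (F : Set S) := hF ▸ Algebra.mem_top
    induction hs using Algebra.adjoin_induction with
    | mem s hs => exact fun x hx => hgen ⟨s, hs⟩ x hx
    | algebraMap a =>
      intro x hx
      rw [algebraMap_smul]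
      exact Submodule.smul_mem _ _ hx
    | add s t _ _ hs ht =>
      intro x hx
      rw [add_smul]
      exact add_mem (hs x hx) (ht x hx)
    | mul s t _ _ hs ht =>
      intro x hx
      rw [mul_smul]
      exact hs _ (ht x hx)
  have hN : ∀ y : M, y ∈ Submodule.span A H := by
    intro y
    have hy : y ∈ Submodule.span S (G : Set M) := hG ▸ Submodule.mem_top
    induction hy using Submodule.span_induction with
    | mem y hy =>
      refine Submodule.subset_span ⟨0, ⟨y, hy⟩, ?_⟩
      simp [mon]
    | zero => simp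
    | add x y _ _ hx hy => exact add_mem hx hy
    | smul s x _ hx => exact hclosed s x hx
  -- the finitely many generators of degree `n`
  let T : Finset ((F → ℕ) × G) :=
    ((Fintype.piFinset (fun _ : F => Finset.range (n + 1))) ×ˢ (Finset.univ : Finset G)).filter
      (fun p => ∑ i : F, p.1 i * deg i + e p.2 = n)
  let Hn : Finset M := T.image (fun p => mon p.1 • (p.2 : M))
  have hHn : ∀ x ∈ Hn, x ∈ ℳ n := by
    intro x hx
    simp only [Hn, Finset.mem_image] at hx
    obtain ⟨p, hp, rfl⟩ := hx
    simp only [T, Finset.mem_filter] at hp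
    have := hHdeg p.1 p.2
    rw [hp.2] at this
    exact this
  have key : ℳ n = Submodule.span A (Hn : Set M) := by
    apply le_antisymm
    · intro x hx
      have h1 : proj ℳ n x = x := proj_of_mem_same ℳ hx
      have h2 : proj ℳ n x ∈ Submodule.map (proj ℳ n) (Submodule.span A H) :=
        Submodule.mem_map_of_mem (hN x)
      rw [h1, Submodule.map_span] at h2
      refine (Submodule.span_le.mpr ?_) h2
      rintro _ ⟨_, ⟨α, g, rfl⟩, rfl⟩
      by_cases hd : ∑ i : F, α i * deg i + e g = n
      · rw [proj_of_mem_same ℳ (hd ▸ hHdeg α g)]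
        refine Submodule.subset_span ?_
        simp only [Hn, Finset.coe_image, Set.mem_image, Finset.mem_coe]
        refine ⟨(α, g), ?_, rfl⟩
        simp only [T, Finset.mem_filter, Finset.mem_product, Fintype.mem_piFinset, Finset.mem_range,
          Finset.mem_univ, and_true]
        refine ⟨fun i => ?_, hd⟩
        have hi : α i * deg i ≤ ∑ j : F, α j * deg j :=
          Finset.single_le_sum (f := fun j : F => α j * deg j) (fun _ _ => Nat.zero_le _)
            (Finset.mem_univ i)
        have hpos : 1 ≤ deg i := Nat.one_le_iff_ne_zero.mpr (hdeg i i.2).2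
        have : α i ≤ α i * deg i := Nat.le_mul_of_pos_right _ hpos
        omega
      · rw [proj_of_mem_ne ℳ (hHdeg α g) hd]
        exact zero_mem _
    · exact Submodule.span_le.mpr hHn
  have hfg : (ℳ n).FG := key ▸ Submodule.fg_span (Finset.finite_toSet Hn)
  exact Module.Finite.of_fg hfg

end Groth.Agent.Lib.Helper98.GradedFin
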