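import Mathlib.RingTheory.GradedAlgebra.Basic
import Mathlib.Algebra.GCDMonoid.Finset
import Mathlib.Algebra.GCDMonoid.Nat
import Mathlib.RingTheory.Adjoin.Basic
import Mathlib.Algebra.Algebra.Operations
import Mathlib.Algebra.MvPolynomial.Basic
import Mathlib.RingTheory.Adjoin.Polynomial.Basic
import Mathlib.Tactic

/-!
# Graded algebras generated by finitely many homogeneous elements

Helper lemmas (helper98): a homogeneous element of degree `m` of a graded algebra generated by
homogeneous `f i` of degree `deg i` is a linear combination of monomials of weighted degree `m`.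
-/

set_option autoImplicit false
universe u

namespace Groth.Agent.Lib.Helper98

section

variable {R A : Type u} [CommRing R] [CommRing A] [Algebra R A] (𝒜 : ℕ → Submodule R A)
  [GradedAlgebra 𝒜] {s : ℕ} (f : Fin s → A) (deg : Fin s → ℕ)

theorem monomial_mem (hf : ∀ i, f i ∈ 𝒜 (deg i)) (e : Fin s → ℕ) :
    ∏ i, f i ^ e i ∈ 𝒜 (∑ i, e i * deg i) := by
  have := SetLike.prod_pow_mem_graded 𝒜 deg f e (F := Finset.univ) (fun k _ => hf k)
  simpa [smul_eq_mul] using this

/-- The set of monomials in the `f i` of weighted degree `m`. -/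
def monomialsOfDegree (m : ℕ) : Set A :=
  {y | ∃ e : Fin s → ℕ, ∑ i, e i * deg i = m ∧ y = ∏ i, f i ^ e i}

theorem mem_span_monomials (hf : ∀ i, f i ∈ 𝒜 (deg i))
    (hgen : Algebra.adjoin R (Set.range f) = ⊤) (m : ℕ) (x : A) (hx : x ∈ 𝒜 m) :
    x ∈ Submodule.span R (monomialsOfDegree f deg m) := by
  classical
  have hx' : x ∈ (MvPolynomial.aeval f : MvPolynomial (Fin s) R →ₐ[R] A).range := by
    rw [← Algebra.adjoin_range_eq_range_aeval, hgen]; trivial
  obtain ⟨P, hP⟩ := hx'
  replace hP : MvPolynomial.aeval f P = x := hP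
  subst hP
  have h1 : (GradedRing.proj 𝒜 m) (MvPolynomial.aeval f P) = MvPolynomial.aeval f P := by
    rw [GradedRing.proj_apply]
    exact DirectSum.decompose_of_mem_same 𝒜 hx
  have h2 : MvPolynomial.aeval f P =
      ∑ e ∈ P.support, MvPolynomial.aeval f (MvPolynomial.monomial e (MvPolynomial.coeff e P)) := by
    conv_lhs => rw [MvPolynomial.as_sum P]
    rw [map_sum]
  rw [← h1, h2, map_sum]
  refine Submodule.sum_mem _ (fun e _ => ?_)
  rw [MvPolynomial.aeval_monomial, Finsupp.prod_fintype _ _ (fun i => pow_zero _),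
    ← Algebra.smul_def]
  have hmem : (MvPolynomial.coeff e P) • ∏ i, f i ^ e i ∈ 𝒜 (∑ i, e i * deg i) :=
    Submodule.smul_mem _ _ (monomial_mem 𝒜 f deg hf e)
  rw [GradedRing.proj_apply]
  by_cases hm : ∑ i, e i * deg i = m
  · rw [DirectSum.decompose_of_mem_same 𝒜 (hm ▸ hmem)]
    exact Submodule.smul_mem _ _ (Submodule.subset_span ⟨e, hm, rfl⟩)
  · rw [DirectSum.decompose_of_mem_ne 𝒜 hmem hm]
    exact Submodule.zero_mem _

end

end Groth.Agent.Lib.Helper98

namespace Groth.Agent.Lib.Helper98

section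

variable {R A : Type u} [CommRing R] [CommRing A] [Algebra R A] (𝒜 : ℕ → Submodule R A)
  [GradedAlgebra 𝒜] {s : ℕ} (f : Fin s → A) (deg : Fin s → ℕ)

/-- Splitting off `f i ^ q` from a monomial. -/
theorem monomial_split (e : Fin s → ℕ) (i : Fin s) (q : ℕ) (hq : q ≤ e i) :
    (∏ j, f j ^ e j = (∏ j, f j ^ (if j = i then e i - q else e j)) * f i ^ q) ∧
    (∑ j, e j * deg j = (∑ j, (if j = i then e i - q else e j) * deg j) + q * deg i) := by
  classical
  have he : ∀ j, e j = (if j = i then e i - q else e j) + (if j = i then q else 0) := by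
    intro j
    by_cases h : j = i
    · subst h; simp; omega
    · simp [h]
  constructor
  · conv_lhs => rw [show (fun j => f j ^ e j) = fun j => f j ^ (if j = i then e i - q else e j) *
        f j ^ (if j = i then q else 0) from funext fun j => by rw [← pow_add, ← he j]]
    rw [Finset.prod_mul_distrib]
    congr 1
    simp [pow_ite, Finset.prod_ite_eq']
  · conv_lhs => rw [show (fun j => e j * deg j) = fun j => (if j = i then e i - q else e j) * deg j +
        (if j = i then q else 0) * deg j from funext fun j => by rw [← add_mul, ← he j]]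
    rw [Finset.sum_add_distrib]
    congr 1
    simp [ite_mul, Finset.sum_ite_eq']

theorem lcm_pos' (hdeg : ∀ i, 0 < deg i) : 0 < Finset.univ.lcm deg := by
  apply Nat.pos_of_ne_zero
  intro h
  rw [Finset.lcm_eq_zero_iff] at h
  obtain ⟨i, _, hi⟩ := h
  exact (hdeg i).ne' hi

/-- `B_{n+l} = B_n B_l` for `n ≥ (s-1)(l-1)`. -/
theorem graded_add_lcm (hdeg : ∀ i, 0 < deg i) (hf : ∀ i, f i ∈ 𝒜 (deg i))
    (hgen : Algebra.adjoin R (Set.range f) = ⊤) (n : ℕ)
    (hn : (s - 1) * (Finset.univ.lcm deg - 1) ≤ n) :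
    𝒜 (n + Finset.univ.lcm deg) = 𝒜 n * 𝒜 (Finset.univ.lcm deg) := by
  classical
  have hl := lcm_pos' deg hdeg
  set l := Finset.univ.lcm deg with hl_def
  apply le_antisymm
  · intro x hx
    have hspan := mem_span_monomials 𝒜 f deg hf hgen (n + l) x hx
    refine Submodule.span_le.2 ?_ hspan
    rintro y ⟨e, he, rfl⟩
    obtain ⟨i, hi⟩ : ∃ i, l ≤ e i * deg i := by
      by_contra hcon
      push Not at hcon
      have h1 : ∑ i, e i * deg i ≤ ∑ _i : Fin s, (l - 1) :=
        Finset.sum_le_sum (fun i _ => by have := hcon i; omega)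
      rw [Finset.sum_const, Finset.card_univ, Fintype.card_fin, smul_eq_mul, he] at h1
      rcases Nat.eq_zero_or_pos s with hs | hs
      · rw [hs] at h1; omega
      · have h2 : s * (l - 1) = (s - 1) * (l - 1) + (l - 1) := by
          conv_lhs => rw [show s = (s - 1) + 1 by omega]
          ring
        omega
    have hdvd : deg i ∣ l := Finset.dvd_lcm (Finset.mem_univ i)
    obtain ⟨q, hq⟩ := hdvd
    have hqe : q ≤ e i := by
      rw [hq, mul_comm] at hi
      exact Nat.le_of_mul_le_mul_right hi (hdeg i)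
    obtain ⟨h1, h2⟩ := monomial_split f deg e i q hqe
    simp only [SetLike.mem_coe]
    rw [h1]
    apply Submodule.mul_mem_mul
    · have h3 := monomial_mem 𝒜 f deg hf (fun j => if j = i then e i - q else e j)
      have h4 : (∑ j, (if j = i then e i - q else e j) * deg j) = n := by
        rw [he, hq] at h2
        have : q * deg i = deg i * q := mul_comm _ _
        omega
      rwa [h4] at h3
    · have h3 := SetLike.pow_mem_graded q (hf i)
      rw [smul_eq_mul, mul_comm, ← hq] at h3
      exact h3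
  · exact Submodule.mul_le.2 (fun a ha b hb => SetLike.mul_mem_graded ha hb)

end

end Groth.Agent.Lib.Helper98

namespace Groth.Agent.Lib.Helper98

section

variable {R A : Type u} [CommRing R] [CommRing A] [Algebra R A] (𝒜 : ℕ → Submodule R A)
  [GradedAlgebra 𝒜] {s : ℕ} (f : Fin s → A) (deg : Fin s → ℕ)

theorem graded_mul_le (m m' : ℕ) : 𝒜 m * 𝒜 m' ≤ 𝒜 (m + m') :=
  Submodule.mul_le.2 (fun _ ha _ hb => SetLike.mul_mem_graded ha hb)

/-- The degree zero part is `R · 1`. -/
theorem graded_zero_eq_one (hdeg : ∀ i, 0 < deg i) (hf : ∀ i, f i ∈ 𝒜 (deg i))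
    (hgen : Algebra.adjoin R (Set.range f) = ⊤) : 𝒜 0 = 1 := by
  apply le_antisymm
  · intro x hx
    have hspan := mem_span_monomials 𝒜 f deg hf hgen 0 x hx
    rw [Submodule.one_eq_span]
    refine Submodule.span_mono ?_ hspan
    rintro y ⟨e, he, rfl⟩
    have he0 : ∀ i, e i = 0 := by
      intro i
      have h1 : e i * deg i = 0 := by
        have := (Finset.sum_eq_zero_iff (s := Finset.univ) (f := fun i => e i * deg i)).1 he i
          (Finset.mem_univ i)
        exact this
      rcases Nat.mul_eq_zero.1 h1 with h | h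
      · exact h
      · exact absurd h (hdeg i).ne'
    simp [he0]
  · rw [Submodule.one_le]
    exact SetLike.GradedOne.one_mem

theorem graded_add_mul_lcm (hdeg : ∀ i, 0 < deg i) (hf : ∀ i, f i ∈ 𝒜 (deg i))
    (hgen : Algebra.adjoin R (Set.range f) = ⊤) (m : ℕ)
    (hm : (s - 1) * (Finset.univ.lcm deg - 1) ≤ m) (a : ℕ) :
    𝒜 (m + a * Finset.univ.lcm deg) = 𝒜 m * 𝒜 (a * Finset.univ.lcm deg) := by
  induction a with
  | zero =>
    rw [zero_mul, add_zero, graded_zero_eq_one 𝒜 f deg hdeg hf hgen, mul_one]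
  | succ a ih =>
    apply le_antisymm
    · have h1 : m + (a + 1) * Finset.univ.lcm deg = (m + a * Finset.univ.lcm deg) +
          Finset.univ.lcm deg := by ring
      rw [h1, graded_add_lcm 𝒜 f deg hdeg hf hgen _ (le_trans hm (Nat.le_add_right _ _)), ih,
        mul_assoc]
      refine mul_le_mul_right ?_ _
      have h2 : (a + 1) * Finset.univ.lcm deg = a * Finset.univ.lcm deg + Finset.univ.lcm deg := by
        ring
      rw [h2]
      exact graded_mul_le 𝒜 _ _
    · exact graded_mul_le 𝒜 _ _

/-- `B_{kn} = (B_n)^k` for `n = a l`, `a ≥ s - 1`. -/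
theorem graded_mul_eq_pow (hdeg : ∀ i, 0 < deg i) (hf : ∀ i, f i ∈ 𝒜 (deg i))
    (hgen : Algebra.adjoin R (Set.range f) = ⊤) (a : ℕ) (ha : s - 1 ≤ a) (k : ℕ) :
    𝒜 (k * (a * Finset.univ.lcm deg)) = 𝒜 (a * Finset.univ.lcm deg) ^ k := by
  induction k with
  | zero => rw [zero_mul, pow_zero, graded_zero_eq_one 𝒜 f deg hdeg hf hgen]
  | succ k ih =>
    rcases Nat.eq_zero_or_pos k with hk | hk
    · subst hk
      rw [zero_add, one_mul, pow_one]
    · have hl := lcm_pos' deg hdeg
      have hbound : (s - 1) * (Finset.univ.lcm deg - 1) ≤ k * (a * Finset.univ.lcm deg) := by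
        calc (s - 1) * (Finset.univ.lcm deg - 1) ≤ a * Finset.univ.lcm deg :=
              Nat.mul_le_mul ha (Nat.sub_le _ _)
          _ = 1 * (a * Finset.univ.lcm deg) := (one_mul _).symm
          _ ≤ k * (a * Finset.univ.lcm deg) := Nat.mul_le_mul_right _ hk
      have h1 : (k + 1) * (a * Finset.univ.lcm deg) =
          k * (a * Finset.univ.lcm deg) + a * Finset.univ.lcm deg := by ring
      rw [h1, graded_add_mul_lcm 𝒜 f deg hdeg hf hgen _ hbound a, ih, pow_succ]

end

end Groth.Agent.Lib.Helper98
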