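import Groth.Agent.Lib.Helper98.GradedGen
import Mathlib.AlgebraicGeometry.ProjectiveSpectrum.Basic

/-!
# Proj of a graded algebra generated by finitely many homogeneous elements (helper98)
-/

set_option autoImplicit false
universe u

open AlgebraicGeometry

namespace Groth.Agent.Lib.Helper98

section

variable {R A : Type u} [CommRing R] [CommRing A] [Algebra R A] (𝒜 : ℕ → Submodule R A)
  [GradedAlgebra 𝒜] {s : ℕ} (f : Fin s → A) (deg : Fin s → ℕ)

/-- Every point of `Proj` misses some generator. -/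
theorem exists_generator_notMem (hdeg : ∀ i, 0 < deg i) (hf : ∀ i, f i ∈ 𝒜 (deg i))
    (hgen : Algebra.adjoin R (Set.range f) = ⊤) (x : Proj 𝒜) :
    ∃ i, f i ∉ x.asHomogeneousIdeal := by
  classical
  by_contra hcon
  push Not at hcon
  apply x.not_irrelevant_le
  rw [HomogeneousIdeal.irrelevant_le]
  intro m hm y hy
  have hy' : y ∈ 𝒜 m := hy
  have hspan := mem_span_monomials 𝒜 f deg hf hgen m y hy'
  change y ∈ x.asHomogeneousIdeal.toIdeal
  rw [← Submodule.restrictScalars_mem R]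
  refine Submodule.span_le.2 ?_ hspan
  rintro z ⟨e, he, rfl⟩
  have : ∃ j, 0 < e j := by
    by_contra h0
    push Not at h0
    have : ∑ i, e i * deg i = 0 := Finset.sum_eq_zero (fun i _ => by
      have := h0 i
      have h1 : e i = 0 := by omega
      rw [h1, zero_mul])
    omega
  obtain ⟨j, hj⟩ := this
  simp only [SetLike.mem_coe, Submodule.restrictScalars_mem]
  have hdvd : f j ∣ ∏ i, f i ^ e i :=
    dvd_trans (dvd_pow_self (f j) hj.ne') (Finset.dvd_prod_of_mem _ (Finset.mem_univ j))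
  exact Ideal.mem_of_dvd _ hdvd (hcon j)

theorem iSup_basicOpen_mul_lcm (hdeg : ∀ i, 0 < deg i) (hf : ∀ i, f i ∈ 𝒜 (deg i))
    (hgen : Algebra.adjoin R (Set.range f) = ⊤) (a : ℕ) :
    (⨆ g : 𝒜 (a * Finset.univ.lcm deg), Proj.basicOpen 𝒜 (g : A)) = ⊤ := by
  refine top_le_iff.mp fun x _ => TopologicalSpace.Opens.mem_iSup.mpr ?_
  obtain ⟨i, hi⟩ := exists_generator_notMem 𝒜 f deg hdeg hf hgen x
  have hdvd : deg i ∣ Finset.univ.lcm deg := Finset.dvd_lcm (Finset.mem_univ i)
  obtain ⟨q, hq⟩ := hdvd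
  have hl := lcm_pos' deg hdeg
  have hqpos : 0 < q := by
    rcases Nat.eq_zero_or_pos q with h | h
    · rw [h, mul_zero] at hq; omega
    · exact h
  have hmem : f i ^ (a * q) ∈ 𝒜 (a * Finset.univ.lcm deg) := by
    have h3 := SetLike.pow_mem_graded (a * q) (hf i)
    rw [smul_eq_mul, mul_assoc, mul_comm q, ← hq] at h3
    exact h3
  refine ⟨⟨_, hmem⟩, ?_⟩
  rw [Proj.mem_basicOpen]
  intro hcon
  exact hi (x.isPrime.mem_of_pow_mem _ hcon)

end

end Groth.Agent.Lib.Helper98
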