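import Mathlib

/-!
helper98: torsor trivialisation squares for kernels of homomorphisms of group objects in a
cartesian monoidal category (used for the "five lemma" for closed immersions of group schemes).
-/

set_option autoImplicit false
universe v u

open CategoryTheory CategoryTheory.Limits MonoidalCategory CartesianMonoidalCategory MonObj GrpObj

namespace Groth.Agent.Lib.Helper98.GrpExtTors

/-- a commutative square with the universal property on `T`-points is a pullback square. -/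
theorem isPullback_of_forall_existsUnique {C : Type u} [Category.{v} C] {P X Y Z : C}
    {fst : P ⟶ X} {snd : P ⟶ Y} {f : X ⟶ Z} {g : Y ⟶ Z} (w : fst ≫ f = snd ≫ g)
    (h : ∀ (T : C) (x : T ⟶ X) (y : T ⟶ Y), x ≫ f = y ≫ g →
      ∃! z : T ⟶ P, z ≫ fst = x ∧ z ≫ snd = y) :
    IsPullback fst snd f g := by
  refine ⟨⟨w⟩, ⟨PullbackCone.IsLimit.mk w
    (fun s => (h _ s.fst s.snd s.condition).choose) ?_ ?_ ?_⟩⟩
  · intro s; exact (h _ s.fst s.snd s.condition).choose_spec.1.1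
  · intro s; exact (h _ s.fst s.snd s.condition).choose_spec.1.2
  · intro s m h1 h2; exact (h _ s.fst s.snd s.condition).choose_spec.2 m ⟨h1, h2⟩

variable {C : Type u} [Category.{v} C] [CartesianMonoidalCategory C]

/-- two points of `B` with the same image in `Q` differ by a unique point of the kernel. -/
theorem kernel_existsUnique {A B Q : C} [GrpObj B] [GrpObj Q] (a : A ⟶ B) (b : B ⟶ Q)
    [IsMonHom b] (h : IsPullback a (toUnit A) b η[Q]) {T : C} (u v : T ⟶ B)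
    (huv : u ≫ b = v ≫ b) : ∃! w : T ⟶ A, u * (w ≫ a) = v := by
  have h1 : (u⁻¹ * v) ≫ b = toUnit T ≫ η[Q] := by
    rw [MonObj.mul_comp, GrpObj.inv_comp, huv, inv_mul_cancel, Hom.one_def]
  refine ⟨h.lift (u⁻¹ * v) (toUnit T) h1, ?_, ?_⟩
  · show u * (h.lift (u⁻¹ * v) (toUnit T) h1 ≫ a) = v
    rw [h.lift_fst, mul_inv_cancel_left]
  · intro w' hw'
    have : w' ≫ a = u⁻¹ * v := by rw [← hw', inv_mul_cancel_left]
    exact h.hom_ext (by rw [h.lift_fst, this]) (toUnit_unique _ _)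

/-- the torsor trivialisation square: if `P = B ×_Q Q'` and `x₀ : X ⟶ B` lies over `e : X ⟶ Q'`,
then `(x, h) ↦ x₀(x) · a(h) : X ⊗ A ⟶ P` is the base change of `e` along `P ⟶ Q'`. -/
theorem isPullback_torsor {A B Q Q' X P : C} [GrpObj B] [GrpObj Q] (a : A ⟶ B) (b : B ⟶ Q)
    [IsMonHom b] (h : IsPullback a (toUnit A) b η[Q])
    (p₁ : P ⟶ B) (p₂ : P ⟶ Q') (iq : Q' ⟶ Q) (hP : IsPullback p₁ p₂ b iq)
    (x₀ : X ⟶ B) (e : X ⟶ Q') (hx : x₀ ≫ b = e ≫ iq) (c' : X ⊗ A ⟶ P)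
    (hc₁ : c' ≫ p₁ = (fst X A ≫ x₀) * (snd X A ≫ a)) (hc₂ : c' ≫ p₂ = fst X A ≫ e) :
    IsPullback c' (fst X A) p₂ e := by
  refine isPullback_of_forall_existsUnique hc₂ ?_
  intro T z x hzx
  have huv : (x ≫ x₀) ≫ b = (z ≫ p₁) ≫ b := by
    calc (x ≫ x₀) ≫ b = x ≫ e ≫ iq := by rw [Category.assoc, hx]
      _ = (z ≫ p₂) ≫ iq := by rw [hzx, Category.assoc]
      _ = (z ≫ p₁) ≫ b := by rw [Category.assoc, ← hP.w, Category.assoc]
  obtain ⟨w, hw, hwu⟩ := kernel_existsUnique a b h (x ≫ x₀) (z ≫ p₁) huv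
  have hw' : (x ≫ x₀) * (w ≫ a) = z ≫ p₁ := hw
  refine ⟨lift x w, ⟨?_, lift_fst _ _⟩, ?_⟩
  · apply hP.hom_ext
    · rw [Category.assoc, hc₁, MonObj.comp_mul, ← Category.assoc, lift_fst, ← Category.assoc,
        lift_snd, hw']
    · rw [Category.assoc, hc₂, ← Category.assoc, lift_fst, hzx]
  · rintro t ⟨ht1, ht2⟩
    have hsnd : t ≫ snd X A = w := by
      apply hwu
      show (x ≫ x₀) * ((t ≫ snd X A) ≫ a) = z ≫ p₁
      have hz : z ≫ p₁ = t ≫ (c' ≫ p₁) := by rw [← ht1, Category.assoc]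
      rw [hz, hc₁, MonObj.comp_mul, ← Category.assoc, ht2, ← Category.assoc]
    apply CartesianMonoidalCategory.hom_ext
    · rw [ht2, lift_fst]
    · rw [hsnd, lift_snd]

end Groth.Agent.Lib.Helper98.GrpExtTors
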