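import Mathlib
import Groth.Agent.Lib.Helper98.GrpUnivOpen

/-!
helper98: `(x, y) ↦ a(x) · w(y)` is flat when `a` and `V ⟶ S` are flat; fibrewise density and
products of dense opens in the fibres of a group scheme over a general base (after helper40's
`DenseMul` over a field).
-/

set_option autoImplicit false
universe u

open CategoryTheory CategoryTheory.Limits MonoidalCategory CartesianMonoidalCategory MonObj GrpObj
  AlgebraicGeometry

namespace Groth.Agent.Lib.Helper98.GrpFppfMul

open Groth.Agent.Lib.Helper98.GrpUnivOpen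

noncomputable section

variable {S : Scheme.{u}}

theorem flat_mul {K Vo : Over S} [GrpObj K] (w a : Vo ⟶ K) [Flat a.left] [Flat Vo.hom] :
    Flat ((fst Vo Vo ≫ a) * (snd Vo Vo ≫ w)).left := by
  have e : (fst Vo Vo ≫ a) * (snd Vo Vo ≫ w) = (a ▷ Vo) ≫ (transl w).hom ≫ fst K Vo := by
    simp only [transl, lift_fst]
    rw [MonObj.comp_mul, whiskerRight_fst, ← Category.assoc, whiskerRight_snd]
  rw [e, Over.comp_left, Over.comp_left]
  have h1 : Flat (a ▷ Vo).left :=
    MorphismProperty.of_isPullback (P := @Flat) (isPullback_whiskerRight' Vo a).flip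
      inferInstance
  have h2 : IsIso (transl w).hom.left :=
    inferInstanceAs (IsIso ((Over.forget _).map (transl w).hom))
  have h3 : Flat (fst K Vo).left := by
    rw [Over.fst_left]; infer_instance
  infer_instance

/-- helper40's `exists_mul_of_dense` with the density hypotheses stated upstairs. -/
theorem exists_mul_of_dense' (G : Over S) [GrpObj G] (U V : G.left.Opens) (g : G.left)
    (K' : Over S) (gK : K' ⟶ G) (hpt : ∀ t : K'.left, gK.left.base t = g)
    (hU : Dense ((fst G K').left.base ⁻¹' (U : Set G.left)))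
    (hV : ((fst G K').left.base ⁻¹' (V : Set G.left)).Nonempty) :
    ∃ z : ↥(G ⊗ G).left, (fst G G).left.base z ∈ U ∧ (snd G G).left.base z ∈ V ∧
      μ[G].left.base z = g := by
  let a : G ⊗ K' ⟶ G := fst G K'
  let c : G ⊗ K' ⟶ G := snd G K' ≫ gK
  let ψ : G ⊗ K' ⟶ G := a⁻¹ * c
  let τ : G ⊗ K' ⟶ G ⊗ G := lift a ψ
  let θ : G ⊗ K' ⟶ G ⊗ K' := lift ψ (snd G K')
  let θ' : G ⊗ K' ⟶ G ⊗ K' := lift (c * a⁻¹) (snd G K')
  have hθ'a : θ' ≫ a = c * a⁻¹ := lift_fst _ _
  have hθ'c : θ' ≫ c = c := by
    show θ' ≫ snd G K' ≫ gK = snd G K' ≫ gK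
    rw [← Category.assoc, lift_snd]
  have hθθ : θ' ≫ θ = 𝟙 _ := by
    apply CartesianMonoidalCategory.hom_ext
    · rw [Category.assoc, lift_fst, Category.id_comp]
      show θ' ≫ (a⁻¹ * c) = a
      rw [MonObj.comp_mul, GrpObj.comp_inv, hθ'a, hθ'c]
      group
    · rw [Category.assoc, lift_snd, lift_snd, Category.id_comp]
  have hψ : θ ≫ a = ψ := lift_fst _ _
  have hθsurj : Function.Surjective θ.left.base := by
    intro t
    refine ⟨θ'.left.base t, ?_⟩
    have := congrArg (fun f => f.left.base t) hθθ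
    simpa using this
  have hBo : IsOpen (ψ.left.base ⁻¹' (V : Set G.left)) :=
    V.isOpen.preimage ψ.left.base.hom.continuous
  have hBn : (ψ.left.base ⁻¹' (V : Set G.left)).Nonempty := by
    obtain ⟨t₀, ht₀⟩ := hV
    obtain ⟨t', ht'⟩ := hθsurj t₀
    refine ⟨t', ?_⟩
    show ψ.left.base t' ∈ (V : Set G.left)
    have h2 := congrArg (fun f => f.left.base t') hψ
    simp only [Over.comp_left, Scheme.Hom.comp_base, TopCat.comp_app] at h2
    rw [← h2, ht']
    exact ht₀
  obtain ⟨t, htB, htA⟩ := hU.inter_open_nonempty _ hBo hBn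
  refine ⟨τ.left.base t, ?_, ?_, ?_⟩
  · have : τ ≫ fst G G = a := lift_fst _ _
    have h2 := congrArg (fun f => f.left.base t) this
    simp only [Over.comp_left, Scheme.Hom.comp_base, TopCat.comp_app] at h2
    rw [h2]
    exact htA
  · have : τ ≫ snd G G = ψ := lift_snd _ _
    have h2 := congrArg (fun f => f.left.base t) this
    simp only [Over.comp_left, Scheme.Hom.comp_base, TopCat.comp_app] at h2
    rw [h2]
    exact htB
  · have : τ ≫ μ[G] = c := by
      show a * (a⁻¹ * c) = c
      group
    have h2 := congrArg (fun f => f.left.base t) this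
    simp only [Over.comp_left, Scheme.Hom.comp_base, TopCat.comp_app] at h2
    rw [h2]
    exact hpt _

/-- density in the scheme-theoretic fibre from the maximal points of the topological fibre. -/
theorem dense_fiber_of_maximal {X : Scheme.{u}} (π : X ⟶ S) (U : X.Opens) (s : S)
    (h : ∀ g : ↥(π.base ⁻¹' {s}), closure {g} ∈ irreducibleComponents ↥(π.base ⁻¹' {s}) →
      g.1 ∈ U) :
    Dense ((π.fiberι s).base ⁻¹' (U : Set X)) := by
  haveI hT : QuasiSober ↥(π.base ⁻¹' {s}) :=
    (π.fiberHomeo s).symm.isOpenEmbedding.quasiSober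
  let D : Set ↥(π.base ⁻¹' {s}) := {t | t.1 ∈ U}
  have hD : Dense D := by
    intro y
    obtain ⟨ξ, hξ⟩ := QuasiSober.sober (isIrreducible_irreducibleComponent (x := y))
      (isClosed_irreducibleComponent (x := y))
    have hξU : ξ ∈ D := h ξ (by
      rw [hξ.def]; exact irreducibleComponent_mem_irreducibleComponents y)
    have : y ∈ closure ({ξ} : Set ↥(π.base ⁻¹' {s})) := by
      rw [hξ.def]; exact mem_irreducibleComponent
    exact closure_mono (Set.singleton_subset_iff.mpr hξU) this
  have := hD.preimage (π.fiberHomeo s).isOpenMap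
  convert this using 1
  ext x
  simp only [Set.mem_preimage, D, Set.mem_ofPred_eq, Scheme.Hom.fiberHomeo_apply]
  exact Iff.rfl

theorem dense_preimage_fst (G : Over S) (U : G.left.Opens) (g : G.left)
    (hF : Dense ((G.hom.fiberι (G.hom.base g)).base ⁻¹' (U : Set G.left))) :
    Dense ((fst G (Over.mk (G.left.fromSpecResidueField g ≫ G.hom))).left.base ⁻¹'
      (U : Set G.left)) := by
  set K' : Over S := Over.mk (G.left.fromSpecResidueField g ≫ G.hom) with hK'
  let κmap := Spec.map (G.hom.residueFieldMap g)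
  have hK : K'.hom = κmap ≫ S.fromSpecResidueField (G.hom.base g) :=
    (Scheme.Hom.SpecMap_residueFieldMap_fromSpecResidueField G.hom g).symm
  let a : pullback G.hom K'.hom ⟶ G.left := pullback.fst G.hom K'.hom
  let b : pullback G.hom K'.hom ⟶ _ := pullback.snd G.hom K'.hom
  let ℓ : pullback G.hom K'.hom ⟶ G.hom.fiber (G.hom.base g) :=
    pullback.lift a (b ≫ κmap) (by rw [Category.assoc, ← hK]; exact pullback.condition)
  have hℓ1 : ℓ ≫ G.hom.fiberι (G.hom.base g) = a := pullback.lift_fst _ _ _
  have hℓ2 : ℓ ≫ G.hom.fiberToSpecResidueField (G.hom.base g) = b ≫ κmap :=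
    pullback.lift_snd _ _ _
  have hbig : IsPullback (ℓ ≫ G.hom.fiberι (G.hom.base g)) b G.hom
      (κmap ≫ S.fromSpecResidueField (G.hom.base g)) := by
    rw [hℓ1, ← hK]; exact IsPullback.of_hasPullback _ _
  have hsq : IsPullback ℓ b (G.hom.fiberToSpecResidueField (G.hom.base g)) κmap :=
    IsPullback.of_right hbig hℓ2 (IsPullback.of_hasPullback _ _)
  have hκ : UniversallyOpen κmap := inferInstance
  have hℓo : UniversallyOpen ℓ :=
    MorphismProperty.of_isPullback (P := @UniversallyOpen) hsq.flip hκ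
  have := hF.preimage ℓ.isOpenMap
  have hfst : (fst G K').left = a := Over.fst_left
  rw [hfst, ← hℓ1]
  exact this

end

end Groth.Agent.Lib.Helper98.GrpFppfMul
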