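import Groth.Agent.Lib.Helper98.LGFam

/-!
# LG-rings: local-global principle for modules over an `R`-algebra `Λ`
-/

namespace Groth.Agent.Lib.Helper98.LG

open Module

universe u v w

variable {R : Type u} [CommRing R] {Λ : Type v} [Ring Λ] [Algebra R Λ]
  {P : Type w} {Q : Type w} [AddCommGroup P] [Module R P] [Module Λ P] [IsScalarTower R Λ P]
  [AddCommGroup Q] [Module R Q] [Module Λ Q] [IsScalarTower R Λ Q]

omit [Module R P] [IsScalarTower R Λ P] in
/-- `Hom_Λ(P, Q)` is a finite `R`-module when `P` is f.g. projective over `Λ` and `Q` is finite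
over `R`. -/
theorem finite_hom [Module.Finite Λ P] [Module.Projective Λ P] [Module.Finite R Q] :
    Module.Finite R (P →ₗ[Λ] Q) := by
  obtain ⟨k, f, g, -, -, hfg⟩ := Module.Finite.exists_comp_eq_id_of_projective Λ P
  have hfg' : ∀ x, f (g x) = x := fun x => congrArg (fun φ : P →ₗ[Λ] P => φ x) hfg
  let Ψ : (Fin k → Q) →ₗ[R] (P →ₗ[Λ] Q) :=
    (LinearMap.lcomp R Q g) ∘ₗ ((Pi.basisFun Λ (Fin k)).constr R).toLinearMap
  apply Module.Finite.of_surjective Ψ
  intro α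
  refine ⟨fun c => α (f (Pi.single c 1)), ?_⟩
  ext p
  simp only [Ψ, LinearMap.coe_comp, LinearEquiv.coe_coe, Function.comp_apply, LinearMap.lcomp_apply,
    Module.Basis.constr_apply_fintype, Pi.basisFun_equivFun, LinearEquiv.refl_apply]
  conv_rhs => rw [← hfg' p, ← (Pi.basisFun Λ (Fin k)).sum_repr (g p)]
  simp [map_sum]

variable [Module.Finite R Q] [Module.Projective R Q]
  [Module.Finite R (P →ₗ[Λ] Q)] [Module.Finite R (Q →ₗ[Λ] P)]

/-- One-sided LG principle for `Λ`-modules. -/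
theorem exists_surjective_of_local (hR : LGRing.IsLGRing R)
    (h : ∀ (m : Ideal R) [m.IsMaximal], ∃ (α : P →ₗ[Λ] Q) (β : Q →ₗ[Λ] P),
      ∀ (ℓ : Q →ₗ[R] R) (n : Q), ℓ (α (β n)) - ℓ n ∈ m) :
    ∃ α : P →ₗ[Λ] Q, Function.Surjective α := by
  obtain ⟨n₁, s₁, hs₁⟩ := Module.Finite.exists_fin (R := R) (M := P →ₗ[Λ] Q)
  obtain ⟨n₂, s₂, hs₂⟩ := Module.Finite.exists_fin (R := R) (M := Q →ₗ[Λ] P)
  have key := exists_bijective_comp_of_families hR
    (fun i => (s₁ i).restrictScalars R) (fun j => (s₂ j).restrictScalars R) (by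
    intro m _
    obtain ⟨α, β, hαβ⟩ := h m
    obtain ⟨x, hx⟩ := (Submodule.mem_span_range_iff_exists_fun R).mp
      (hs₁ ▸ Submodule.mem_top : α ∈ Submodule.span R (Set.range s₁))
    obtain ⟨y, hy⟩ := (Submodule.mem_span_range_iff_exists_fun R).mp
      (hs₂ ▸ Submodule.mem_top : β ∈ Submodule.span R (Set.range s₂))
    refine ⟨x, y, ?_⟩
    intro ℓ n
    have e1 : ∀ p, (∑ i, x i • (s₁ i).restrictScalars R) p = α p := by
      intro p; rw [← hx]; simp [LinearMap.sum_apply]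
    have e2 : ∀ q, (∑ j, y j • (s₂ j).restrictScalars R) q = β q := by
      intro q; rw [← hy]; simp [LinearMap.sum_apply]
    rw [e1, e2]
    exact hαβ ℓ n)
  obtain ⟨x, y, hxy⟩ := key
  refine ⟨∑ i, x i • s₁ i, ?_⟩
  rw [LinearMap.coe_comp] at hxy
  have := Function.Surjective.of_comp hxy.2
  intro q
  obtain ⟨p, hp⟩ := this q
  exact ⟨p, by rw [← hp]; simp [LinearMap.sum_apply]⟩

variable [Module.Finite R P] [Module.Projective R P]

/-- Two-sided LG principle for `Λ`-modules. -/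
theorem nonempty_linearEquiv_of_local_alg (hR : LGRing.IsLGRing R)
    (h : ∀ (m : Ideal R) [m.IsMaximal], ∃ (α : P →ₗ[Λ] Q) (β : Q →ₗ[Λ] P),
      (∀ (ℓ : Q →ₗ[R] R) (n : Q), ℓ (α (β n)) - ℓ n ∈ m) ∧
      (∀ (ℓ : P →ₗ[R] R) (n : P), ℓ (β (α n)) - ℓ n ∈ m)) :
    Nonempty (P ≃ₗ[Λ] Q) := by
  obtain ⟨n₁, s₁, hs₁⟩ := Module.Finite.exists_fin (R := R) (M := P →ₗ[Λ] Q)
  obtain ⟨n₂, s₂, hs₂⟩ := Module.Finite.exists_fin (R := R) (M := Q →ₗ[Λ] P)
  have key := exists_bijective_of_families hR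
    (fun i => (s₁ i).restrictScalars R) (fun j => (s₂ j).restrictScalars R) (by
    intro m _
    obtain ⟨α, β, hαβ, hβα⟩ := h m
    obtain ⟨x, hx⟩ := (Submodule.mem_span_range_iff_exists_fun R).mp
      (hs₁ ▸ Submodule.mem_top : α ∈ Submodule.span R (Set.range s₁))
    obtain ⟨y, hy⟩ := (Submodule.mem_span_range_iff_exists_fun R).mp
      (hs₂ ▸ Submodule.mem_top : β ∈ Submodule.span R (Set.range s₂))
    have e1 : ∀ p, (∑ i, x i • (s₁ i).restrictScalars R) p = α p := by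
      intro p; rw [← hx]; simp [LinearMap.sum_apply]
    have e2 : ∀ q, (∑ j, y j • (s₂ j).restrictScalars R) q = β q := by
      intro q; rw [← hy]; simp [LinearMap.sum_apply]
    refine ⟨x, y, ?_, ?_⟩
    · intro ℓ n
      rw [e1, e2]
      exact hαβ ℓ n
    · intro ℓ n
      rw [e2, e1]
      exact hβα ℓ n)
  obtain ⟨x, hx⟩ := key
  refine ⟨LinearEquiv.ofBijective (∑ i, x i • s₁ i) ?_⟩
  convert hx using 1
  ext p
  simp [LinearMap.sum_apply]

end Groth.Agent.Lib.Helper98.LG
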