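import Groth.Agent.Lib.Helper98.LGRing

/-!
# LG-rings: local-global principle for maps taken from finitely generated families

`exists_bijective_comp_of_families`: given finite families `φ i : M → N`, `ψ j : N → M` of linear maps
between f.g. projective modules over an LG-ring, if for every maximal ideal `m` some linear
combinations `α = ∑ x i • φ i`, `β = ∑ y j • ψ j` satisfy `α ∘ β ≡ id` mod `m` (tested on linear
forms), then some linear combinations have `α ∘ β` bijective.  Two-sided version too.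
-/

namespace Groth.Agent.Lib.Helper98.LG

open MvPolynomial Module

universe u v w

variable {R : Type u} [CommRing R]

section PolyBil

variable {ι κ : Type} [Fintype ι] [Fintype κ] {b : ℕ}

/-- determinant of a matrix depending bilinearly on two tuples of variables -/
noncomputable def polyBil (Cm : ι → κ → Matrix (Fin b) (Fin b) R) (C₀ : Matrix (Fin b) (Fin b) R) :
    MvPolynomial (ι ⊕ κ) R :=
  (∑ i, ∑ j, (X (Sum.inl i) * X (Sum.inr j) : MvPolynomial (ι ⊕ κ) R) •
      ((Cm i j).map (C : R →+* MvPolynomial (ι ⊕ κ) R)) +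
    C₀.map (C : R →+* MvPolynomial (ι ⊕ κ) R)).det

lemma eval_polyBil (Cm : ι → κ → Matrix (Fin b) (Fin b) R) (C₀ : Matrix (Fin b) (Fin b) R)
    (s : ι ⊕ κ → R) :
    eval s (polyBil Cm C₀) =
      (∑ i, ∑ j, (s (Sum.inl i) * s (Sum.inr j)) • Cm i j + C₀).det := by
  rw [polyBil, RingHom.map_det]
  congr 1
  ext p q
  simp [Matrix.add_apply, Matrix.sum_apply, Matrix.smul_apply]

end PolyBil


section Fam

variable {M : Type v} {N : Type w} [AddCommGroup M] [Module R M]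
  [AddCommGroup N] [Module R N]
  {ι κ : Type} [Fintype ι] [Fintype κ]

lemma sum_smul_toMatrix {b : ℕ} (πN : (Fin b → R) →ₗ[R] N) (iN : N →ₗ[R] (Fin b → R))
    (φ : ι → M →ₗ[R] N) (ψ : κ → N →ₗ[R] M) (x : ι → R) (y : κ → R) :
    ∑ i, ∑ j, (x i * y j) • LinearMap.toMatrix' (iN ∘ₗ φ i ∘ₗ ψ j ∘ₗ πN) +
        (1 - LinearMap.toMatrix' (iN ∘ₗ πN)) =
      LinearMap.toMatrix' (iN ∘ₗ ((∑ i, x i • φ i) ∘ₗ (∑ j, y j • ψ j)) ∘ₗ πN +
        (LinearMap.id - iN ∘ₗ πN)) := by
  rw [map_add, map_sub, LinearMap.toMatrix'_id]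
  congr 1
  simp only [← map_smul, ← map_sum]
  congr 1
  ext v k
  simp [Finset.sum_apply, mul_assoc, map_sum, Finset.smul_sum, smul_smul]

variable [Module.Finite R N] [Module.Projective R N]

/-- One-sided local-global principle for families. -/
theorem exists_bijective_comp_of_families (hR : LGRing.IsLGRing R)
    (φ : ι → M →ₗ[R] N) (ψ : κ → N →ₗ[R] M)
    (h : ∀ (m : Ideal R) [m.IsMaximal], ∃ (x : ι → R) (y : κ → R),
      ∀ (ℓ : N →ₗ[R] R) (n : N), ℓ ((∑ i, x i • φ i) ((∑ j, y j • ψ j) n)) - ℓ n ∈ m) :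
    ∃ (x : ι → R) (y : κ → R), Function.Bijective ((∑ i, x i • φ i) ∘ₗ (∑ j, y j • ψ j)) := by
  obtain ⟨b, πN, iN, -, -, hN⟩ := Module.Finite.exists_comp_eq_id_of_projective R N
  set Cm : ι → κ → Matrix (Fin b) (Fin b) R :=
    fun i j => LinearMap.toMatrix' (iN ∘ₗ φ i ∘ₗ ψ j ∘ₗ πN) with hCm
  set C₀ : Matrix (Fin b) (Fin b) R := 1 - LinearMap.toMatrix' (iN ∘ₗ πN) with hC₀
  obtain ⟨s, hs⟩ := exists_isUnit_eval hR (polyBil Cm C₀) (by
    intro m _
    obtain ⟨x, y, hxy⟩ := h m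
    refine ⟨Sum.elim x y, ?_⟩
    rw [eval_polyBil]
    simp only [Sum.elim_inl, Sum.elim_inr, hCm, hC₀]
    rw [sum_smul_toMatrix]
    have d1 := det_sub_one_mem m (LinearMap.toMatrix' (iN ∘ₗ ((∑ i, x i • φ i) ∘ₗ
      (∑ j, y j • ψ j)) ∘ₗ πN + (LinearMap.id - iN ∘ₗ πN))) (by
      intro i j
      have := hxy ((LinearMap.proj i) ∘ₗ iN) (πN (Pi.single j 1))
      simp only [Matrix.sub_apply, LinearMap.toMatrix'_apply, Matrix.one_apply]
      convert this using 1
      simp only [LinearMap.add_apply, LinearMap.comp_apply, LinearMap.sub_apply,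
        LinearMap.id_apply, Pi.add_apply, Pi.sub_apply, LinearMap.proj_apply, Pi.single_apply]
      ring)
    intro hmem
    have := m.sub_mem hmem d1
    rw [sub_sub_cancel] at this
    exact (Ideal.ne_top_iff_one m).mp (Ideal.IsMaximal.ne_top inferInstance) this)
  refine ⟨fun i => s (Sum.inl i), fun j => s (Sum.inr j), ?_⟩
  rw [eval_polyBil] at hs
  simp only [hCm, hC₀] at hs
  rw [sum_smul_toMatrix] at hs
  exact bijective_of_isUnit_det πN iN hN _ hs

variable [Module.Finite R M] [Module.Projective R M]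

/-- Two-sided local-global principle for families. -/
theorem exists_bijective_of_families (hR : LGRing.IsLGRing R)
    (φ : ι → M →ₗ[R] N) (ψ : κ → N →ₗ[R] M)
    (h : ∀ (m : Ideal R) [m.IsMaximal], ∃ (x : ι → R) (y : κ → R),
      (∀ (ℓ : N →ₗ[R] R) (n : N), ℓ ((∑ i, x i • φ i) ((∑ j, y j • ψ j) n)) - ℓ n ∈ m) ∧
      (∀ (ℓ : M →ₗ[R] R) (n : M), ℓ ((∑ j, y j • ψ j) ((∑ i, x i • φ i) n)) - ℓ n ∈ m)) :
    ∃ (x : ι → R), Function.Bijective (∑ i, x i • φ i : M →ₗ[R] N) := by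
  obtain ⟨b, πN, iN, -, -, hN⟩ := Module.Finite.exists_comp_eq_id_of_projective R N
  obtain ⟨a, πM, iM, -, -, hM⟩ := Module.Finite.exists_comp_eq_id_of_projective R M
  set Cm : ι → κ → Matrix (Fin b) (Fin b) R :=
    fun i j => LinearMap.toMatrix' (iN ∘ₗ φ i ∘ₗ ψ j ∘ₗ πN) with hCm
  set C₀ : Matrix (Fin b) (Fin b) R := 1 - LinearMap.toMatrix' (iN ∘ₗ πN) with hC₀
  set Dm : ι → κ → Matrix (Fin a) (Fin a) R :=
    fun i j => LinearMap.toMatrix' (iM ∘ₗ ψ j ∘ₗ φ i ∘ₗ πM) with hDm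
  set D₀ : Matrix (Fin a) (Fin a) R := 1 - LinearMap.toMatrix' (iM ∘ₗ πM) with hD₀
  have hD : ∀ (x : ι → R) (y : κ → R), ∑ i, ∑ j, (x i * y j) • Dm i j + D₀ =
      LinearMap.toMatrix' (iM ∘ₗ ((∑ j, y j • ψ j) ∘ₗ (∑ i, x i • φ i)) ∘ₗ πM +
        (LinearMap.id - iM ∘ₗ πM)) := by
    intro x y
    rw [← sum_smul_toMatrix, Finset.sum_comm]
    simp only [hDm, hD₀, mul_comm]
  obtain ⟨s, hs⟩ := exists_isUnit_eval hR (polyBil Cm C₀ * polyBil Dm D₀) (by
    intro m _
    obtain ⟨x, y, hxy, hyx⟩ := h m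
    refine ⟨Sum.elim x y, ?_⟩
    rw [map_mul, eval_polyBil, eval_polyBil]
    simp only [Sum.elim_inl, Sum.elim_inr]
    rw [hD]
    simp only [hCm, hC₀]
    rw [sum_smul_toMatrix]
    have d1 := det_sub_one_mem m (LinearMap.toMatrix' (iN ∘ₗ ((∑ i, x i • φ i) ∘ₗ
      (∑ j, y j • ψ j)) ∘ₗ πN + (LinearMap.id - iN ∘ₗ πN))) (by
      intro i j
      have := hxy ((LinearMap.proj i) ∘ₗ iN) (πN (Pi.single j 1))
      simp only [Matrix.sub_apply, LinearMap.toMatrix'_apply, Matrix.one_apply]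
      convert this using 1
      simp only [LinearMap.add_apply, LinearMap.comp_apply, LinearMap.sub_apply,
        LinearMap.id_apply, Pi.add_apply, Pi.sub_apply, LinearMap.proj_apply, Pi.single_apply]
      ring)
    have d2 := det_sub_one_mem m (LinearMap.toMatrix' (iM ∘ₗ ((∑ j, y j • ψ j) ∘ₗ
      (∑ i, x i • φ i)) ∘ₗ πM + (LinearMap.id - iM ∘ₗ πM))) (by
      intro i j
      have := hyx ((LinearMap.proj i) ∘ₗ iM) (πM (Pi.single j 1))
      simp only [Matrix.sub_apply, LinearMap.toMatrix'_apply, Matrix.one_apply]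
      convert this using 1
      simp only [LinearMap.add_apply, LinearMap.comp_apply, LinearMap.sub_apply,
        LinearMap.id_apply, Pi.add_apply, Pi.sub_apply, LinearMap.proj_apply, Pi.single_apply]
      ring)
    intro hmem
    rw [← Ideal.Quotient.eq_zero_iff_mem] at d1 d2 hmem
    rw [map_sub, sub_eq_zero, map_one] at d1 d2
    rw [map_mul, d1, d2, one_mul] at hmem
    exact one_ne_zero hmem)
  rw [map_mul, eval_polyBil, eval_polyBil, IsUnit.mul_iff] at hs
  obtain ⟨hs1, hs2⟩ := hs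
  rw [hD] at hs2
  simp only [hCm, hC₀] at hs1
  rw [sum_smul_toMatrix] at hs1
  have b1 := bijective_of_isUnit_det πN iN hN _ hs1
  have b2 := bijective_of_isUnit_det πM iM hM _ hs2
  rw [LinearMap.coe_comp] at b1 b2
  exact ⟨fun i => s (Sum.inl i), Function.Injective.of_comp b2.1, Function.Surjective.of_comp b1.2⟩

end Fam

end Groth.Agent.Lib.Helper98.LG
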