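import Groth.Prelude.Def_W4c6puncthilbintroLift
import Groth.Agent.Lib.Helper98.DualFlat
import Groth.Agent.S11294

/-!
# First-order liftings of an ideal and flatness over the dual numbers (for S19452)
-/

set_option autoImplicit false
universe u
attribute [local instance] W4c6puncthilbintro.dualAlgebra

namespace Groth.Agent.Lib.Helper98.LiftIdeal

open TrivSqZeroExt W4c6puncthilbintro

variable (A : Type u) [CommRing A] (R : Type u) [CommRing R] [Algebra A R]

lemma algebraMap_dual (b : DualNumber A) :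
    algebraMap (DualNumber A) (DualNumber R) b = dualMap A R b := rfl

instance towerDual : IsScalarTower A (DualNumber A) (DualNumber R) :=
  IsScalarTower.of_algebraMap_eq (R := A) (S := DualNumber A) (A := DualNumber R) (fun a => by
    rw [algebraMap_dual]
    change algebraMap A (DualNumber R) a = dualMap A R (inl a)
    rw [dualMap_inl])

variable {R}
variable (J : Ideal (DualNumber R))

instance towerQuot : IsScalarTower A (DualNumber A) (DualNumber R ⧸ J) := ⟨fun a b n => by
  obtain ⟨x, rfl⟩ := Ideal.Quotient.mk_surjective n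
  change Ideal.Quotient.mk J ((a • b) • x) = Ideal.Quotient.mk J (a • (b • x))
  rw [smul_assoc]⟩

lemma eps_smul_mk (x : DualNumber R) :
    (DualNumber.eps : DualNumber A) • (Ideal.Quotient.mk J x) = Ideal.Quotient.mk J (DualNumber.eps * x) := by
  change Ideal.Quotient.mk J ((DualNumber.eps : DualNumber A) • x) = _
  rw [Algebra.smul_def, algebraMap_dual, dualMap_eps]

lemma eps_smul (n : DualNumber R ⧸ J) :
    (DualNumber.eps : DualNumber A) • n = Ideal.Quotient.mk J DualNumber.eps * n := by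
  obtain ⟨x, rfl⟩ := Ideal.Quotient.mk_surjective n
  rw [eps_smul_mk, map_mul]

lemma dual_decomp (b : DualNumber A) :
    ∃ a a' : A, b = algebraMap A (DualNumber A) a + DualNumber.eps * algebraMap A (DualNumber A) a' := by
  refine ⟨b.fst, b.snd, ?_⟩
  ext <;> simp [TrivSqZeroExt.algebraMap_eq_inl]

lemma dual_exact (b : DualNumber A) (hb : (DualNumber.eps : DualNumber A) * b = 0) :
    ∃ b', b = (DualNumber.eps : DualNumber A) * b' := by
  refine ⟨inl b.snd, ?_⟩
  have h1 : b.fst = 0 := by
    have := congrArg TrivSqZeroExt.snd hb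
    simpa using this
  ext <;> simp [h1]

lemma map_fstHom_eq : Ideal.map (TrivSqZeroExt.fstHom A R R) J
    = Ideal.map (TrivSqZeroExt.fstHom R R R) J := rfl

variable {I : Ideal R}

lemma mem_liftIdeal (φ : I →ₗ[R] R ⧸ I) (a b : R) :
    (inl a + inr b : DualNumber R) ∈ liftIdeal I φ ↔
      ∃ h : a ∈ I, Ideal.Quotient.mk I b = φ ⟨a, h⟩ := by
  change (∃ h : (inl a + inr b : DualNumber R).fst ∈ I,
    Ideal.Quotient.mk I (inl a + inr b : DualNumber R).snd =
      φ ⟨(inl a + inr b : DualNumber R).fst, h⟩) ↔ _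
  have h1 : (inl a + inr b : DualNumber R).fst = a := by simp
  have h2 : (inl a + inr b : DualNumber R).snd = b := by simp
  simp only [h1, h2]

/-- reduction mod `ε` and `I` -/
noncomputable def piHom (hJ : ∀ x ∈ J, x.fst ∈ I) : (DualNumber R ⧸ J) →ₐ[A] (R ⧸ I) :=
  Ideal.Quotient.liftₐ J ((Ideal.Quotient.mkₐ A I).comp (TrivSqZeroExt.fstHom A R R))
    (fun x hx => by
      simp only [AlgHom.comp_apply, TrivSqZeroExt.fstHom_apply, Ideal.Quotient.mkₐ_eq_mk]
      exact Ideal.Quotient.eq_zero_iff_mem.mpr (hJ x hx))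

lemma piHom_mk (hJ : ∀ x ∈ J, x.fst ∈ I) (x : DualNumber R) :
    piHom A J hJ (Ideal.Quotient.mk J x) = Ideal.Quotient.mk I x.fst := rfl

/-- If `J` reduces to `I` and `ker ε = im ε` on `R[ε] ⧸ J`, then `R[ε] ⧸ J` is flat over `A[ε]`
as soon as `R ⧸ I` is flat over `A`. -/
theorem flat_quotient [Module.Flat A (R ⧸ I)]
    (hmap : J.map (TrivSqZeroExt.fstHom R R R) = I)
    (hflat : ∀ m : DualNumber R ⧸ J, Ideal.Quotient.mk J DualNumber.eps * m = 0 →
      ∃ m' : DualNumber R ⧸ J, m = Ideal.Quotient.mk J DualNumber.eps * m') :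
    Module.Flat (DualNumber A) (DualNumber R ⧸ J) := by
  have hsurj : Function.Surjective (TrivSqZeroExt.fstHom R R R) := fun a => ⟨inl a, by simp⟩
  have hJ : ∀ x ∈ J, x.fst ∈ I := by
    intro x hx
    rw [← hmap]
    exact Ideal.mem_map_of_mem (TrivSqZeroExt.fstHom R R R) hx
  refine DualFlat.flat_of_sqZero_criterion (A := A) (B := DualNumber A) (ε := DualNumber.eps)
    (N := DualNumber R ⧸ J) (Q := R ⧸ I) DualNumber.eps_mul_eps (dual_decomp A)
    (piHom A J hJ).toLinearMap ?_ ?_ ?_
  · intro q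
    obtain ⟨r, rfl⟩ := Ideal.Quotient.mk_surjective q
    exact ⟨Ideal.Quotient.mk J (inl r), by
      rw [AlgHom.toLinearMap_apply, piHom_mk]; simp⟩
  · intro n
    rw [AlgHom.toLinearMap_apply]
    constructor
    · intro hn
      obtain ⟨x, rfl⟩ := Ideal.Quotient.mk_surjective n
      rw [piHom_mk, Ideal.Quotient.eq_zero_iff_mem, ← hmap,
        Ideal.mem_map_iff_of_surjective _ hsurj] at hn
      obtain ⟨y, hy, hyx⟩ := hn
      refine ⟨Ideal.Quotient.mk J (inl (x.snd - y.snd)), ?_⟩
      rw [eps_smul_mk, Ideal.Quotient.eq]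
      have h2 : (x - DualNumber.eps * inl (x.snd - y.snd) : DualNumber R) = y := by
        have hyx' : y.fst = x.fst := hyx
        ext <;> simp [hyx']
      rw [h2]
      exact hy
    · rintro ⟨m, rfl⟩
      rw [eps_smul, map_mul, piHom_mk]
      simp
  · intro n hn
    rw [eps_smul] at hn
    obtain ⟨m', hm'⟩ := hflat n hn
    exact ⟨m', by rw [eps_smul]; exact hm'⟩

end Groth.Agent.Lib.Helper98.LiftIdeal
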