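import Groth.Agent.Lib.Helper24.Lim8DescendSmooth
import Groth.Agent.Lib.Helper54.FlatColim
import Groth.Agent.Lib.Helper54.FlatPkg
import Groth.Agent.Lib.Helper54.FlatStage7

/-!
# Flatness descends through cofiltered limits (EGA IV 11.2.6, scheme form)

Combination of helper24's descent framework (`descends_of_hasRingHomProperty`), helper25's colimit
systems and helper54's Noetherian approximation of flatness.
-/

set_option autoImplicit false
set_option linter.style.haveILetI false

universe u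

open CategoryTheory CategoryTheory.Limits AlgebraicGeometry TensorProduct

namespace Groth.Agent.Lib.Helper98.LimFlat

open Groth.Agent.Lib.Helper25 Groth.Agent.Lib.Helper24.Lim8

section Factor

variable {Z₀ k : Type u} [CommRing Z₀] [CommRing k] [Algebra Z₀ k] {ι : Type u}
  {R' : ι → Type u} [∀ i, CommRing (R' i)] [∀ i, Algebra k (R' i)] [∀ i, Algebra Z₀ (R' i)]
  [∀ i, IsScalarTower Z₀ k (R' i)] {R : Type u} [CommRing R] [Algebra k R] [Algebra Z₀ R]
  [IsScalarTower Z₀ k R] {ρ : ∀ i, R' i →ₐ[k] R} {Φ : ∀ i j, Set (R' i →ₐ[k] R' j)}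

/-- A finitely presented algebra mapping to the colimit of a colimit system factors through a
stage. -/
theorem exists_algHom_of_colimSys (h : IsColimSys k R' R ρ Φ) (T : Type u) [CommRing T]
    [Algebra Z₀ T] [Algebra.FinitePresentation Z₀ T] (τ : T →ₐ[Z₀] R) :
    ∃ (i : ι) (χ : T →ₐ[Z₀] R' i), ∀ t, ρ i (χ t) = τ t := by
  classical
  obtain ⟨n, f, hfsurj, s, hs⟩ := Algebra.FinitePresentation.out (R := Z₀) (A := T)
  obtain ⟨j, -, y, -, hy⟩ := h.exists_lift_family h.nonempty.some
    (fun l : Fin n => τ (f (MvPolynomial.X l)))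
  have hF : ∀ p : MvPolynomial (Fin n) Z₀, ρ j (MvPolynomial.aeval y p) = τ (f p) := by
    intro p
    have h1 : ((ρ j).restrictScalars Z₀).comp (MvPolynomial.aeval y) = τ.comp f := by
      apply MvPolynomial.algHom_ext
      intro l
      simp [hy]
    exact AlgHom.congr_fun h1 p
  obtain ⟨j', φ, hφ, hkill⟩ := h.exists_kill (s.image (MvPolynomial.aeval y)) (by
    intro x hx
    obtain ⟨p, hp, rfl⟩ := Finset.mem_image.1 hx
    rw [hF]
    have hp' : p ∈ RingHom.ker f.toRingHom := by
      rw [← hs]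
      exact Ideal.subset_span hp
    have : f p = 0 := hp'
    rw [this, map_zero])
  have hker : RingHom.ker f.toRingHom ≤
      RingHom.ker ((φ.restrictScalars Z₀).comp (MvPolynomial.aeval y)).toRingHom := by
    rw [← hs, Ideal.span_le]
    intro p hp
    show φ (MvPolynomial.aeval y p) = 0
    exact hkill _ (Finset.mem_image_of_mem _ hp)
  refine ⟨j', AlgHom.liftOfSurjective f hfsurj
    ((φ.restrictScalars Z₀).comp (MvPolynomial.aeval y)) hker, ?_⟩
  intro t
  obtain ⟨p, rfl⟩ := hfsurj t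
  rw [AlgHom.liftOfSurjective_apply]
  show ρ j' (φ (MvPolynomial.aeval y p)) = _
  rw [h.compat_apply hφ, hF]

end Factor

attribute [local instance] Algebra.TensorProduct.rightAlgebra in
/-- Flatness of the base change of a finitely presented algebra descends to a stage of a colimit
system (EGA IV 11.2.6). -/
theorem ringDescends_flat :
    RingDescends (fun {R S} [CommRing R] [CommRing S] f ↦ f.Flat) := by
  intro k _ ι R' _ _ R _ _ ρ Φ h C _ _ _ hs
  classical
  rw [RingHom.flat_algebraMap_iff] at hs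
  obtain ⟨Z₀, i1, i2, S₀, i3, i4, N₀, i5, i6, i7, i8, θ, Θ, hft, -, hfp, hfin, hθ, hΘ⟩ :=
    Groth.Agent.Lib.Helper54.FlatPkg.exists_descent k C C ∅ Set.finite_empty
  haveI : IsNoetherianRing Z₀ := Algebra.FiniteType.isNoetherianRing ℤ Z₀
  haveI : Algebra.FiniteType Z₀ S₀ := inferInstance
  obtain ⟨ΘR⟩ := Groth.Agent.Lib.Helper54.FlatColim.linearEquiv_of_semilinear Z₀ S₀ N₀ θ hθ Θ hΘ
  letI algZR : Algebra Z₀ R := ((algebraMap k R).comp (algebraMap Z₀ k)).toAlgebra
  haveI : IsScalarTower Z₀ k R := IsScalarTower.of_algebraMap_eq (fun _ => rfl)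
  letI algZG : ∀ i, Algebra Z₀ (R' i) := fun i =>
    ((algebraMap k (R' i)).comp (algebraMap Z₀ k)).toAlgebra
  haveI : ∀ i, IsScalarTower Z₀ k (R' i) := fun i => IsScalarTower.of_algebraMap_eq (fun _ => rfl)
  have h1 : Module.Flat R ((S₀ ⊗[Z₀] R) ⊗[S₀] N₀) :=
    (Groth.Agent.Lib.Helper54.FlatColim.flat_baseChange_iff Z₀ k S₀ N₀ C ΘR R).1 hs
  obtain ⟨T, hTfg, hT⟩ := Groth.Agent.Lib.Helper54.FlatStage7.exists_fg_flat Z₀ S₀ N₀ R h1
  have hTflat := hT T le_rfl
  haveI : Algebra.FiniteType Z₀ T := (Subalgebra.fg_iff_finiteType T).1 hTfg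
  haveI : Algebra.FinitePresentation Z₀ T :=
    Algebra.FinitePresentation.of_finiteType.1 inferInstance
  obtain ⟨i, χ, -⟩ := exists_algHom_of_colimSys h T T.val
  refine ⟨i, ?_⟩
  have h2 : Module.Flat (R' i) ((S₀ ⊗[Z₀] R' i) ⊗[S₀] N₀) :=
    Groth.Agent.Lib.Helper54.FlatColim.flat_of_algHom Z₀ S₀ N₀ T (R' i) χ hTflat
  exact RingHom.flat_algebraMap_iff.mpr
    ((Groth.Agent.Lib.Helper54.FlatColim.flat_baseChange_iff Z₀ k S₀ N₀ C ΘR (R' i)).2 h2)

set_option backward.isDefEq.respectTransparency.types false in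
instance flat_respectsIso : MorphismProperty.RespectsIso (@Flat : MorphismProperty Scheme.{u}) :=
  inferInstance

instance : MorphismProperty.RespectsRight @Flat @IsOpenImmersion where
  postcomp i hi f hf := MorphismProperty.comp_mem _ f i hf (by have := hi; infer_instance)

section general

variable {I : Type u} [SmallCategory I] [IsCofiltered I] (D : I ⥤ Scheme.{u}) (c : Cone D)
  (hc : IsLimit c) [∀ {i j} (f : i ⟶ j), IsAffineHom (D.map f)] (i₀ : I)
  {X₀ Y₀ : Scheme.{u}} (f₀ : X₀ ⟶ Y₀) (g₀ : Y₀ ⟶ D.obj i₀)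

include hc in
/-- Flatness descends through cofiltered limits (EGA IV 11.2.6). -/
theorem descends_flat [CompactSpace X₀] [LocallyOfFinitePresentation f₀] :
    Descends D c @Flat i₀ f₀ g₀ :=
  descends_of_hasRingHomProperty D c hc i₀ f₀ g₀ ringDescends_flat

end general

end Groth.Agent.Lib.Helper98.LimFlat
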