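import Mathlib.AlgebraicGeometry.Noetherian
import Mathlib.AlgebraicGeometry.OrderOfVanishing

/-!
# Local finiteness of irreducible components on locally Noetherian schemes
-/

set_option autoImplicit false

namespace Groth.Agent.Lib.Helper98.LocFinComp

open TopologicalSpace Topology AlgebraicGeometry

universe u

section Top

variable {X : Type*} [TopologicalSpace X]

/-- Only finitely many irreducible components of `Z` meet an open Noetherian subspace. -/
theorem finite_irreducibleComponents_meeting (Z : Set X) (U : Set X) (hU : IsOpen U)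
    [NoetherianSpace ↥U] :
    {T : irreducibleComponents ↥Z | (((↑) '' (T.1 : Set ↥Z) : Set X) ∩ U).Nonempty}.Finite := by
  let ZU : Set ↥Z := {z | z.1 ∈ U}
  have hZU : IsOpen ZU := hU.preimage continuous_subtype_val
  have hemb : IsOpenEmbedding (Subtype.val : ↥ZU → ↥Z) := hZU.isOpenEmbedding_subtypeVal
  let i : ↥ZU → ↥U := fun z => ⟨z.1.1, z.2⟩
  have hi : IsInducing i := by
    have h1 : IsInducing ((Subtype.val : ↥U → X) ∘ i) :=
      (IsInducing.subtypeVal.comp IsInducing.subtypeVal :
        IsInducing ((Subtype.val : ↥Z → X) ∘ (Subtype.val : ↥ZU → ↥Z)))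
    have hci : Continuous i :=
      Continuous.subtype_mk (continuous_subtype_val.comp continuous_subtype_val) _
    exact IsInducing.of_comp hci continuous_subtype_val h1
  have : NoetherianSpace ↥ZU := hi.noetherianSpace
  have hfin := NoetherianSpace.finite_irreducibleComponents (α := ↥ZU)
  let g : irreducibleComponents ↥Z → Set ↥ZU := fun T => Subtype.val ⁻¹' T.1
  have hne : ∀ T : irreducibleComponents ↥Z,
      (((↑) '' (T.1 : Set ↥Z) : Set X) ∩ U).Nonempty →
      ((T.1 : Set ↥Z) ∩ Set.range (Subtype.val : ↥ZU → ↥Z)).Nonempty := by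
    rintro T ⟨_, ⟨z, hz, rfl⟩, hzU⟩
    exact ⟨z, hz, ⟨⟨z, hzU⟩, rfl⟩⟩
  apply Set.Finite.of_finite_image (f := g)
  · apply hfin.subset
    rintro _ ⟨T, hT, rfl⟩
    exact preimage_mem_irreducibleComponents T.2 hemb (hne T hT)
  · intro T hT T' hT' h
    have key : ∀ S : irreducibleComponents ↥Z,
        (((↑) '' (S.1 : Set ↥Z) : Set X) ∩ U).Nonempty →
        closure ((Subtype.val : ↥ZU → ↥Z) '' g S) = S.1 := by
      intro S hS
      apply closure_image_preimage_of_isPreirreducible _ hemb.isOpenMap S.1 _ S.2.1.2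
        (isClosed_of_mem_irreducibleComponents _ S.2)
      obtain ⟨_, hz, ⟨w, rfl⟩⟩ := hne S hS
      exact ⟨w, hz⟩
    apply Subtype.ext
    rw [← key T hT, ← key T' hT', h]

end Top

/-- The irreducible components of a subset of a locally Noetherian scheme form a locally finite
family. -/
theorem locallyFinite_irreducibleComponents (X : Scheme.{u}) [IsLocallyNoetherian X] (Z : Set ↥X) :
    LocallyFinite (fun T : ↥(irreducibleComponents ↥Z) => ((↑) '' (T.1 : Set ↥Z) : Set ↥X)) := by
  intro x
  obtain ⟨W, hW, hxW, -⟩ := exists_isAffineOpen_mem_and_subset (x := x) (U := ⊤) trivial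
  have : IsNoetherianRing Γ(X, W) := IsLocallyNoetherian.component_noetherian ⟨W, hW⟩
  have h0 : NoetherianSpace W := noetherianSpace_of_isAffineOpen W hW
  have : NoetherianSpace ↥(W.1) := h0
  exact ⟨W.1, W.2.mem_nhds hxW, finite_irreducibleComponents_meeting Z W.1 W.2⟩

end Groth.Agent.Lib.Helper98.LocFinComp
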