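import Mathlib
import Groth.Agent.S12442
import Groth.Agent.S0114
import Groth.Agent.S4091
import Groth.Agent.Lib.Helper78.AlgSpLocPFlat
import Groth.Agent.Lib.Helper78.AlgSpLocP2
import Groth.Agent.Lib.Helper51.AlgSpCharts
import Groth.Agent.Lib.Helper30.AlgSpQuotEff
import Groth.Agent.Lib.Helper30.AlgSpDesc

/-!
# Descent of flat / l.f.t. / l.f.p. along maps admitting fppf-local sections (helper98)

Scheme-level form of Stacks 06NB: if `τ : T' ⟶ U` admits sections fppf-locally on `U` and
`τ ≫ k` has `P ∈ {flat, l.f.t., l.f.p.}`, then `k` has `P`.  Algebraic-space consequence: if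
`g : X ⟶ Y` is an epimorphism of fppf sheaves, `X` an algebraic space, and `g ≫ h` has `LocP P`,
then `h` has `LocP P`.
-/

set_option autoImplicit false
universe u
open CategoryTheory CategoryTheory.Limits AlgebraicGeometry

namespace Groth.Agent.Lib.Helper98.LocalSections

/-- ring-level retract lemma: `ρ ∘ i = id`, `i ∘ μ` flat ⇒ `μ` flat. -/
theorem flat_of_retract_ringHom {R B₁ A₁ : Type u} [CommRing R] [CommRing B₁] [CommRing A₁]
    (μ : R →+* B₁) (i : B₁ →+* A₁) (ρ : A₁ →+* B₁) (h : ρ.comp i = RingHom.id B₁)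
    (hf : (i.comp μ).Flat) : μ.Flat := by
  let _ : Algebra R B₁ := μ.toAlgebra
  let _ : Algebra R A₁ := (i.comp μ).toAlgebra
  have hA : Module.Flat R A₁ := hf
  have hρi : ∀ b, ρ (i b) = b := fun b => RingHom.congr_fun h b
  let il : B₁ →ₗ[R] A₁ :=
    { toFun := i
      map_add' := map_add i
      map_smul' := fun r b => by
        simp only [Algebra.smul_def, RingHom.algebraMap_toAlgebra, map_mul, RingHom.id_apply,
          RingHom.comp_apply] }
  let rl : A₁ →ₗ[R] B₁ :=
    { toFun := ρ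
      map_add' := map_add ρ
      map_smul' := fun r a => by
        simp only [Algebra.smul_def, RingHom.algebraMap_toAlgebra, map_mul, RingHom.id_apply,
          RingHom.comp_apply, hρi] }
  show Module.Flat R B₁
  exact Module.Flat.of_retract il rl (by ext b; exact hρi b)

/-- flatness passes to the target of a morphism with a section. -/
theorem flat_of_section {A B C : Scheme.{u}} (π : A ⟶ B) (σ : B ⟶ A) (m : B ⟶ C)
    (hσ : σ ≫ π = 𝟙 B) (H : Flat (π ≫ m)) : Flat m := by
  rw [Flat.iff_flat_stalkMap]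
  intro b
  have hb : π (σ b) = b := by
    have := congrArg (fun φ : B ⟶ B => φ b) hσ
    simpa using this
  have hiso : IsIso ((σ ≫ π).stalkMap b) := by
    have : IsIso (σ ≫ π) := by rw [hσ]; infer_instance
    infer_instance
  have hcomp : (σ ≫ π).stalkMap b = π.stalkMap (σ b) ≫ σ.stalkMap b :=
    Scheme.Hom.stalkMap_comp σ π b
  have hcomp2 : (π ≫ m).stalkMap (σ b) = m.stalkMap (π (σ b)) ≫ π.stalkMap (σ b) :=
    Scheme.Hom.stalkMap_comp π m (σ b)
  have hfl : ((π ≫ m).stalkMap (σ b)).hom.Flat := Flat.stalkMap (π ≫ m) (σ b)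
  have key : (m.stalkMap (π (σ b))).hom.Flat := by
    have hε : Function.Bijective ((σ ≫ π).stalkMap b).hom :=
      ConcreteCategory.bijective_of_isIso ((σ ≫ π).stalkMap b)
    let εe := RingEquiv.ofBijective ((σ ≫ π).stalkMap b).hom hε
    refine flat_of_retract_ringHom (m.stalkMap (π (σ b))).hom (π.stalkMap (σ b)).hom
      (εe.symm.toRingHom.comp (σ.stalkMap b).hom) ?_ ?_
    · ext t
      have h1 : (σ.stalkMap b).hom ((π.stalkMap (σ b)).hom t) = ((σ ≫ π).stalkMap b).hom t := by
        rw [hcomp]; rfl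
      show εe.symm ((σ.stalkMap b).hom ((π.stalkMap (σ b)).hom t)) = t
      rw [h1]
      exact εe.symm_apply_apply t
    · rw [hcomp2] at hfl
      exact hfl
  exact hb ▸ key

/-- local finite type passes to the target of a morphism with a section. -/
theorem lft_of_section {A B C : Scheme.{u}} (π : A ⟶ B) (σ : B ⟶ A) (m : B ⟶ C)
    (hσ : σ ≫ π = 𝟙 B) (H : LocallyOfFiniteType (π ≫ m)) : LocallyOfFiniteType m := by
  have h1 : LocallyOfFiniteType (σ ≫ π) := by rw [hσ]; infer_instance
  have h2 : LocallyOfFiniteType σ := locallyOfFiniteType_of_comp σ π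
  have e : m = σ ≫ (π ≫ m) := by rw [← Category.assoc, hσ, Category.id_comp]
  rw [e]
  infer_instance

/-- local finite presentation passes to the target of a morphism with a section. -/
theorem lfp_of_section {A B C : Scheme.{u}} (π : A ⟶ B) (σ : B ⟶ A) (m : B ⟶ C)
    (hσ : σ ≫ π = 𝟙 B) (H : LocallyOfFinitePresentation (π ≫ m)) :
    LocallyOfFinitePresentation m := by
  have hm : LocallyOfFiniteType m := lft_of_section π σ m hσ inferInstance
  have hπ : LocallyOfFinitePresentation π := Groth.Agent.S12442.result π m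
  have h1 : LocallyOfFinitePresentation (σ ≫ π) := by rw [hσ]; infer_instance
  have hσ' : LocallyOfFinitePresentation σ := Groth.Agent.S12442.result σ π
  have e : m = σ ≫ (π ≫ m) := by rw [← Category.assoc, hσ, Category.id_comp]
  rw [e]
  infer_instance

/-- the three closure properties of `P` used below. -/
structure FppfSecLocal (P : MorphismProperty Scheme.{u}) : Prop where
  pre : ∀ {A B C : Scheme.{u}} (e : A ⟶ B) (h : B ⟶ C), Flat e → LocallyOfFinitePresentation e →
    P h → P (e ≫ h)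
  retract : ∀ {A B C : Scheme.{u}} (π : A ⟶ B) (σ : B ⟶ A) (m : B ⟶ C), σ ≫ π = 𝟙 B →
    P (π ≫ m) → P m
  desc : ∀ {A B C : Scheme.{u}} (e : A ⟶ B) (h : B ⟶ C), Flat e → LocallyOfFinitePresentation e →
    Surjective e → P (e ≫ h) → P h

theorem fppfSecLocal_flat : FppfSecLocal (@Flat : MorphismProperty Scheme.{u}) where
  pre e h he _ hh := by
    have : Flat e := he
    have : Flat h := hh
    exact (inferInstance : Flat (e ≫ h))
  retract π σ m hσ H := flat_of_section π σ m hσ H
  desc e h he _ hs H := by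
    have : Flat e := he
    have : Surjective e := hs
    exact Groth.Agent.Lib.Helper78.AlgSpLocPFlat.flat_of_flat_comp_of_surjective e h H

theorem fppfSecLocal_lft : FppfSecLocal (@LocallyOfFiniteType : MorphismProperty Scheme.{u}) where
  pre e h _ he hh := by
    have : LocallyOfFinitePresentation e := he
    have : LocallyOfFiniteType h := hh
    exact (inferInstance : LocallyOfFiniteType (e ≫ h))
  retract π σ m hσ H := lft_of_section π σ m hσ H
  desc e h he he' hs H := by
    have : Flat e := he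
    have : LocallyOfFinitePresentation e := he'
    have : Surjective e := hs
    have : LocallyOfFiniteType (e ≫ h) := H
    exact Groth.Agent.S4091.lft_of_fppf_comp e h

theorem fppfSecLocal_lfp :
    FppfSecLocal (@LocallyOfFinitePresentation : MorphismProperty Scheme.{u}) where
  pre e h _ he hh := by
    have : LocallyOfFinitePresentation e := he
    have : LocallyOfFinitePresentation h := hh
    exact (inferInstance : LocallyOfFinitePresentation (e ≫ h))
  retract π σ m hσ H := lfp_of_section π σ m hσ H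
  desc e h he he' hs H := by
    have : Flat e := he
    have : LocallyOfFinitePresentation e := he'
    have : Surjective e := hs
    have : LocallyOfFinitePresentation (e ≫ h) := H
    exact Groth.Agent.S0114.result e h

/-- **Stacks 06NB, scheme level.** -/
theorem of_local_sections {P : MorphismProperty Scheme.{u}} [IsZariskiLocalAtSource P]
    (hP : FppfSecLocal P) {T' U V : Scheme.{u}} (τ : T' ⟶ U) (k : U ⟶ V) (H : P (τ ≫ k))
    (hloc : ∀ x : U, ∃ (U₀ : U.Opens) (V₀ : Scheme.{u}) (q : V₀ ⟶ (U₀ : Scheme.{u}))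
      (s : V₀ ⟶ T'), x ∈ U₀ ∧ Flat q ∧ LocallyOfFinitePresentation q ∧ Surjective q ∧
        s ≫ τ = q ≫ U₀.ι) : P k := by
  choose U₀ V₀ q s hx hqf hqp hqs hs using hloc
  refine IsZariskiLocalAtSource.of_iSup_eq_top (P := P) U₀ ?_ ?_
  · rw [eq_top_iff]
    intro x _
    exact TopologicalSpace.Opens.mem_iSup.mpr ⟨x, hx x⟩
  · intro x
    have := hqf x
    have := hqp x
    have := hqs x
    have he1 : Flat (q x ≫ (U₀ x).ι) := inferInstance
    have he2 : LocallyOfFinitePresentation (q x ≫ (U₀ x).ι) := inferInstance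
    have hρ1 : Flat (pullback.fst τ (q x ≫ (U₀ x).ι)) := inferInstance
    have hρ2 : LocallyOfFinitePresentation (pullback.fst τ (q x ≫ (U₀ x).ι)) := inferInstance
    have h1 : P (pullback.fst τ (q x ≫ (U₀ x).ι) ≫ τ ≫ k) := hP.pre _ (τ ≫ k) hρ1 hρ2 H
    have h2 : pullback.fst τ (q x ≫ (U₀ x).ι) ≫ τ ≫ k =
        pullback.snd τ (q x ≫ (U₀ x).ι) ≫ ((q x ≫ (U₀ x).ι) ≫ k) := by
      rw [← Category.assoc, pullback.condition, Category.assoc]
    rw [h2] at h1
    have hσ : pullback.lift (s x) (𝟙 _) (by rw [Category.id_comp]; exact hs x) ≫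
        pullback.snd τ (q x ≫ (U₀ x).ι) = 𝟙 _ := pullback.lift_snd _ _ _
    have h3 : P ((q x ≫ (U₀ x).ι) ≫ k) := hP.retract _ _ _ hσ h1
    rw [Category.assoc] at h3
    exact hP.desc (q x) _ (hqf x) (hqp x) (hqs x) h3

open AlgSp
open Groth.Agent.Lib.Helper52 Groth.Agent.Lib.Helper51 Groth.Agent.Lib.Helper78.AlgSpLocP

variable {S : Scheme.{u}}

/-- **Stacks 06NB for algebraic spaces**: `LocP P` descends along an epimorphism of sheaves on the
source. -/
theorem locP_of_comp_epi {P : MorphismProperty Scheme.{u}} [IsZariskiLocalAtSource P]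
    (hP : FppfSecLocal P) {X Y Z : Sp S} (hX : IsAlgSpace X) (g : X ⟶ Y) [Epi g] (h : Y ⟶ Z)
    (H : LocP P (g ≫ h)) : LocP P h := by
  intro U V a b h' ha hb comm
  obtain ⟨T, aT, haT, haTs⟩ := hX.atlas
  have : Epi aT := Groth.Agent.Lib.Helper30.epi_of_repWith_etale_surjective aT haT haTs
  obtain ⟨v, hv⟩ : ∃ v : (yon S).obj T ⟶ Y, v = aT ≫ g := ⟨_, rfl⟩
  have hvepi : Epi v := by rw [hv]; infer_instance
  have sqT := ha.rep.isPullback' v
  set τ₁ : ha.rep.pullback v ⟶ U := ha.rep.fst' v with hτ₁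
  set τ₂ : ha.rep.pullback v ⟶ T := ha.rep.snd v with hτ₂
  have hτ₂e : Etale τ₂.left := ha.property _ _ _ sqT
  have hτ₂aT : RepWith @Etale ((yon S).map τ₂ ≫ aT) :=
    (RepWith (S := S) @Etale).comp_mem _ _ ((repWith_yon_map_iff _ _).2 hτ₂e) haT
  have hcomp : P (τ₁.left ≫ h'.left) := by
    refine H ((yon S).map τ₂ ≫ aT) b (τ₁ ≫ h') hτ₂aT hb ?_
    calc ((yon S).map τ₂ ≫ aT) ≫ g ≫ h = ((yon S).map τ₂ ≫ (aT ≫ g)) ≫ h := by
          simp only [Category.assoc]
      _ = ((yon S).map τ₂ ≫ v) ≫ h := by rw [← hv]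
      _ = ((yon S).map τ₁ ≫ a) ≫ h := by rw [sqT.w]
      _ = (yon S).map (τ₁ ≫ h') ≫ b := by
          rw [Category.assoc, comm, Functor.map_comp, Category.assoc]
  refine of_local_sections hP τ₁.left h'.left hcomp ?_
  intro x
  obtain ⟨U₀, hU₀, hxU₀, -⟩ := exists_isAffineOpen_mem_and_subset
    (TopologicalSpace.Opens.mem_top x)
  set ι₀ := opensOverι U U₀ with hι₀
  have : IsAffine (opensOver U U₀).left := hU₀
  obtain ⟨V₀, q, b₀, -, hqf, hqp, hqs, hlift⟩ :=
    Groth.Agent.Lib.Helper30.QuotEff.exists_affine_lift_of_epi v ((yon S).map ι₀ ≫ a)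
  have wm : (yon S).map (q ≫ ι₀) ≫ a = b₀ ≫ v := by
    rw [Functor.map_comp, Category.assoc, hlift]
  obtain ⟨s, hs⟩ := (yon S).map_surjective (sqT.lift _ _ wm)
  have e₁ : s ≫ τ₁ = q ≫ ι₀ := (yon S).map_injective (by
    rw [Functor.map_comp, hs]; exact sqT.lift_fst _ _ _)
  refine ⟨U₀, V₀.left, q.left, s.left, hxU₀, hqf, hqp, hqs, ?_⟩
  exact congrArg CommaMorphism.left e₁

end Groth.Agent.Lib.Helper98.LocalSections
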