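import Groth.Agent.Lib.Helper98.MoritaInner
import Groth.Agent.Lib.Helper98.DetTensor
set_option autoImplicit false
open scoped TensorProduct

/-! The module of liftings `{M | M N = α(N) M}` of an automorphism `α` of `M_n(A)`. -/

namespace Groth.Agent.Lib.Helper98.MatAutTwist
open Groth.Agent.Lib.Helper98.MoritaEnd
universe u

variable (A : Type u) [CommRing A] (n : ℕ)

/-- the module of liftings -/
abbrev Lift (α : Matrix (Fin n) (Fin n) A ≃ₐ[A] Matrix (Fin n) (Fin n) A) :
    Submodule A (Matrix (Fin n) (Fin n) A) :=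
  LinearMap.ker (LinearMap.mul A (Matrix (Fin n) (Fin n) A) -
    (LinearMap.lcomp A (Matrix (Fin n) (Fin n) A) α.toLinearMap).comp
      (LinearMap.mul A (Matrix (Fin n) (Fin n) A)).flip)

variable {A n}

theorem mem_Lift (α : Matrix (Fin n) (Fin n) A ≃ₐ[A] Matrix (Fin n) (Fin n) A)
    (M : Matrix (Fin n) (Fin n) A) : M ∈ Lift A n α ↔ ∀ N, M * N = α N * M := by
  rw [LinearMap.mem_ker]
  constructor
  · intro h N
    have := congrArg (fun g : Matrix (Fin n) (Fin n) A →ₗ[A] Matrix (Fin n) (Fin n) A => g N) h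
    simp only [LinearMap.sub_apply, LinearMap.mul_apply', LinearMap.comp_apply,
      LinearMap.lcomp_apply', LinearMap.flip_apply, LinearMap.zero_apply,
      AlgEquiv.toLinearMap_apply] at this
    exact sub_eq_zero.mp this
  · intro h
    ext1 N
    simp only [LinearMap.sub_apply, LinearMap.mul_apply', LinearMap.comp_apply,
      LinearMap.lcomp_apply', LinearMap.flip_apply, LinearMap.zero_apply,
      AlgEquiv.toLinearMap_apply]
    exact sub_eq_zero.mpr (h N)

/-- the conjugate automorphism of `End (A^n)` -/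
noncomputable abbrev endAut (α : Matrix (Fin n) (Fin n) A ≃ₐ[A] Matrix (Fin n) (Fin n) A) :
    Module.End A (Fin n → A) ≃ₐ[A] Module.End A (Fin n → A) :=
  (LinearMap.toMatrixAlgEquiv'.trans α).trans LinearMap.toMatrixAlgEquiv'.symm

theorem Lift_eq_comap (α : Matrix (Fin n) (Fin n) A ≃ₐ[A] Matrix (Fin n) (Fin n) A) :
    Lift A n α = (HomE (endAut α : Module.End A (Fin n → A) →ₐ[A] Module.End A (Fin n → A))).comap
      (LinearMap.toMatrixAlgEquiv' (R := A) (n := Fin n)).symm.toLinearEquiv.toLinearMap := by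
  ext M
  rw [mem_Lift, Submodule.mem_comap, mem_HomE]
  set T : Module.End A (Fin n → A) ≃ₐ[A] Matrix (Fin n) (Fin n) A := LinearMap.toMatrixAlgEquiv'
  constructor
  · intro h e z
    show (T.symm M) (e z) = (T.symm (α (T e))) ((T.symm M) z)
    have h1 := congrArg T.symm (h (T e))
    rw [map_mul, map_mul, T.symm_apply_apply] at h1
    exact congrArg (fun g : Module.End A (Fin n → A) => g z) h1
  · intro h N
    have h1 : T.symm M * T.symm N = T.symm (α (T (T.symm N))) * T.symm M := by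
      refine LinearMap.ext fun z => ?_
      exact h (T.symm N) z
    rw [T.apply_symm_apply, ← map_mul, ← map_mul] at h1
    exact T.symm.injective h1

/-- the module of liftings is the Morita twist of `endAut α` -/
noncomputable def liftEquiv (α : Matrix (Fin n) (Fin n) A ≃ₐ[A] Matrix (Fin n) (Fin n) A) :
    Lift A n α ≃ₗ[A]
      HomE (endAut α : Module.End A (Fin n → A) →ₐ[A] Module.End A (Fin n → A)) :=
  LinearEquiv.ofEq _ _ (Lift_eq_comap α) ≪≫ₗ
    LinearEquiv.ofSubmodule' (LinearMap.toMatrixAlgEquiv' (R := A) (n := Fin n)).symm.toLinearEquiv _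

theorem invertible_and_pi_equiv [Nontrivial A] (hn : 0 < n)
    (α : Matrix (Fin n) (Fin n) A ≃ₐ[A] Matrix (Fin n) (Fin n) A) :
    Module.Invertible A (Lift A n α) ∧
      Nonempty ((Fin n → Lift A n α) ≃ₗ[A] (Fin n → A)) := by
  have hne : Nonempty (Fin n) := ⟨⟨0, hn⟩⟩
  obtain ⟨hinv, ξ, -, -⟩ := exists_invertible_tensor_equiv (A := A) (endAut α)
  refine ⟨Module.Invertible.congr (liftEquiv α).symm, ⟨?_⟩⟩
  exact LinearEquiv.piCongrRight (fun _ => liftEquiv α) ≪≫ₗ
    (TensorProduct.piScalarRight A A _ (Fin n)).symm ≪≫ₗ TensorProduct.comm A _ (Fin n → A) ≪≫ₗ ξ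

theorem invertible_and_tensorPower [Nontrivial A] (hn : 0 < n)
    (α : Matrix (Fin n) (Fin n) A ≃ₐ[A] Matrix (Fin n) (Fin n) A) :
    Module.Invertible A (Lift A n α) ∧
      Nonempty ((⨂[A] _ : Fin n, Lift A n α) ≃ₗ[A] A) := by
  obtain ⟨h1, ⟨ι⟩⟩ := invertible_and_pi_equiv hn α
  exact ⟨h1, Groth.Agent.Lib.Helper98.DetTensor.nonempty_piTensor_equiv ι⟩

end Groth.Agent.Lib.Helper98.MatAutTwist
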