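import Mathlib
set_option autoImplicit false
open scoped TensorProduct

namespace Groth.Agent.Lib.Helper98.MoritaEnd
universe u v w

variable {A : Type u} [CommRing A] {F : Type v} [AddCommGroup F] [Module A F]
  {V : Type w} [AddCommGroup V] [Module A V]

/-- `Hom_E(F, V)` for `E = End_A(F)` acting on `V` through `ρ`. -/
def HomE (ρ : Module.End A F →ₐ[A] Module.End A V) : Submodule A (F →ₗ[A] V) where
  carrier := {l | ∀ (e : Module.End A F) (z : F), l (e z) = ρ e (l z)}
  add_mem' := by
    intro a b ha hb e z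
    simp only [LinearMap.add_apply, ha e z, hb e z, map_add]
  zero_mem' := by intro e z; simp
  smul_mem' := by
    intro c a ha e z
    simp only [LinearMap.smul_apply, ha e z, map_smul]

theorem mem_HomE {ρ : Module.End A F →ₐ[A] Module.End A V} {l : F →ₗ[A] V} :
    l ∈ HomE ρ ↔ ∀ (e : Module.End A F) (z : F), l (e z) = ρ e (l z) := Iff.rfl

/-- evaluation `F ⊗ Hom_E(F,V) → V` -/
noncomputable def ev (ρ : Module.End A F →ₐ[A] Module.End A V) : F ⊗[A] HomE ρ →ₗ[A] V :=
  TensorProduct.lift
    { toFun := fun x => (LinearMap.applyₗ x).comp (HomE ρ).subtype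
      map_add' := by intro x y; ext l; simp
      map_smul' := by intro c x; ext l; simp }

@[simp] theorem ev_tmul (ρ : Module.End A F →ₐ[A] Module.End A V) (x : F) (l : HomE ρ) :
    ev ρ (x ⊗ₜ l) = l.1 x := by
  simp [ev]

/-- the rank one endomorphism `w ↦ η w • z` commutes with composition -/
theorem smulRight_apply_comp (η : F →ₗ[A] A) (e : Module.End A F) (z : F) :
    η.smulRight (e z) = e * η.smulRight z := by
  ext w
  simp

/-- the maps `Λ_η : V → Hom_E(F, V)`, `y ↦ (z ↦ ρ(η · z) y)` -/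
noncomputable def Lam (ρ : Module.End A F →ₐ[A] Module.End A V) (η : F →ₗ[A] A) :
    V →ₗ[A] HomE ρ :=
  LinearMap.codRestrict (HomE ρ) (ρ.toLinearMap.comp (LinearMap.smulRightₗ η)).flip (by
    intro y e z
    simp only [LinearMap.flip_apply, LinearMap.comp_apply, AlgHom.toLinearMap_apply,
      LinearMap.smulRightₗ_apply]
    rw [smulRight_apply_comp, map_mul]
    rfl)

theorem Lam_apply (ρ : Module.End A F →ₐ[A] Module.End A V) (η : F →ₗ[A] A) (y : V) (z : F) :
    (Lam ρ η y).1 z = ρ (η.smulRight z) y := rfl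


/-- dual basis of a finitely generated projective module -/
theorem exists_dualBasis (A : Type u) [CommRing A] (F : Type v) [AddCommGroup F] [Module A F]
    [Module.Finite A F] [Module.Projective A F] :
    ∃ (n : ℕ) (y : Fin n → F) (η : Fin n → (F →ₗ[A] A)), ∀ z, ∑ j, η j z • y j = z := by
  obtain ⟨n, f, g, -, -, hfg⟩ := Module.Finite.exists_comp_eq_id_of_projective A F
  refine ⟨n, fun j => f (Pi.single j 1), fun j => (LinearMap.proj j).comp g, fun z => ?_⟩
  have h1 : f (g z) = z := congrArg (fun h : F →ₗ[A] F => h z) hfg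
  have h2 : g z = ∑ j, (g z j) • (Pi.single j (1 : A) : Fin n → A) := by
    funext k
    simp [Finset.sum_apply, Pi.single_apply]
  conv_rhs => rw [← h1, h2, map_sum]
  refine Finset.sum_congr rfl fun j _ => ?_
  rw [map_smul]
  rfl

theorem sum_smulRight_eq_one {n : ℕ} (y : Fin n → F) (η : Fin n → (F →ₗ[A] A))
    (h : ∀ z, ∑ j, η j z • y j = z) : ∑ j, (η j).smulRight (y j) = (1 : Module.End A F) := by
  ext z
  simp [LinearMap.sum_apply, h z]

theorem Lam_apply_eq_smul (ρ : Module.End A F →ₐ[A] Module.End A V) (η : F →ₗ[A] A)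
    (l : HomE ρ) (x : F) : Lam ρ η (l.1 x) = η x • l := by
  apply Subtype.ext
  ext z
  rw [Lam_apply, ← l.2 (η.smulRight z) x]
  simp

/-- Morita: `F ⊗ Hom_E(F,V) ≃ V`. -/
theorem exists_equiv [Module.Finite A F] [Module.Projective A F]
    (ρ : Module.End A F →ₐ[A] Module.End A V) :
    ∃ ξ : F ⊗[A] HomE ρ ≃ₗ[A] V, ∀ (x : F) (l : HomE ρ), ξ (x ⊗ₜ l) = l.1 x := by
  obtain ⟨n, y, η, hdual⟩ := exists_dualBasis A F
  let inv : V →ₗ[A] F ⊗[A] HomE ρ :=
    ∑ j, (TensorProduct.mk A F (HomE ρ) (y j)).comp (Lam ρ (η j))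
  refine ⟨LinearEquiv.ofLinearMap (ev ρ) inv ?_ ?_, fun x l => ev_tmul ρ x l⟩
  · ext v
    simp only [LinearMap.comp_apply, inv, LinearMap.sum_apply, TensorProduct.mk_apply, map_sum,
      ev_tmul, Lam_apply, LinearMap.id_apply]
    rw [← LinearMap.sum_apply, ← map_sum, sum_smulRight_eq_one y η hdual, map_one]
    rfl
  · apply TensorProduct.ext'
    intro x l
    simp only [LinearMap.comp_apply, ev_tmul, inv, LinearMap.sum_apply, TensorProduct.mk_apply,
      LinearMap.id_apply, Lam_apply_eq_smul]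
    simp only [← TensorProduct.smul_tmul, ← TensorProduct.sum_tmul, hdual x]


section Generator

variable (A F)

/-- a finitely generated projective faithfully flat module is a generator: the trace is onto -/
theorem contractLeft_surjective [Module.Finite A F] [Module.Projective A F]
    [Module.FaithfullyFlat A F] : Function.Surjective (contractLeft A F) := by
  obtain ⟨n, y, η, hdual⟩ := exists_dualBasis A F
  rw [← LinearMap.range_eq_top]
  by_contra hne
  obtain ⟨m, hm, hle⟩ := Ideal.exists_le_maximal (LinearMap.range (contractLeft A F)) hne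
  apply Module.FaithfullyFlat.submodule_ne_top (R := A) (M := F) hm
  rw [eq_top_iff]
  intro z _
  rw [← hdual z]
  refine Submodule.sum_mem _ fun j _ => ?_
  apply Submodule.smul_mem_smul _ Submodule.mem_top
  apply hle
  exact ⟨η j ⊗ₜ z, by simp⟩

end Generator

/-- endomorphisms commuting with all endomorphisms are scalars -/
theorem exists_eq_smul_of_commute [Module.Finite A F] [Module.Projective A F]
    [Module.FaithfullyFlat A F] (h : Module.End A F)
    (hh : ∀ e : Module.End A F, h * e = e * h) : ∃ a : A, h = a • (1 : Module.End A F) := by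
  obtain ⟨t, ht⟩ := contractLeft_surjective A F 1
  let B : Module.Dual A F →ₗ[A] F →ₗ[A] A :=
    LinearMap.mk₂ A (fun θ x => θ (h x)) (by intros; simp) (by intros; simp) (by intros; simp)
      (by intros; simp)
  have key : ∀ (t : Module.Dual A F ⊗[A] F) (z : F),
      TensorProduct.lift B t • z = contractLeft A F t • h z := by
    intro t z
    induction t using TensorProduct.induction_on with
    | zero => simp
    | tmul θ x =>
      simp only [TensorProduct.lift.tmul, contractLeft_apply, B, LinearMap.mk₂_apply]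
      have h1 := congrArg (fun g : Module.End A F => g x) (hh (LinearMap.smulRight θ z))
      simp only [Module.End.mul_apply, LinearMap.smulRight_apply, map_smul] at h1
      exact h1.symm
    | add t₁ t₂ h₁ h₂ => simp only [map_add, add_smul, h₁, h₂]
  refine ⟨TensorProduct.lift B t, ?_⟩
  ext z
  have := key t z
  rw [ht, one_smul] at this
  simp [this]


section LemM

variable (N : Type*) [AddCommGroup N] [Module A N]

/-- `D θ (z ⊗ n) = θ z • n` -/
noncomputable def Dmap : Module.Dual A F →ₗ[A] (F ⊗[A] N →ₗ[A] N) :=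
  (LinearMap.llcomp A (F ⊗[A] N) (A ⊗[A] N) N (TensorProduct.lid A N).toLinearMap).comp
    (LinearMap.rTensorHom N)

@[simp] theorem Dmap_tmul (θ : Module.Dual A F) (z : F) (n : N) :
    Dmap N θ (z ⊗ₜ n) = θ z • n := by
  simp [Dmap]

theorem tmul_Dmap (θ : Module.Dual A F) (z : F) (w : F ⊗[A] N) :
    z ⊗ₜ[A] (Dmap N θ w) = (LinearMap.smulRight θ z).rTensor N w := by
  induction w using TensorProduct.induction_on with
  | zero => simp
  | tmul z' n => simp [TensorProduct.smul_tmul]
  | add w₁ w₂ h₁ h₂ => simp only [map_add, TensorProduct.tmul_add, h₁, h₂]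

/-- the canonical map `N → Hom_E(F, F ⊗ N)` -/
noncomputable def cN : N →ₗ[A] HomE (Module.End.rTensorAlgHom A F N) :=
  LinearMap.codRestrict _ (TensorProduct.mk A F N).flip (by
    intro n e z
    show (TensorProduct.mk A F N).flip n (e z) =
      (LinearMap.rTensor N e) ((TensorProduct.mk A F N).flip n z)
    simp)

@[simp] theorem cN_apply (n : N) (z : F) : (cN (A := A) (F := F) N n).1 z = z ⊗ₜ n := rfl

/-- Morita: `N ≃ Hom_E(F, F ⊗ N)` for a progenerator `F`. -/
theorem exists_equiv_HomE_rTensor [Module.Finite A F] [Module.Projective A F]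
    [Module.FaithfullyFlat A F] :
    ∃ c : N ≃ₗ[A] HomE (Module.End.rTensorAlgHom A F N), ∀ (n : N) (z : F), (c n).1 z = z ⊗ₜ n := by
  obtain ⟨t, ht⟩ := contractLeft_surjective A F 1
  let B : Module.Dual A F →ₗ[A] F →ₗ[A] (HomE (Module.End.rTensorAlgHom A F N) →ₗ[A] N) :=
    LinearMap.mk₂ A (fun θ x => (Dmap N θ).comp ((LinearMap.applyₗ x).comp (HomE _).subtype))
      (by intros; ext; simp) (by intros; ext; simp) (by intros; ext; simp) (by intros; ext; simp)
  have hB : ∀ θ x (μ : HomE (Module.End.rTensorAlgHom A F N)), B θ x μ = Dmap N θ (μ.1 x) := by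
    intro θ x μ; rfl
  have key1 : ∀ (t : Module.Dual A F ⊗[A] F) (μ : HomE (Module.End.rTensorAlgHom A F N)) (z : F),
      z ⊗ₜ[A] (TensorProduct.lift B t μ) = contractLeft A F t • μ.1 z := by
    intro t μ z
    induction t using TensorProduct.induction_on with
    | zero => simp
    | tmul θ x =>
      rw [TensorProduct.lift.tmul, hB, tmul_Dmap, contractLeft_apply]
      have h1 : μ.1 ((LinearMap.smulRight θ z) x) =
          (LinearMap.rTensor N (LinearMap.smulRight θ z)) (μ.1 x) := μ.2 (LinearMap.smulRight θ z) x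
      rw [← h1]
      simp
    | add t₁ t₂ h₁ h₂ =>
      simp only [map_add, LinearMap.add_apply, TensorProduct.tmul_add, add_smul, h₁, h₂]
  have key2 : ∀ (t : Module.Dual A F ⊗[A] F) (n : N),
      TensorProduct.lift B t (cN N n) = contractLeft A F t • n := by
    intro t n
    induction t using TensorProduct.induction_on with
    | zero => simp
    | tmul θ x => rw [TensorProduct.lift.tmul, hB, cN_apply, Dmap_tmul, contractLeft_apply]
    | add t₁ t₂ h₁ h₂ => simp only [map_add, LinearMap.add_apply, add_smul, h₁, h₂]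
  refine ⟨LinearEquiv.ofLinearMap (cN N) (TensorProduct.lift B t) ?_ ?_, fun n z => rfl⟩
  · ext μ z
    simp only [LinearMap.comp_apply, cN_apply, LinearMap.id_apply]
    rw [key1, ht, one_smul]
  · ext n
    simp only [LinearMap.comp_apply, LinearMap.id_apply]
    rw [key2, ht, one_smul]

end LemM


section Congr

variable {V₁ : Type*} [AddCommGroup V₁] [Module A V₁] {V₂ : Type*} [AddCommGroup V₂] [Module A V₂]

/-- equivariant isomorphisms induce isomorphisms on `Hom_E(F, -)` -/
noncomputable def HomE.congr (ρ₁ : Module.End A F →ₐ[A] Module.End A V₁)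
    (ρ₂ : Module.End A F →ₐ[A] Module.End A V₂) (Ξ : V₁ ≃ₗ[A] V₂)
    (hΞ : ∀ (e : Module.End A F) (w : V₁), Ξ (ρ₁ e w) = ρ₂ e (Ξ w)) :
    HomE ρ₁ ≃ₗ[A] HomE ρ₂ :=
  LinearEquiv.ofLinearMap
    (LinearMap.codRestrict (HomE ρ₂)
      ((LinearMap.llcomp A F V₁ V₂ Ξ.toLinearMap).comp (HomE ρ₁).subtype) (by
        intro l e z
        simp only [LinearMap.comp_apply, Submodule.subtype_apply, LinearMap.llcomp_apply,
          LinearEquiv.coe_coe]
        rw [l.2 e z, hΞ]))
    (LinearMap.codRestrict (HomE ρ₁)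
      ((LinearMap.llcomp A F V₂ V₁ Ξ.symm.toLinearMap).comp (HomE ρ₂).subtype) (by
        intro l e z
        simp only [LinearMap.comp_apply, Submodule.subtype_apply, LinearMap.llcomp_apply,
          LinearEquiv.coe_coe]
        rw [l.2 e z]
        apply Ξ.injective
        rw [hΞ, Ξ.apply_symm_apply, Ξ.apply_symm_apply]))
    (by
      ext l z
      show Ξ (Ξ.symm (l.1 z)) = l.1 z
      simp)
    (by
      ext l z
      show Ξ.symm (Ξ (l.1 z)) = l.1 z
      simp)

end Congr

/-- **Morita for endomorphism algebras**: an isomorphism `End F ≃ End G` is induced by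
`F ⊗ L ≃ G` with `L` invertible. -/
theorem exists_invertible_tensor_equiv {F G : Type v} [AddCommGroup F] [Module A F]
    [Module.Finite A F] [Module.Projective A F] [Module.FaithfullyFlat A F]
    [AddCommGroup G] [Module A G] [Module.Finite A G] [Module.Projective A G]
    [Module.FaithfullyFlat A G] (φ : Module.End A F ≃ₐ[A] Module.End A G) :
    Module.Invertible A (HomE (φ : Module.End A F →ₐ[A] Module.End A G)) ∧
      ∃ ξ : F ⊗[A] HomE (φ : Module.End A F →ₐ[A] Module.End A G) ≃ₗ[A] G,
        (∀ (x : F) (l : HomE (φ : Module.End A F →ₐ[A] Module.End A G)), ξ (x ⊗ₜ l) = l.1 x) ∧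
        ∀ f : Module.End A F, φ f = ξ.conj (TensorProduct.map f LinearMap.id) := by
  set ρ : Module.End A F →ₐ[A] Module.End A G := (φ : Module.End A F →ₐ[A] Module.End A G) with hρ
  set ρ' : Module.End A G →ₐ[A] Module.End A F :=
    (φ.symm : Module.End A G →ₐ[A] Module.End A F) with hρ'
  obtain ⟨ξ, hξ⟩ := exists_equiv ρ
  obtain ⟨ξ', hξ'⟩ := exists_equiv ρ'
  have hconj : ∀ f : Module.End A F, φ f = ξ.conj (TensorProduct.map f LinearMap.id) := by
    intro f
    have h1 : (φ f) ∘ₗ ξ.toLinearMap = ξ.toLinearMap ∘ₗ (TensorProduct.map f LinearMap.id) := by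
      apply TensorProduct.ext'
      intro x l
      simp only [LinearMap.comp_apply, LinearEquiv.coe_coe, TensorProduct.map_tmul,
        LinearMap.id_apply, hξ]
      exact (l.2 f x).symm
    ext y
    rw [LinearEquiv.conj_apply]
    simp only [LinearMap.comp_apply, LinearEquiv.coe_coe]
    have h2 := congrArg (fun g : F ⊗[A] HomE ρ →ₗ[A] G => g (ξ.symm y)) h1
    simp only [LinearMap.comp_apply, LinearEquiv.coe_coe, LinearEquiv.apply_symm_apply] at h2
    exact h2
  refine ⟨?_, ξ, hξ, hconj⟩
  -- invertibility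
  let Ξ : F ⊗[A] (HomE ρ ⊗[A] HomE ρ') ≃ₗ[A] F :=
    (TensorProduct.assoc A F (HomE ρ) (HomE ρ')).symm ≪≫ₗ
      (TensorProduct.congr ξ (LinearEquiv.refl A (HomE ρ'))) ≪≫ₗ ξ'
  have hΞ_tmul : ∀ (x : F) (l : HomE ρ) (l' : HomE ρ'), Ξ (x ⊗ₜ (l ⊗ₜ l')) = l'.1 (l.1 x) := by
    intro x l l'
    simp [Ξ, hξ, hξ']
  have hΞ : ∀ (e : Module.End A F) (w : F ⊗[A] (HomE ρ ⊗[A] HomE ρ')),
      Ξ (Module.End.rTensorAlgHom A F (HomE ρ ⊗[A] HomE ρ') e w) = (AlgHom.id A (Module.End A F)) e (Ξ w) := by
    intro e w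
    induction w using TensorProduct.induction_on with
    | zero => simp
    | tmul x n =>
      induction n using TensorProduct.induction_on with
      | zero => simp
      | tmul l l' =>
        show Ξ ((LinearMap.rTensor _ e) (x ⊗ₜ (l ⊗ₜ l'))) = e (Ξ (x ⊗ₜ (l ⊗ₜ l')))
        rw [LinearMap.rTensor_tmul, hΞ_tmul, hΞ_tmul, l.2 e x, l'.2 (ρ e) (l.1 x)]
        show (φ.symm (φ e)) _ = _
        rw [φ.symm_apply_apply]
      | add n₁ n₂ h₁ h₂ =>
        simp only [TensorProduct.tmul_add, map_add, h₁, h₂]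
    | add w₁ w₂ h₁ h₂ => simp only [map_add, h₁, h₂]
  have hrid : ∀ (e : Module.End A F) (w : F ⊗[A] A),
      (TensorProduct.rid A F) (Module.End.rTensorAlgHom A F A e w) =
        (AlgHom.id A (Module.End A F)) e (TensorProduct.rid A F w) := by
    intro e w
    induction w using TensorProduct.induction_on with
    | zero => simp
    | tmul x a =>
      show (TensorProduct.rid A F) ((LinearMap.rTensor _ e) (x ⊗ₜ a)) = e (TensorProduct.rid A F (x ⊗ₜ a))
      simp
    | add w₁ w₂ h₁ h₂ => simp only [map_add, h₁, h₂]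
  obtain ⟨c, -⟩ := exists_equiv_HomE_rTensor (A := A) (F := F) (HomE ρ ⊗[A] HomE ρ')
  obtain ⟨cA, -⟩ := exists_equiv_HomE_rTensor (A := A) (F := F) A
  let e : HomE ρ ⊗[A] HomE ρ' ≃ₗ[A] A :=
    c ≪≫ₗ HomE.congr _ _ Ξ hΞ ≪≫ₗ (cA ≪≫ₗ HomE.congr _ _ (TensorProduct.rid A F) hrid).symm
  exact Module.Invertible.left e

end Groth.Agent.Lib.Helper98.MoritaEnd
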