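import Groth.Agent.Lib.Helper98.MoritaEnd
set_option autoImplicit false
open scoped TensorProduct

/-! Inner automorphisms of `End F` versus triviality of the Morita twist. -/

namespace Groth.Agent.Lib.Helper98.MoritaInner
open Groth.Agent.Lib.Helper98.MoritaEnd
universe u v

variable {A : Type u} [CommRing A] {F : Type v} [AddCommGroup F] [Module A F]

/-- an `End F`-equivariant isomorphism `F ⊗ N ≃ F` forces `N ≃ A`. -/
theorem nonempty_equiv_of_equivariant [Module.Finite A F] [Module.Projective A F]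
    [Module.FaithfullyFlat A F] (N : Type*) [AddCommGroup N] [Module A N]
    (Ξ : F ⊗[A] N ≃ₗ[A] F)
    (hΞ : ∀ (e : Module.End A F) (w : F ⊗[A] N), Ξ (LinearMap.rTensor N e w) = e (Ξ w)) :
    Nonempty (N ≃ₗ[A] A) := by
  have hΞ' : ∀ (e : Module.End A F) (w : F ⊗[A] N),
      Ξ (Module.End.rTensorAlgHom A F N e w) = (AlgHom.id A (Module.End A F)) e (Ξ w) := hΞ
  have hrid : ∀ (e : Module.End A F) (w : F ⊗[A] A),
      (TensorProduct.rid A F) (Module.End.rTensorAlgHom A F A e w) =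
        (AlgHom.id A (Module.End A F)) e (TensorProduct.rid A F w) := by
    intro e w
    induction w using TensorProduct.induction_on with
    | zero => simp
    | tmul x a =>
      show (TensorProduct.rid A F) ((LinearMap.rTensor _ e) (x ⊗ₜ a)) = e (TensorProduct.rid A F (x ⊗ₜ a))
      simp
    | add w₁ w₂ h₁ h₂ => simp only [map_add, h₁, h₂]
  obtain ⟨c, -⟩ := exists_equiv_HomE_rTensor (A := A) (F := F) N
  obtain ⟨cA, -⟩ := exists_equiv_HomE_rTensor (A := A) (F := F) A
  exact ⟨c ≪≫ₗ HomE.congr _ _ Ξ hΞ' ≪≫ₗ (cA ≪≫ₗ HomE.congr _ _ (TensorProduct.rid A F) hrid).symm⟩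

/-- if conjugation by `ξ₀ : F ⊗ N ≃ F` of `f ⊗ 1` is an inner automorphism of `End F`,
then `N ≃ A`. -/
theorem nonempty_equiv_of_inner [Module.Finite A F] [Module.Projective A F]
    [Module.FaithfullyFlat A F] (N : Type*) [AddCommGroup N] [Module A N]
    (ξ₀ : F ⊗[A] N ≃ₗ[A] F) (P Q : Module.End A F) (hPQ : P * Q = 1) (hQP : Q * P = 1)
    (h : ∀ f : Module.End A F, ξ₀.conj (LinearMap.rTensor N f) = P * f * Q) :
    Nonempty (N ≃ₗ[A] A) := by
  let q : F ≃ₗ[A] F := LinearEquiv.ofLinearMap Q P hQP hPQ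
  refine nonempty_equiv_of_equivariant N (ξ₀ ≪≫ₗ q) ?_
  intro e w
  have h1 := congrArg (fun g : Module.End A F => Q (g (ξ₀ w))) (h e)
  simp only [LinearEquiv.conj_apply, LinearMap.comp_apply, LinearEquiv.coe_coe,
    LinearEquiv.symm_apply_apply, Module.End.mul_apply] at h1
  have h2 : ∀ z, Q (P z) = z := fun z => by
    rw [← Module.End.mul_apply, hQP, Module.End.one_apply]
  rw [h2] at h1
  exact h1

/-- if the Morita twist of `φ : End F ≃ End F` is trivial, `φ` is inner. -/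
theorem exists_conj_of_equiv {F : Type v} [AddCommGroup F] [Module A F]
    [Module.Finite A F] [Module.Projective A F] [Module.FaithfullyFlat A F]
    (φ : Module.End A F ≃ₐ[A] Module.End A F)
    (e : HomE (φ : Module.End A F →ₐ[A] Module.End A F) ≃ₗ[A] A) :
    ∃ ξ' : F ≃ₗ[A] F, ∀ f : Module.End A F, φ f = ξ'.conj f := by
  obtain ⟨-, ξ, -, hconj⟩ := exists_invertible_tensor_equiv φ
  let ξ' : F ≃ₗ[A] F :=
    (TensorProduct.rid A F).symm ≪≫ₗ TensorProduct.congr (LinearEquiv.refl A F) e.symm ≪≫ₗ ξ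
  have hξ' : ∀ x, ξ' x = ξ (x ⊗ₜ e.symm 1) := fun x => by simp [ξ']
  refine ⟨ξ', fun f => ?_⟩
  have h1 : (φ f) ∘ₗ ξ'.toLinearMap = ξ'.toLinearMap ∘ₗ f := by
    ext x
    simp only [LinearMap.comp_apply, LinearEquiv.coe_coe, hξ', hconj, LinearEquiv.conj_apply,
      LinearEquiv.symm_apply_apply, TensorProduct.map_tmul, LinearMap.id_apply]
  ext y
  rw [LinearEquiv.conj_apply]
  simp only [LinearMap.comp_apply, LinearEquiv.coe_coe]
  have h2 := congrArg (fun g : F →ₗ[A] F => g (ξ'.symm y)) h1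
  simp only [LinearMap.comp_apply, LinearEquiv.coe_coe, LinearEquiv.apply_symm_apply] at h2
  exact h2

/-- conjugating `f ⊗ 1` by `ξ₀ : F ⊗ N ≃ F` (`N` invertible) is an algebra automorphism. -/
theorem exists_algEquiv_of_tensor_equiv (N : Type*) [AddCommGroup N] [Module A N]
    [Module.Invertible A N] (ξ₀ : F ⊗[A] N ≃ₗ[A] F) :
    ∃ φ : Module.End A F ≃ₐ[A] Module.End A F,
      ∀ f : Module.End A F, φ f = ξ₀.conj (LinearMap.rTensor N f) := by
  have hbij : Function.Bijective (Module.End.rTensorAlgHom A F N) :=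
    (Module.Invertible.rTensorEquiv F F
      (TensorProduct.comm A N (Module.Dual A N) ≪≫ₗ Module.Invertible.linearEquiv A N)).bijective
  refine ⟨(AlgEquiv.ofBijective _ hbij).trans (ξ₀.conjAlgEquiv A), fun f => ?_⟩
  rfl

end Groth.Agent.Lib.Helper98.MoritaInner
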