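import Mathlib.LinearAlgebra.Multilinear.Basic
import Mathlib.Data.Nat.Choose.Sum
import Mathlib.GroupTheory.Perm.Basic
import Mathlib.Tactic

/-!
# Polarization identity for multilinear maps

`∑_σ F (v ∘ σ) = ∑_S (-1)^(n - |S|) F (s_S, …, s_S)` with `s_S = ∑_{j ∈ S} v j`.
-/

set_option autoImplicit false

namespace Groth.Agent.Lib.Helper98.Polarize

open Finset

/-- inclusion–exclusion coefficient -/
theorem coeff_eq (n : ℕ) (r : Fin n → Fin n) :
    ∑ S : Finset (Fin n), (if ∀ i, r i ∈ S then (-1 : ℤ) ^ (n - S.card) else 0)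
      = if Function.Bijective r then 1 else 0 := by
  classical
  set I : Finset (Fin n) := Finset.univ.image r with hI
  have h1 : ∀ S : Finset (Fin n), (∀ i, r i ∈ S) ↔ I ⊆ S := by
    intro S
    simp [hI, Finset.subset_iff]
  simp_rw [h1]
  -- substitute S ↦ Sᶜ
  have h2 : ∑ S : Finset (Fin n), (if I ⊆ S then (-1 : ℤ) ^ (n - S.card) else 0)
      = ∑ U : Finset (Fin n), (if U ⊆ Iᶜ then (-1 : ℤ) ^ U.card else 0) := by
    refine Fintype.sum_equiv ⟨compl, compl, compl_compl, compl_compl⟩ _ _ (fun S => ?_)
    change _ = if Sᶜ ⊆ Iᶜ then (-1 : ℤ) ^ (Sᶜ).card else 0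
    have h3 : Sᶜ ⊆ Iᶜ ↔ I ⊆ S := Finset.compl_subset_compl
    have h4 : (Sᶜ).card = n - S.card := by
      rw [Finset.card_compl, Fintype.card_fin]
    simp only [h3, h4]
  rw [h2, ← Finset.sum_filter]
  have h5 : (Finset.univ.filter fun U : Finset (Fin n) => U ⊆ Iᶜ) = (Iᶜ).powerset := by
    ext U; simp
  rw [h5, Finset.sum_powerset_neg_one_pow_card]
  have h6 : Iᶜ = ∅ ↔ Function.Bijective r := by
    rw [Finset.compl_eq_empty_iff, ← Finite.surjective_iff_bijective]
    constructor
    · intro h y
      have : y ∈ I := h ▸ Finset.mem_univ y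
      obtain ⟨x, -, hx⟩ := Finset.mem_image.mp this
      exact ⟨x, hx⟩
    · intro h
      exact Finset.image_univ_of_surjective h
  simp only [h6]

variable {A : Type*} [CommRing A] {n : ℕ} {M P : Type*} [AddCommGroup M] [Module A M]
  [AddCommGroup P] [Module A P]

/-- **Polarization identity.** -/
theorem polarization (F : MultilinearMap A (fun _ : Fin n => M) P) (v : Fin n → M) :
    ∑ σ : Equiv.Perm (Fin n), F (fun i => v (σ i))
      = ∑ S : Finset (Fin n), ((-1 : ℤ) ^ (n - S.card)) • F (fun _ => ∑ j ∈ S, v j) := by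
  classical
  symm
  calc ∑ S : Finset (Fin n), ((-1 : ℤ) ^ (n - S.card)) • F (fun _ => ∑ j ∈ S, v j)
      = ∑ S : Finset (Fin n), ((-1 : ℤ) ^ (n - S.card)) •
          ∑ r ∈ Fintype.piFinset (fun _ : Fin n => S), F (fun i => v (r i)) := by
        refine Finset.sum_congr rfl fun S _ => ?_
        rw [F.map_sum_finset (fun _ j => v j) (fun _ => S)]
    _ = ∑ S : Finset (Fin n), ∑ r : Fin n → Fin n,
          (if ∀ i, r i ∈ S then (-1 : ℤ) ^ (n - S.card) else 0) • F (fun i => v (r i)) := by
        refine Finset.sum_congr rfl fun S _ => ?_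
        rw [Finset.smul_sum]
        have : Fintype.piFinset (fun _ : Fin n => S)
            = Finset.univ.filter (fun r : Fin n → Fin n => ∀ i, r i ∈ S) := by
          ext r; simp [Fintype.mem_piFinset]
        rw [this, Finset.sum_filter]
        refine Finset.sum_congr rfl fun r _ => ?_
        split_ifs <;> simp
    _ = ∑ r : Fin n → Fin n, (∑ S : Finset (Fin n),
          (if ∀ i, r i ∈ S then (-1 : ℤ) ^ (n - S.card) else 0)) • F (fun i => v (r i)) := by
        rw [Finset.sum_comm]
        refine Finset.sum_congr rfl fun r _ => ?_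
        rw [Finset.sum_smul]
    _ = ∑ r : Fin n → Fin n, (if Function.Bijective r then (1 : ℤ) else 0) •
          F (fun i => v (r i)) := by
        simp_rw [coeff_eq]
    _ = ∑ r ∈ Finset.univ.filter (fun r : Fin n → Fin n => Function.Bijective r),
          F (fun i => v (r i)) := by
        rw [Finset.sum_filter]
        refine Finset.sum_congr rfl fun r _ => ?_
        split_ifs <;> simp
    _ = ∑ σ : Equiv.Perm (Fin n), F (fun i => v (σ i)) := by
        symm
        refine Finset.sum_bij (fun σ _ => (σ : Fin n → Fin n)) ?_ ?_ ?_ ?_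
        · intro σ _
          simp only [Finset.mem_filter, Finset.mem_univ, true_and]
          exact σ.bijective
        · intro σ _ τ _ h
          exact DFunLike.coe_injective h
        · intro r hr
          simp only [Finset.mem_filter, Finset.mem_univ, true_and] at hr
          exact ⟨Equiv.ofBijective r hr, Finset.mem_univ _, rfl⟩
        · intro σ _
          rfl

end Groth.Agent.Lib.Helper98.Polarize
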