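import Mathlib
import Groth.Agent.Lib.Helper70.IrrComp
import Groth.Agent.Lib.Helper70.UnramFlat

/-!
# Schemes whose quasi-compact opens have finitely many irreducible components (helper98)

`qcFinIrr_of_flat_lft`: the property ascends along flat morphisms locally of finite type
(via helper70's `finite_minimalPrimes_of_flat_of_finiteType` and
`finite_irreducibleComponents_of_finite_cover`).
-/

set_option autoImplicit false
set_option linter.style.haveILetI false
universe u

namespace Groth.Agent.Lib.Helper98.QcFinIrr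

open CategoryTheory AlgebraicGeometry
open Groth.Agent.Lib.Helper70.IrrComp Groth.Agent.Lib.Helper70.UnramFlat

theorem finite_irr_iff_minimalPrimes (R : Type u) [CommRing R] :
    (irreducibleComponents (PrimeSpectrum R)).Finite ↔ (minimalPrimes R).Finite := by
  have e := (minimalPrimes.equivIrreducibleComponents R).toEquiv.trans OrderDual.ofDual
  exact ⟨fun hf => (Equiv.finite_iff e).2 hf, fun hf => (Equiv.finite_iff e).1 hf⟩

theorem finite_irr_of_isAffineOpen_iff {X : Scheme.{u}} {W : X.Opens} (hW : IsAffineOpen W) :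
    (irreducibleComponents ↥W).Finite ↔
      (irreducibleComponents (PrimeSpectrum Γ(X, W))).Finite := by
  let e : ↥W ≃ₜ PrimeSpectrum Γ(X, W) := Scheme.homeoOfIso hW.isoSpec
  exact ⟨fun h => finite_irreducibleComponents_of_isOpenEmbedding e.symm.isOpenEmbedding h,
    fun h => finite_irreducibleComponents_of_isOpenEmbedding e.isOpenEmbedding h⟩

theorem qcFinIrr_of_flat_lft {U V : Scheme.{u}} (k : U ⟶ V) [Flat k] [LocallyOfFiniteType k]
    (hV : ∀ W : V.Opens, IsCompact (W : Set ↥V) → (irreducibleComponents ↥W).Finite)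
    (W : U.Opens) (hW : IsCompact (W : Set ↥U)) : (irreducibleComponents ↥W).Finite := by
  have hex : ∀ w : W, ∃ (W' : U.Opens) (V' : V.Opens), IsAffineOpen W' ∧ IsAffineOpen V' ∧
      w.1 ∈ W' ∧ W' ≤ W ∧ W' ≤ k ⁻¹ᵁ V' := by
    intro w
    obtain ⟨_, ⟨V', hV', rfl⟩, hkw, -⟩ :=
      V.isBasis_affineOpens.exists_subset_of_mem_open (Set.mem_univ (k w.1)) isOpen_univ
    obtain ⟨_, ⟨W', hW', rfl⟩, hwW', hsub⟩ :=
      U.isBasis_affineOpens.exists_subset_of_mem_open
        (show w.1 ∈ (W ⊓ k ⁻¹ᵁ V' : U.Opens) from ⟨w.2, hkw⟩) (W ⊓ k ⁻¹ᵁ V').2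
    exact ⟨W', V', hW', hV', hwW', fun x hx => (hsub hx).1, fun x hx => (hsub hx).2⟩
  choose W' V' hW'aff hV'aff hmem hleW hlek using hex
  obtain ⟨t, ht⟩ := hW.elim_finite_subcover (fun w : W => (W' w : Set U)) (fun w => (W' w).2)
    (fun x hx => Set.mem_iUnion.2 ⟨⟨x, hx⟩, hmem _⟩)
  apply finite_irreducibleComponents_of_finite_cover (ι := t)
    (fun w => (Subtype.val ⁻¹' (W' w.1 : Set U) : Set W))
  · intro x
    obtain ⟨w, hw, hxw⟩ := Set.mem_iUnion₂.1 (ht x.2)
    exact ⟨⟨w, hw⟩, hxw⟩
  · rintro ⟨w, -⟩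
    -- the affine piece
    have hA : (irreducibleComponents (PrimeSpectrum Γ(V, V' w))).Finite :=
      (finite_irr_of_isAffineOpen_iff (hV'aff w)).1 (hV _ (hV'aff w).isCompact)
    have hφ1 : (k.appLE (V' w) (W' w) (hlek w)).hom.Flat :=
      HasRingHomProperty.appLE (P := @Flat) k inferInstance ⟨V' w, hV'aff w⟩ ⟨W' w, hW'aff w⟩
        (hlek w)
    have hφ2 : (k.appLE (V' w) (W' w) (hlek w)).hom.FiniteType :=
      HasRingHomProperty.appLE (P := @LocallyOfFiniteType) k inferInstance ⟨V' w, hV'aff w⟩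
        ⟨W' w, hW'aff w⟩ (hlek w)
    letI := (k.appLE (V' w) (W' w) (hlek w)).hom.toAlgebra
    haveI : Module.Flat Γ(V, V' w) Γ(U, W' w) := hφ1
    haveI : Algebra.FiniteType Γ(V, V' w) Γ(U, W' w) := hφ2
    have hB : (irreducibleComponents (PrimeSpectrum Γ(U, W' w))).Finite :=
      (finite_irr_iff_minimalPrimes _).2
        (finite_minimalPrimes_of_flat_of_finiteType ((finite_irr_iff_minimalPrimes _).1 hA))
    have hW'fin : (irreducibleComponents ↥(W' w)).Finite :=
      (finite_irr_of_isAffineOpen_iff (hW'aff w)).2 hB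
    -- transfer to the subset of `↥W`
    let g : ↥(Subtype.val ⁻¹' (W' w : Set U) : Set W) → ↥(W' w) := fun x => ⟨x.1.1, x.2⟩
    have hgc : Continuous g :=
      Continuous.subtype_mk (continuous_subtype_val.comp continuous_subtype_val) _
    have hemb : Topology.IsEmbedding g := by
      have hcomp : Topology.IsEmbedding (Subtype.val ∘ g) := by
        have : (Subtype.val ∘ g) = (Subtype.val ∘ Subtype.val :
            ↥(Subtype.val ⁻¹' (W' w : Set U) : Set W) → U) := rfl
        rw [this]
        exact Topology.IsEmbedding.subtypeVal.comp Topology.IsEmbedding.subtypeVal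
      exact Topology.IsEmbedding.of_comp hgc continuous_subtype_val hcomp
    have hrange : Set.range g = Set.univ := by
      apply Set.eq_univ_of_forall
      intro y
      exact ⟨⟨⟨y.1, hleW w y.2⟩, y.2⟩, rfl⟩
    have hopen : Topology.IsOpenEmbedding g := ⟨hemb, by rw [hrange]; exact isOpen_univ⟩
    exact finite_irreducibleComponents_of_isOpenEmbedding hopen hW'fin

end Groth.Agent.Lib.Helper98.QcFinIrr
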