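import Mathlib
import Groth.Agent.Lib.Helper98.QcFinIrr
import Groth.Agent.Lib.Helper73.Equidim
import Groth.Agent.Lib.Helper51.AlgSpDimCharts
import Groth.Agent.Lib.Helper51.SchemeCoheight

/-!
# Locally finitely many irreducible components on algebraic spaces (helper98)

Scheme level: descent of "quasi-compact opens have finitely many irreducible components" along
surjective open maps, and the relation with the finiteness of the set of codimension `0` points.
`AlgSp` level: the property holds for one etale surjective chart iff it holds for every etale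
chart (`etaleLocally_qcFinIrr_iff_forall`).
-/

set_option autoImplicit false
set_option linter.style.haveILetI false
universe u

namespace Groth.Agent.Lib.Helper98.QcFinIrr

open CategoryTheory CategoryTheory.Limits AlgebraicGeometry AlgSp
open Groth.Agent.Lib.Helper52 Groth.Agent.Lib.Helper51 Groth.Agent.Lib.Helper73.SchemeDim

theorem finite_irreducibleComponents_of_surjective {A B : Type*} [TopologicalSpace A]
    [TopologicalSpace B] (φ : A → B) (hφ : Continuous φ) (hs : Function.Surjective φ)
    (h : (irreducibleComponents A).Finite) : (irreducibleComponents B).Finite := by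
  let S : Set (Set B) := (fun Z => closure (φ '' Z)) '' irreducibleComponents A
  have hSfin : S.Finite := h.image _
  have hSclosed : ∀ s ∈ S, IsClosed s := by
    rintro _ ⟨Z, -, rfl⟩; exact isClosed_closure
  have hSirr : ∀ s ∈ S, IsIrreducible s := by
    rintro _ ⟨Z, hZ, rfl⟩
    exact (hZ.1.image _ hφ.continuousOn).closure
  have hScov : ∀ b : B, ∃ s ∈ S, b ∈ s := by
    intro b
    obtain ⟨a, rfl⟩ := hs b
    exact ⟨closure (φ '' irreducibleComponent a),
      ⟨_, irreducibleComponent_mem_irreducibleComponents a, rfl⟩,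
      subset_closure ⟨a, mem_irreducibleComponent, rfl⟩⟩
  refine hSfin.subset ?_
  intro Z hZ
  have hZirr : IsIrreducible Z := hZ.1
  obtain ⟨s, hs', hZs⟩ := (isIrreducible_iff_sUnion_isClosed.mp hZirr) hSfin.toFinset
    (fun z hz => hSclosed z (hSfin.mem_toFinset.mp hz))
    (fun x _ => by
      obtain ⟨s, hs, hxs⟩ := hScov x
      exact ⟨s, by simpa using hs, hxs⟩)
  have hs'' : s ∈ S := hSfin.mem_toFinset.mp hs'
  have h1 : s ≤ Z := hZ.2 (hSirr s hs'') hZs
  have h2 : Z = s := le_antisymm hZs h1
  rw [h2]; exact hs''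

theorem qcFinIrr_of_surjective_isOpenMap {T U : Scheme.{u}} (g : T ⟶ U) (hopen : IsOpenMap g)
    (hsurj : Function.Surjective g)
    (hT : ∀ W : T.Opens, IsCompact (W : Set ↥T) → (irreducibleComponents ↥W).Finite)
    (W : U.Opens) (hW : IsCompact (W : Set ↥U)) : (irreducibleComponents ↥W).Finite := by
  have hex : ∀ w : W, ∃ N : T.Opens, IsAffineOpen N ∧ N ≤ g ⁻¹ᵁ W ∧ w.1 ∈ g '' (N : Set T) := by
    intro w
    obtain ⟨t, ht⟩ := hsurj w.1
    have htW : t ∈ (g ⁻¹ᵁ W : T.Opens) := by
      show g t ∈ W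
      rw [ht]; exact w.2
    obtain ⟨_, ⟨N, hN, rfl⟩, htN, hsub⟩ :=
      T.isBasis_affineOpens.exists_subset_of_mem_open htW (g ⁻¹ᵁ W).2
    exact ⟨N, hN, hsub, t, htN, ht⟩
  choose N hNaff hNle hNmem using hex
  obtain ⟨t, ht⟩ := hW.elim_finite_subcover (fun w : W => g '' (N w : Set T))
    (fun w => hopen _ (N w).2) (fun x hx => Set.mem_iUnion.2 ⟨⟨x, hx⟩, hNmem _⟩)
  let M : T.Opens := ⨆ w ∈ t, N w
  have hMc : IsCompact (M : Set T) := by
    have : (M : Set T) = ⋃ w ∈ t, (N w : Set T) := by simp [M]
    rw [this]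
    exact t.isCompact_biUnion (fun w _ => (hNaff w).isCompact)
  have hMfin := hT M hMc
  have hMW : ∀ m : M, g m.1 ∈ W := by
    intro m
    have hm := m.2
    simp only [M, TopologicalSpace.Opens.mem_iSup] at hm
    obtain ⟨w, -, hm'⟩ := hm
    exact hNle w hm'
  let φ : ↥M → ↥W := fun m => ⟨g m.1, hMW m⟩
  have hφc : Continuous φ :=
    Continuous.subtype_mk (g.continuous.comp continuous_subtype_val) _
  have hφs : Function.Surjective φ := by
    rintro ⟨x, hx⟩
    obtain ⟨w, hw, hxw⟩ := Set.mem_iUnion₂.1 (ht hx)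
    obtain ⟨n, hn, rfl⟩ := hxw
    exact ⟨⟨n, TopologicalSpace.Opens.mem_iSup.2
      ⟨w, TopologicalSpace.Opens.mem_iSup.2 ⟨hw, hn⟩⟩⟩, rfl⟩
  exact finite_irreducibleComponents_of_surjective φ hφc hφs hMfin

theorem finite_irreducibleComponents_of_top {T : Type*} [TopologicalSpace T]
    (h : (irreducibleComponents ↥(⊤ : TopologicalSpace.Opens T)).Finite) :
    (irreducibleComponents T).Finite :=
  finite_irreducibleComponents_of_surjective Subtype.val continuous_subtype_val
    (fun t => ⟨⟨t, trivial⟩, rfl⟩) h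

theorem closure_mem_irreducibleComponents_of_stalk_dim_zero {T : Scheme.{u}} (t : T)
    (h : ringKrullDim (T.presheaf.stalk t) = 0) :
    closure ({t} : Set T) ∈ irreducibleComponents T := by
  rw [ringKrullDim_stalk_eq_coheight] at h
  have h0 : Order.coheight t = 0 := by exact_mod_cast h
  rw [Order.coheight_eq_zero] at h0
  apply closure_singleton_mem_irreducibleComponents_of_maximal
  intro t' ht'
  have h1 : t ⤳ t' := h0 (show t ≤ t' from ht')
  exact (ht'.antisymm h1).eq

theorem finite_setOf_stalk_dim_zero {T : Scheme.{u}} (h : (irreducibleComponents T).Finite) :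
    {t : T | ringKrullDim (T.presheaf.stalk t) = 0}.Finite := by
  refine Set.Finite.of_finite_image (f := fun t => closure ({t} : Set T)) (h.subset ?_) ?_
  · rintro _ ⟨t, ht, rfl⟩
    exact closure_mem_irreducibleComponents_of_stalk_dim_zero t ht
  · intro t _ t' _ heq
    exact (inseparable_iff_closure_eq.2 heq).eq

theorem finite_irreducibleComponents_of_finite_stalk_dim_zero {T : Scheme.{u}}
    (h : {t : T | ringKrullDim (T.presheaf.stalk t) = 0}.Finite) :
    (irreducibleComponents T).Finite := by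
  have key : ∀ Z ∈ irreducibleComponents T, ∃ η : T, closure {η} = Z ∧
      ringKrullDim (T.presheaf.stalk η) = 0 := by
    intro Z hZ
    obtain ⟨η, hη⟩ := QuasiSober.sober hZ.1 (isClosed_of_mem_irreducibleComponents Z hZ)
    refine ⟨η, hη.def, ?_⟩
    rw [ringKrullDim_stalk_eq_coheight]
    have hmax := maximal_of_closure_singleton_mem_irreducibleComponents η
      (by rw [hη.def]; exact hZ)
    have hM : IsMax η := fun b hb => by rw [hmax b hb]
    rw [Order.coheight_eq_zero.2 hM]; rfl
  haveI hfin : Finite {t : T | ringKrullDim (T.presheaf.stalk t) = 0} := h.to_subtype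
  rw [← Set.finite_coe_iff]
  choose η hη1 hη2 using key
  exact Finite.of_injective (fun Z : irreducibleComponents T =>
      (⟨η Z.1 Z.2, hη2 Z.1 Z.2⟩ : {t : T | ringKrullDim (T.presheaf.stalk t) = 0}))
    (fun Z Z' heq => by
      have h1 : η Z.1 Z.2 = η Z'.1 Z'.2 := congrArg Subtype.val heq
      apply Subtype.ext
      rw [← hη1 Z.1 Z.2, ← hη1 Z'.1 Z'.2, h1])

variable {S : Scheme.{u}}

/-- The property holds for some etale surjective chart iff it holds for every etale chart. -/
theorem forall_of_etaleLocally_qcFinIrr {X : AlgSp.Sp S}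
    (hE : EtaleLocally (fun U => ∀ W : U.Opens, IsCompact (W : Set ↥U) →
      (irreducibleComponents ↥W).Finite) X)
    (U : Over S) (a : (yon S).obj U ⟶ X) (ha : RepWith @Etale a) :
    ∀ W : U.left.Opens, IsCompact (W : Set ↥U.left) → (irreducibleComponents ↥W).Finite := by
  obtain ⟨V, b, hb, hbs, hV⟩ := hE
  have sq := hb.rep.isPullback' a
  set p₁ : hb.rep.pullback a ⟶ V := hb.rep.fst' a with hp₁
  set p₂ : hb.rep.pullback a ⟶ U := hb.rep.snd a with hp₂
  haveI : Etale p₂.left := hb.property _ _ _ sq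
  haveI : Surjective p₂.left := hbs.property _ _ _ sq
  haveI : Etale p₁.left := ha.property _ _ _ sq.flip
  have hT := fun W hW => qcFinIrr_of_flat_lft p₁.left hV W hW
  exact fun W hW => qcFinIrr_of_surjective_isOpenMap p₂.left p₂.left.isOpenMap
    p₂.left.surjective hT W hW

/-- A quasi-compact open of an etale chart, as a quasi-compact algebraic space etale over `X`. -/
theorem apply_to_qc_open {X : AlgSp.Space S} {U : Over S} (a : (yon S).obj U ⟶ X.obj)
    (ha : RepWith @Etale a) (W : U.left.Opens) (hW : IsCompact (W : Set ↥U.left))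
    (R : AlgSp.Sp S → Prop)
    (H : ∀ (Y : AlgSp.Space S) (g : Y ⟶ X), IsEtaleMor g.hom → IsQuasiCompactSp Y.obj → R Y.obj) :
    R ((yon S).obj (Over.mk (W.ι ≫ U.hom))) := by
  let Wo : Over S := Over.mk (W.ι ≫ U.hom)
  let ι' : Wo ⟶ U := Over.homMk W.ι rfl
  haveI : IsOpenImmersion ι'.left := inferInstanceAs (IsOpenImmersion W.ι)
  have hι' : RepWith @Etale ((yon S).map ι') :=
    (repWith_yon_map_iff _ _).2 (inferInstance : Etale ι'.left)
  let Y : AlgSp.Space S := ⟨(yon S).obj Wo, IsAlgSpace.yon_obj Wo⟩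
  let g : Y ⟶ X := ObjectProperty.homMk ((yon S).map ι' ≫ a)
  have hg : IsEtaleMor g.hom := by
    intro U' φ hφ
    exact (AlgSp.RepWith (S := S) @Etale).comp_mem _ _ hφ
      ((AlgSp.RepWith (S := S) @Etale).comp_mem _ _ hι' ha)
  haveI : CompactSpace ↥Wo.left := isCompact_iff_compactSpace.1 hW
  have hqc : IsQuasiCompactSp Y.obj :=
    ⟨Wo, 𝟙 _, repWith_id @Etale Wo, repWith_id @Surjective Wo, inferInstance⟩
  exact H Y g hg hqc

end Groth.Agent.Lib.Helper98.QcFinIrr
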