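import Groth.Agent.Lib.Helper98.RegularMat
set_option autoImplicit false
open Matrix MvPolynomial

namespace Groth.Agent.Lib.Helper98.RegularFlat
open Groth.Agent.Lib.Helper98.RegularMat
universe u

variable {A : Type u} [CommRing A] {n : ℕ} (g : Matrix (Fin n) (Fin n) A)

/-- the combination `∑ b_j G^j` -/
def comb {B : Type*} [CommRing B] [Algebra A B] (b : Fin n → B) : Matrix (Fin n) (Fin n) B :=
  ∑ j : Fin n, b j • (g.map (algebraMap A B)) ^ (j : ℕ)

theorem comb_commute {B : Type*} [CommRing B] [Algebra A B] (b : Fin n → B) :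
    comb g b * g.map (algebraMap A B) = g.map (algebraMap A B) * comb g b := by
  rw [comb, Finset.sum_mul, Finset.mul_sum]
  refine Finset.sum_congr rfl fun j _ => ?_
  rw [smul_mul_assoc, mul_smul_comm, ← pow_succ, ← pow_succ']

theorem map_map_algebraMap {B C : Type*} [CommRing B] [Algebra A B] [CommRing C] [Algebra A C]
    (f : B →ₐ[A] C) : (g.map (algebraMap A B)).map f = g.map (algebraMap A C) := by
  ext i j
  simp

theorem map_comb {B C : Type*} [CommRing B] [Algebra A B] [CommRing C] [Algebra A C]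
    (f : B →ₐ[A] C) (b : Fin n → B) : (comb g b).map f = comb g (f ∘ b) := by
  have h1 : (comb g b).map f = f.mapMatrix (comb g b) := rfl
  rw [h1, comb, map_sum, comb]
  refine Finset.sum_congr rfl fun j _ => ?_
  have h2 : f.mapMatrix (b j • (g.map (algebraMap A B)) ^ (j : ℕ)) =
      f (b j) • f.mapMatrix ((g.map (algebraMap A B)) ^ (j : ℕ)) := by
    ext i k
    simp
  rw [h2, map_pow]
  congr 2
  exact map_map_algebraMap g f


/-- the element of `A[c]` inverted in the model ring -/
noncomputable def polyDet (d : A) : MvPolynomial (Fin n) A :=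
  C d * (comb g (X : Fin n → MvPolynomial (Fin n) A)).det

/-- the model ring: a localization of a polynomial ring -/
abbrev T (d : A) : Type u := Localization.Away (polyDet g d)

theorem aeval_polyDet (d : A) {B : Type*} [CommRing B] [Algebra A B] (b : Fin n → B) :
    aeval b (polyDet g d) = algebraMap A B d * (comb g b).det := by
  rw [polyDet, map_mul, aeval_C, AlgHom.map_det]
  congr 2
  have : (aeval b : MvPolynomial (Fin n) A →ₐ[A] B).mapMatrix (comb g X) = (comb g X).map (aeval b) := rfl
  rw [this, map_comb]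
  congr 1
  funext j
  simp

/-- lift out of the model ring -/
noncomputable def Tlift (d : A) {B : Type*} [CommRing B] [Algebra A B] (b : Fin n → B)
    (hd : IsUnit (algebraMap A B d)) (hD : IsUnit (comb g b).det) : T g d →ₐ[A] B :=
  IsLocalization.Away.liftAlgHom (polyDet g d) (f := aeval b) (by
    rw [aeval_polyDet]; exact hd.mul hD)

theorem Tlift_X (d : A) {B : Type*} [CommRing B] [Algebra A B] (b : Fin n → B)
    (hd : IsUnit (algebraMap A B d)) (hD : IsUnit (comb g b).det) (j : Fin n) :
    Tlift g d b hd hD (algebraMap (MvPolynomial (Fin n) A) (T g d) (X j)) = b j := by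
  rw [Tlift, IsLocalization.Away.liftAlgHom_apply, IsLocalization.Away.lift_eq]
  simp

theorem isUnit_T_d (d : A) : IsUnit (algebraMap A (T g d) d) := by
  have h : IsUnit (algebraMap (MvPolynomial (Fin n) A) (T g d)
      (C d * (comb g (X : Fin n → MvPolynomial (Fin n) A)).det)) :=
    IsLocalization.Away.algebraMap_isUnit (S := T g d) (polyDet g d)
  rw [map_mul] at h
  have := isUnit_of_mul_isUnit_left h
  rwa [IsScalarTower.algebraMap_apply A (MvPolynomial (Fin n) A) (T g d)]

theorem isUnit_T_det (d : A) :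
    IsUnit (comb g (fun j => algebraMap (MvPolynomial (Fin n) A) (T g d) (X j))).det := by
  have h : IsUnit (algebraMap (MvPolynomial (Fin n) A) (T g d)
      (C d * (comb g (X : Fin n → MvPolynomial (Fin n) A)).det)) :=
    IsLocalization.Away.algebraMap_isUnit (S := T g d) (polyDet g d)
  rw [map_mul] at h
  have h2 := isUnit_of_mul_isUnit_right h
  have h3 : (comb g (fun j => algebraMap (MvPolynomial (Fin n) A) (T g d) (X j))) =
      (comb g (X : Fin n → MvPolynomial (Fin n) A)).map
        (IsScalarTower.toAlgHom A (MvPolynomial (Fin n) A) (T g d)) := by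
    rw [map_comb]
    rfl
  rw [h3]
  have h4 : ((comb g (X : Fin n → MvPolynomial (Fin n) A)).map
        (IsScalarTower.toAlgHom A (MvPolynomial (Fin n) A) (T g d))).det =
      algebraMap (MvPolynomial (Fin n) A) (T g d) (comb g X).det := by
    rw [← AlgHom.mapMatrix_apply, ← AlgHom.map_det]
    rfl
  rw [h4]
  exact h2

instance (d : A) : Module.Flat A (T g d) := inferInstance


/-- the commutation ideal -/
noncomputable abbrev commIdeal : Ideal (MvPolynomial (Fin n × Fin n) A) :=
  Ideal.span (Set.range fun ij : Fin n × Fin n =>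
    (Matrix.mvPolynomialX (Fin n) (Fin n) A * g.map MvPolynomial.C -
      g.map MvPolynomial.C * Matrix.mvPolynomialX (Fin n) (Fin n) A :
        Matrix (Fin n) (Fin n) (MvPolynomial (Fin n × Fin n) A)) ij.1 ij.2)

/-- coordinate ring of the commutant -/
abbrev Q0 : Type u := MvPolynomial (Fin n × Fin n) A ⧸ commIdeal g

/-- the determinant in `Q0` -/
noncomputable abbrev delta : Q0 g :=
  Ideal.Quotient.mk (commIdeal g) (Matrix.mvPolynomialX (Fin n) (Fin n) A).det

/-- coordinate ring of the centralizer -/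
abbrev Q1 : Type u := Localization.Away (delta g)

/-- its localization at `d ∈ A` -/
abbrev Q2 (d : A) : Type u := Localization.Away (algebraMap A (Q1 g) d)

/-- the structure map from the polynomial ring -/
noncomputable def iota (d : A) : MvPolynomial (Fin n × Fin n) A →ₐ[A] Q2 g d :=
  (IsScalarTower.toAlgHom A (Q1 g) (Q2 g d)).comp
    ((IsScalarTower.toAlgHom A (Q0 g) (Q1 g)).comp (Ideal.Quotient.mkₐ A (commIdeal g)))

/-- the generic commuting matrix -/
noncomputable def Xbar (d : A) : Matrix (Fin n) (Fin n) (Q2 g d) :=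
  (Matrix.mvPolynomialX (Fin n) (Fin n) A).map (iota g d)

theorem map_C_eq {B : Type*} [CommRing B] [Algebra A B]
    (f : MvPolynomial (Fin n × Fin n) A →ₐ[A] B) :
    (g.map MvPolynomial.C).map f = g.map (algebraMap A B) := by
  ext i j
  rw [Matrix.map_apply, Matrix.map_apply, Matrix.map_apply, ← MvPolynomial.algebraMap_eq,
    AlgHom.commutes]

theorem Xbar_commute (d : A) :
    Xbar g d * g.map (algebraMap A (Q2 g d)) = g.map (algebraMap A (Q2 g d)) * Xbar g d := by
  rw [← sub_eq_zero, Xbar, ← map_C_eq g (iota g d)]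
  have h : ((Matrix.mvPolynomialX (Fin n) (Fin n) A).map (iota g d) * (g.map MvPolynomial.C).map (iota g d) -
      (g.map MvPolynomial.C).map (iota g d) * (Matrix.mvPolynomialX (Fin n) (Fin n) A).map (iota g d)) =
      (iota g d).mapMatrix (Matrix.mvPolynomialX (Fin n) (Fin n) A * g.map MvPolynomial.C -
        g.map MvPolynomial.C * Matrix.mvPolynomialX (Fin n) (Fin n) A) := by
    rw [map_sub, map_mul, map_mul]
    rfl
  rw [h]
  ext i j
  rw [AlgHom.mapMatrix_apply, Matrix.map_apply, Matrix.zero_apply, iota]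
  simp only [AlgHom.comp_apply, Ideal.Quotient.mkₐ_eq_mk]
  have : Ideal.Quotient.mk (commIdeal g) ((Matrix.mvPolynomialX (Fin n) (Fin n) A * g.map MvPolynomial.C -
        g.map MvPolynomial.C * Matrix.mvPolynomialX (Fin n) (Fin n) A :
          Matrix (Fin n) (Fin n) (MvPolynomial (Fin n × Fin n) A)) i j) = 0 :=
    Ideal.Quotient.eq_zero_iff_mem.mpr (Ideal.subset_span ⟨(i, j), rfl⟩)
  rw [this, map_zero, map_zero]

theorem isUnit_Q2_d (d : A) : IsUnit (algebraMap A (Q2 g d) d) := by
  rw [IsScalarTower.algebraMap_apply A (Q1 g) (Q2 g d)]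
  exact IsLocalization.Away.algebraMap_isUnit _

theorem isUnit_det_Xbar (d : A) : IsUnit (Xbar g d).det := by
  have h1 : (Xbar g d).det = iota g d (Matrix.mvPolynomialX (Fin n) (Fin n) A).det := by
    rw [Xbar, ← AlgHom.mapMatrix_apply, ← AlgHom.map_det]
  rw [h1, iota]
  simp only [AlgHom.comp_apply, Ideal.Quotient.mkₐ_eq_mk]
  apply IsUnit.map
  exact IsLocalization.Away.algebraMap_isUnit (delta g)


section Lift
variable {B : Type*} [CommRing B] [Algebra A B] (x : Matrix (Fin n) (Fin n) B)

/-- evaluation at a matrix -/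
noncomputable def ev0 : MvPolynomial (Fin n × Fin n) A →ₐ[A] B :=
  MvPolynomial.aeval fun ik : Fin n × Fin n => x ik.1 ik.2

theorem ev0_mapMatrix : (Matrix.mvPolynomialX (Fin n) (Fin n) A).map (ev0 x) = x :=
  Matrix.mvPolynomialX_mapMatrix_aeval (R := A) x

theorem ev0_mem (hx : x * g.map (algebraMap A B) = g.map (algebraMap A B) * x) :
    ∀ a ∈ commIdeal g, ev0 x a = 0 := by
  intro a ha
  have hle : commIdeal g ≤ RingHom.ker (ev0 (A := A) x).toRingHom := by
    rw [commIdeal, Ideal.span_le]
    rintro _ ⟨ij, rfl⟩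
    rw [SetLike.mem_coe, RingHom.mem_ker]
    have h : (ev0 (A := A) x).mapMatrix (Matrix.mvPolynomialX (Fin n) (Fin n) A * g.map MvPolynomial.C -
        g.map MvPolynomial.C * Matrix.mvPolynomialX (Fin n) (Fin n) A) = 0 := by
      rw [map_sub, map_mul, map_mul]
      have h1 : (ev0 (A := A) x).mapMatrix (Matrix.mvPolynomialX (Fin n) (Fin n) A) = x := ev0_mapMatrix x
      have h2 : (ev0 (A := A) x).mapMatrix (g.map MvPolynomial.C) = g.map (algebraMap A B) :=
        map_C_eq g (ev0 x)
      rw [h1, h2, hx, sub_self]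
    exact congrFun (congrFun h ij.1) ij.2
  exact hle ha

/-- lift out of `Q0` -/
noncomputable def lift0 (hx : x * g.map (algebraMap A B) = g.map (algebraMap A B) * x) :
    Q0 g →ₐ[A] B :=
  Ideal.Quotient.liftₐ (commIdeal g) (ev0 x) (ev0_mem g x hx)

theorem lift0_delta (hx : x * g.map (algebraMap A B) = g.map (algebraMap A B) * x) :
    lift0 g x hx (delta g) = x.det := by
  show ev0 x _ = _
  rw [AlgHom.map_det]
  congr 1
  exact ev0_mapMatrix x

/-- lift out of `Q1` -/
noncomputable def lift1 (hx : x * g.map (algebraMap A B) = g.map (algebraMap A B) * x)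
    (hdet : IsUnit x.det) : Q1 g →ₐ[A] B :=
  IsLocalization.Away.liftAlgHom (delta g) (f := lift0 g x hx) (by rw [lift0_delta]; exact hdet)

/-- lift out of `Q2` -/
noncomputable def lift2 (d : A) (hx : x * g.map (algebraMap A B) = g.map (algebraMap A B) * x)
    (hdet : IsUnit x.det) (hd : IsUnit (algebraMap A B d)) : Q2 g d →ₐ[A] B :=
  IsLocalization.Away.liftAlgHom (algebraMap A (Q1 g) d) (f := lift1 g x hx hdet) (by
    rw [AlgHom.commutes]; exact hd)

theorem lift2_iota (d : A) (hx : x * g.map (algebraMap A B) = g.map (algebraMap A B) * x)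
    (hdet : IsUnit x.det) (hd : IsUnit (algebraMap A B d)) (a : MvPolynomial (Fin n × Fin n) A) :
    lift2 g x d hx hdet hd (iota g d a) = ev0 x a := by
  rw [iota]
  simp only [AlgHom.comp_apply, IsScalarTower.coe_toAlgHom', Ideal.Quotient.mkₐ_eq_mk]
  rw [lift2, IsLocalization.Away.liftAlgHom_apply, IsLocalization.Away.lift_eq]
  show lift1 g x hx hdet _ = _
  rw [lift1, IsLocalization.Away.liftAlgHom_apply, IsLocalization.Away.lift_eq]
  rfl

theorem lift2_Xbar (d : A) (hx : x * g.map (algebraMap A B) = g.map (algebraMap A B) * x)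
    (hdet : IsUnit x.det) (hd : IsUnit (algebraMap A B d)) :
    (Xbar g d).map (lift2 g x d hx hdet hd) = x := by
  ext i k
  rw [Xbar, Matrix.map_apply, Matrix.map_apply, lift2_iota, ← Matrix.map_apply (f := ev0 x),
    ev0_mapMatrix]

theorem hom_ext2 (d : A) {f f' : Q2 g d →ₐ[A] B} (h : (Xbar g d).map f = (Xbar g d).map f') :
    f = f' := by
  apply Localization.algHom_ext
  apply Localization.algHom_ext
  apply Ideal.Quotient.algHom_ext
  apply MvPolynomial.algHom_ext
  rintro ⟨i, k⟩
  have := congrFun (congrFun h i) k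
  simp only [Xbar, iota, Matrix.map_apply, Matrix.mvPolynomialX_apply, AlgHom.comp_apply,
    IsScalarTower.coe_toAlgHom', Ideal.Quotient.mkₐ_eq_mk] at this
  exact this

end Lift


theorem flat_Q2 (v : Fin n → A) : Module.Flat A (Q2 g (krylov g v).det) := by
  set d := (krylov g v).det with hd
  let Ybar : Matrix (Fin n) (Fin n) (T g d) :=
    comb g (fun j => algebraMap (MvPolynomial (Fin n) A) (T g d) (X j))
  let i : Q2 g d →ₐ[A] T g d :=
    lift2 g Ybar d (comb_commute g _) (isUnit_T_det g d) (isUnit_T_d g d)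
  obtain ⟨c, hc⟩ := exists_combination (g.map (algebraMap A (Q2 g d))) (Xbar g d)
    ((algebraMap A (Q2 g d)) ∘ v) (Xbar_commute g d)
  have hdet2 : (krylov (g.map (algebraMap A (Q2 g d))) ((algebraMap A (Q2 g d)) ∘ v)).det =
      algebraMap A (Q2 g d) d := by
    rw [← krylov_map, ← RingHom.mapMatrix_apply, ← RingHom.map_det]
  rw [hdet2] at hc
  obtain ⟨u, hu⟩ := isUnit_Q2_d g d
  rw [← hu] at hc
  let b : Fin n → Q2 g d := fun j => ↑u⁻¹ * c j
  have hX : Xbar g d = comb g b := by
    have h1 := congrArg (fun M => ((↑u⁻¹ * ↑u⁻¹ : Q2 g d)) • M) hc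
    simp only [smul_smul] at h1
    have e1 : (↑u⁻¹ * ↑u⁻¹ * (↑u * ↑u) : Q2 g d) = 1 := by
      rw [mul_mul_mul_comm, Units.inv_mul, one_mul]
    have e2 : (↑u⁻¹ * ↑u⁻¹ * ↑u : Q2 g d) = ↑u⁻¹ := by
      rw [mul_assoc, Units.inv_mul, mul_one]
    rw [e1, e2, one_smul] at h1
    rw [h1, comb]
    ext a k
    simp only [Matrix.smul_apply, Matrix.sum_apply, smul_eq_mul, Finset.mul_sum, b, mul_assoc]
  let r : T g d →ₐ[A] Q2 g d :=
    Tlift g d b (isUnit_Q2_d g d) (by rw [← hX]; exact isUnit_det_Xbar g d)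
  have hri : r.comp i = AlgHom.id A (Q2 g d) := by
    apply hom_ext2
    have h1 : (Xbar g d).map (r.comp i) = ((Xbar g d).map i).map r := by
      ext a k; simp
    rw [h1, lift2_Xbar, map_comb]
    have h2 : (r ∘ fun j => algebraMap (MvPolynomial (Fin n) A) (T g d) (X j)) = b := by
      funext j
      exact Tlift_X g d b _ _ j
    rw [h2, ← hX]
    ext a k; simp
  refine Module.Flat.of_retract i.toLinearMap r.toLinearMap ?_
  ext y
  exact congrArg (fun f : Q2 g d →ₐ[A] Q2 g d => f y) hri


theorem span_det_krylov_eq_top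
    (hreg : ∀ (K : Type u) [Field K] (φ : A →+* K),
      Module.finrank K (Subalgebra.centralizer K ({g.map φ} : Set (Matrix (Fin n) (Fin n) K))) = n) :
    Ideal.span (Set.range fun v : Fin n → A => (krylov g v).det) = ⊤ := by
  by_contra hne
  obtain ⟨m, hm, hle⟩ := Ideal.exists_le_maximal _ hne
  let _ : Field (A ⧸ m) := Ideal.Quotient.field m
  have h1 := hreg (A ⧸ m) (Ideal.Quotient.mk m)
  obtain ⟨vbar, hvbar⟩ := exists_cyclic_of_finrank_centralizer _ h1
  have hdet := det_krylov_ne_zero_of_cyclic _ vbar hvbar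
  choose v hv using fun i => Ideal.Quotient.mk_surjective (vbar i)
  have hv' : (Ideal.Quotient.mk m) ∘ v = vbar := funext hv
  apply hdet
  rw [← hv', ← krylov_map, ← RingHom.mapMatrix_apply, ← RingHom.map_det]
  exact Ideal.Quotient.eq_zero_iff_mem.mpr (hle (Ideal.subset_span ⟨v, rfl⟩))

/-- the centralizer of a fibrewise regular matrix is flat -/
theorem flat_Q1
    (hreg : ∀ (K : Type u) [Field K] (φ : A →+* K),
      Module.finrank K (Subalgebra.centralizer K ({g.map φ} : Set (Matrix (Fin n) (Fin n) K))) = n) :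
    Module.Flat A (Q1 g) := by
  have hspan := span_det_krylov_eq_top g hreg
  refine Module.flat_of_isLocalized_span (R := A) A (Q1 g)
    (Set.range fun v : Fin n → A => (krylov g v).det) hspan (fun r => Q2 g r.1)
    (fun r => (IsScalarTower.toAlgHom A (Q1 g) (Q2 g r.1)).toLinearMap) ?_
  rintro ⟨r, v, rfl⟩
  exact flat_Q2 g v

end Groth.Agent.Lib.Helper98.RegularFlat
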