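import Mathlib
set_option autoImplicit false
open Matrix

namespace Groth.Agent.Lib.Helper98.RegularMat

section Stage4
variable {B : Type*} [CommRing B] {n : ℕ}

/-- the Krylov matrix with columns `G^j v` -/
def krylov (G : Matrix (Fin n) (Fin n) B) (v : Fin n → B) : Matrix (Fin n) (Fin n) B :=
  Matrix.of fun i j => ((G ^ (j : ℕ)) *ᵥ v) i

theorem krylov_mulVec (G : Matrix (Fin n) (Fin n) B) (v c : Fin n → B) :
    krylov G v *ᵥ c = (∑ j : Fin n, c j • G ^ (j : ℕ)) *ᵥ v := by
  ext i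
  simp only [krylov, mulVec, dotProduct, of_apply, Matrix.sum_apply, Matrix.smul_apply, smul_eq_mul,
    Finset.sum_mul]
  rw [Finset.sum_comm]
  refine Finset.sum_congr rfl fun j _ => ?_
  refine Finset.sum_congr rfl fun k _ => ?_
  ring

theorem mul_krylov_eq_of_commute (G Z₁ Z₂ : Matrix (Fin n) (Fin n) B) (v : Fin n → B)
    (h₁ : Z₁ * G = G * Z₁) (h₂ : Z₂ * G = G * Z₂) (hv : Z₁ *ᵥ v = Z₂ *ᵥ v) :
    Z₁ * krylov G v = Z₂ * krylov G v := by
  have hc₁ : ∀ j : ℕ, Z₁ * G ^ j = G ^ j * Z₁ := fun j => (Commute.pow_right (show Commute Z₁ G from h₁) j).eq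
  have hc₂ : ∀ j : ℕ, Z₂ * G ^ j = G ^ j * Z₂ := fun j => (Commute.pow_right (show Commute Z₂ G from h₂) j).eq
  ext i j
  have e1 : (Z₁ * krylov G v) i j = (Z₁ *ᵥ ((G ^ (j : ℕ)) *ᵥ v)) i := by
    simp [krylov, Matrix.mul_apply, mulVec, dotProduct]
  have e2 : (Z₂ * krylov G v) i j = (Z₂ *ᵥ ((G ^ (j : ℕ)) *ᵥ v)) i := by
    simp [krylov, Matrix.mul_apply, mulVec, dotProduct]
  rw [e1, e2, mulVec_mulVec, mulVec_mulVec, hc₁, hc₂, ← mulVec_mulVec, ← mulVec_mulVec, hv]

/-- adjugate trick: if `x` commutes with `G` then `d^2 x = d Y` with `Y` a combination of powers of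
`G`, where `d = det (krylov G v)`. -/
theorem exists_combination (G x : Matrix (Fin n) (Fin n) B) (v : Fin n → B)
    (hx : x * G = G * x) :
    ∃ c : Fin n → B, (krylov G v).det • ((krylov G v).det • x) =
      (krylov G v).det • ∑ j : Fin n, c j • G ^ (j : ℕ) := by
  set P := krylov G v with hP
  set d := P.det with hd
  refine ⟨P.adjugate *ᵥ (x *ᵥ v), ?_⟩
  set c := P.adjugate *ᵥ (x *ᵥ v) with hc
  set Y := ∑ j : Fin n, c j • G ^ (j : ℕ) with hY
  have hYG : Y * G = G * Y := by
    rw [hY, Finset.sum_mul, Finset.mul_sum]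
    refine Finset.sum_congr rfl fun j _ => ?_
    rw [smul_mul_assoc, mul_smul_comm, ← pow_succ, ← pow_succ']
  have h1 : (d • x) *ᵥ v = Y *ᵥ v := by
    rw [hY, ← krylov_mulVec, hc, mulVec_mulVec, ← hP, mul_adjugate, ← hd, smul_mulVec, smul_mulVec,
      one_mulVec]
  have h2 : (d • x) * P = Y * P :=
    mul_krylov_eq_of_commute G (d • x) Y v (by rw [smul_mul_assoc, mul_smul_comm, hx]) hYG h1
  have h3 := congrArg (· * P.adjugate) h2
  simp only [Matrix.mul_assoc, mul_adjugate, ← hd] at h3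
  simpa [Matrix.mul_smul] using h3

theorem pow_four_smul_commute (G x y : Matrix (Fin n) (Fin n) B) (v : Fin n → B)
    (hx : x * G = G * x) (hy : y * G = G * y) :
    (krylov G v).det ^ 4 • (x * y - y * x) = 0 := by
  obtain ⟨c, hc⟩ := exists_combination G x v hx
  obtain ⟨c', hc'⟩ := exists_combination G y v hy
  set d := (krylov G v).det
  set Y := ∑ j : Fin n, c j • G ^ (j : ℕ) with hY
  set Y' := ∑ j : Fin n, c' j • G ^ (j : ℕ) with hY'
  have hYY' : Y * Y' = Y' * Y := by
    rw [hY, hY', Finset.sum_mul_sum, Finset.sum_mul_sum, Finset.sum_comm]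
    refine Finset.sum_congr rfl fun j _ => Finset.sum_congr rfl fun k _ => ?_
    rw [smul_mul_smul_comm, smul_mul_smul_comm, ← pow_add, ← pow_add, add_comm, mul_comm]
  have e1 : d ^ 4 • (x * y) = (d • d • x) * (d • d • y) := by
    simp only [smul_mul_assoc, mul_smul_comm, smul_smul]; congr 1; ring
  have e2 : d ^ 4 • (y * x) = (d • d • y) * (d • d • x) := by
    simp only [smul_mul_assoc, mul_smul_comm, smul_smul]; congr 1; ring
  rw [smul_sub, e1, e2, hc, hc']
  simp only [smul_mul_assoc, mul_smul_comm, hYY', sub_self]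

end Stage4


section Stage4b

theorem krylov_map {B C : Type*} [CommRing B] [CommRing C] {n : ℕ} (f : B →+* C)
    (G : Matrix (Fin n) (Fin n) B) (v : Fin n → B) :
    (krylov G v).map f = krylov (G.map f) (f ∘ v) := by
  ext i j
  simp only [krylov, map_apply, of_apply]
  rw [← RingHom.mapMatrix_apply, ← map_pow, RingHom.mapMatrix_apply, RingHom.map_mulVec]

theorem eq_zero_of_forall_maximal {B : Type*} [CommRing B] {n : ℕ} (E : Matrix (Fin n) (Fin n) B)
    (h : ∀ m : Ideal B, m.IsMaximal → ∃ d, d ∉ m ∧ d ^ 4 • E = 0) : E = 0 := by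
  ext i j
  by_contra hne
  let I : Ideal B := Ideal.span {E i j} |>.annihilator
  have hI : (Submodule.span B {E i j}).annihilator ≠ ⊤ := by
    intro htop
    have h1 : (1 : B) ∈ (Submodule.span B {E i j}).annihilator := by rw [htop]; trivial
    rw [Submodule.mem_annihilator_span_singleton] at h1
    exact hne (by simpa using h1)
  obtain ⟨m, hm, hle⟩ := Ideal.exists_le_maximal _ hI
  obtain ⟨d, hd, hdE⟩ := h m hm
  have : d ^ 4 ∈ (Submodule.span B {E i j}).annihilator := by
    rw [Submodule.mem_annihilator_span_singleton]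
    have := congrFun (congrFun hdE i) j
    simpa using this
  exact hd (hm.isPrime.mem_of_pow_mem 4 (hle this))

end Stage4b

section Stage3
open Polynomial

theorem det_krylov_ne_zero_of_cyclic {K : Type*} [Field K] {n : ℕ} (G : Matrix (Fin n) (Fin n) K)
    (v : Fin n → K) (hv : ∀ w : Fin n → K, ∃ r : K[X], w = (aeval G r) *ᵥ v) :
    (krylov G v).det ≠ 0 := by
  have hsurj : Function.Surjective (krylov G v).mulVec := by
    intro w
    rcases Nat.eq_zero_or_pos n with hn | hn
    · subst hn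
      exact ⟨0, Subsingleton.elim _ _⟩
    obtain ⟨r, hr⟩ := hv w
    have hmonic : G.charpoly.Monic := G.charpoly_monic
    have hdeg : G.charpoly.natDegree = n := by simp [G.charpoly_natDegree_eq_dim]
    have hne1 : G.charpoly ≠ 1 := by
      intro h1
      rw [h1] at hdeg
      simp at hdeg
      omega
    set r' := r %ₘ G.charpoly with hr'
    have hlt : r'.natDegree < n := by
      have := natDegree_modByMonic_lt r hmonic hne1
      rwa [hdeg] at this
    have hrr' : aeval G r = aeval G r' := by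
      conv_lhs => rw [← modByMonic_add_div r G.charpoly]
      rw [map_add, map_mul, Matrix.aeval_self_charpoly, zero_mul, add_zero]
    refine ⟨fun j => r'.coeff j, ?_⟩
    rw [krylov_mulVec, hr, hrr', aeval_eq_sum_range' hlt, Fin.sum_univ_eq_sum_range
      (fun j => r'.coeff j • G ^ j) n]
  have hunit : IsUnit (krylov G v) := Matrix.mulVec_surjective_iff_isUnit.mp hsurj
  exact ((Matrix.isUnit_iff_isUnit_det _).mp hunit).ne_zero

end Stage3


section Structure
open Polynomial

variable {K : Type*} [Field K]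

/-- non-coprime moduli give a nonzero homomorphism between the cyclic quotients -/
theorem exists_hom_of_not_isCoprime (qa qb : K[X]) (hb : qb ≠ 0) (hnc : ¬ IsCoprime qa qb) :
    ∃ ψ : (K[X] ⧸ Ideal.span {qa}) →ₗ[K[X]] (K[X] ⧸ Ideal.span {qb}), ψ 1 ≠ 0 := by
  classical
  set d := EuclideanDomain.gcd qa qb with hd
  have hda : d ∣ qa := EuclideanDomain.gcd_dvd_left qa qb
  have hdb : d ∣ qb := EuclideanDomain.gcd_dvd_right qa qb
  have hdu : ¬ IsUnit d := fun hu => hnc (EuclideanDomain.gcd_isUnit_iff.mp hu)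
  obtain ⟨t, ht⟩ := hda
  obtain ⟨s, hs⟩ := hdb
  have hs0 : s ≠ 0 := by rintro rfl; exact hb (by rw [hs, mul_zero])
  let φ : K[X] →ₗ[K[X]] (K[X] ⧸ Ideal.span {qb}) :=
    LinearMap.toSpanSingleton K[X] _ (Ideal.Quotient.mk (Ideal.span {qb}) s)
  have hker : (Ideal.span {qa} : Submodule K[X] K[X]) ≤ LinearMap.ker φ := by
    rw [Ideal.span, Submodule.span_le]
    rintro x hx
    rw [Set.mem_singleton_iff] at hx
    subst hx
    rw [SetLike.mem_coe, LinearMap.mem_ker, LinearMap.toSpanSingleton_apply, ← Ideal.Quotient.mk_eq_mk,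
      ← Submodule.Quotient.mk_smul, Submodule.Quotient.mk_eq_zero, smul_eq_mul,
      Ideal.mem_span_singleton]
    exact ⟨t, by rw [ht, hs]; ring⟩
  refine ⟨Submodule.liftQ _ φ hker, ?_⟩
  have h1 : (1 : K[X] ⧸ Ideal.span {qa}) = Submodule.Quotient.mk 1 := rfl
  rw [h1, Submodule.liftQ_apply, LinearMap.toSpanSingleton_apply, one_smul, Ne,
    Ideal.Quotient.eq_zero_iff_mem, Ideal.mem_span_singleton]
  rintro ⟨c, hc⟩
  apply hdu
  have : s * 1 = s * (d * c) := by
    rw [mul_one]
    calc s = qb * c := hc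
      _ = s * (d * c) := by rw [hs]; ring
  have := mul_left_cancel₀ hs0 this
  exact isUnit_iff_exists_inv.mpr ⟨c, this.symm⟩

/-- CRT: pairwise coprime moduli give a cyclic module. -/
theorem exists_smul_one_of_pairwise_coprime {ι : Type*} [Finite ι] (q : ι → K[X])
    (hq : Pairwise fun a b => IsCoprime (q a) (q b))
    (w : ∀ i, K[X] ⧸ Ideal.span {q i}) : ∃ r : K[X], w = r • (1 : ∀ i, K[X] ⧸ Ideal.span {q i}) := by
  have hI : Pairwise (Function.onFun IsCoprime fun i => Ideal.span {q i}) := by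
    intro a b hab
    exact (Ideal.isCoprime_span_singleton_iff _ _).mpr (hq hab)
  obtain ⟨r, hr⟩ := Ideal.pi_quotient_surjective hI w
  refine ⟨r, ?_⟩
  funext i
  rw [← hr i, Pi.smul_apply, Pi.one_apply]
  have h1 : r • (1 : K[X] ⧸ Ideal.span {q i}) = Ideal.Quotient.mk _ (r * 1) := rfl
  rw [h1, mul_one]


/-- product of cyclic quotients -/
abbrev PiQ {ι : Type*} (q : ι → K[X]) : Type _ := ∀ i, K[X] ⧸ Ideal.span {q i}

theorem succ_le_finrank_centralizer {ι : Type*} [Fintype ι] [DecidableEq ι] (q : ι → K[X]) {n : ℕ}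
    (G : Matrix (Fin n) (Fin n) K)
    (ε : (Fin n → K) ≃ₗ[K] (∀ i, K[X] ⧸ Ideal.span {q i}))
    (hε : ∀ v, ε (G *ᵥ v) = (X : K[X]) • ε v)
    (a b : ι) (hab : a ≠ b)
    (ψ : (K[X] ⧸ Ideal.span {q a}) →ₗ[K[X]] (K[X] ⧸ Ideal.span {q b})) (hψ : ψ 1 ≠ 0) :
    n + 1 ≤ Module.finrank K (Subalgebra.centralizer K ({G} : Set (Matrix (Fin n) (Fin n) K))) := by
  let hmap : PiQ q →ₗ[K[X]] PiQ q :=
    (LinearMap.single K[X] (fun i => K[X] ⧸ Ideal.span {q i}) b).comp
      (ψ.comp (LinearMap.proj a))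
  let Θ₀ : PiQ q × K →ₗ[K] (PiQ q →ₗ[K] PiQ q) :=
    (LinearMap.mul K (PiQ q)).coprod (LinearMap.toSpanSingleton K (PiQ q →ₗ[K] PiQ q) (hmap.restrictScalars K))
  let Ψ : (PiQ q →ₗ[K] PiQ q) →ₗ[K] Matrix (Fin n) (Fin n) K :=
    (LinearMap.toMatrix' (R := K) (m := Fin n) (n := Fin n)).toLinearMap ∘ₗ (ε.symm.conj).toLinearMap
  have hΘ₀_apply : ∀ (w : PiQ q) (c : K) (z : PiQ q), Θ₀ (w, c) z = w * z + c • hmap z := by
    intro w c z
    simp [Θ₀]
  have hΘ₀_inj : Function.Injective Θ₀ := by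
    refine (injective_iff_map_eq_zero Θ₀).mpr ?_
    rintro ⟨w, c⟩ hwc
    have h1 := congrArg (fun h : PiQ q →ₗ[K] PiQ q => h (Pi.single a 1) b) hwc
    simp only [hΘ₀_apply, LinearMap.zero_apply, Pi.add_apply, Pi.mul_apply, Pi.zero_apply,
      Pi.smul_apply] at h1
    have h2 : (Pi.single a (1 : K[X] ⧸ Ideal.span {q a}) : PiQ q) b = 0 := Pi.single_eq_of_ne hab.symm _
    have h3 : hmap (Pi.single a 1) b = ψ 1 := by
      simp [hmap]
    rw [h2, mul_zero, zero_add, h3] at h1
    have hc : c = 0 := (smul_eq_zero.mp h1).resolve_right hψ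
    have h4 := congrArg (fun h : PiQ q →ₗ[K] PiQ q => h 1) hwc
    simp only [hΘ₀_apply, hc, mul_one, LinearMap.zero_apply] at h4
    have h5 : w = 0 := by
      have h6 : (0 : K) • hmap 1 = 0 := zero_smul K (hmap 1)
      rw [h6, add_zero] at h4
      exact h4
    rw [h5, hc]
    rfl
  have hΨ_inj : Function.Injective Ψ := by
    simp only [Ψ, LinearMap.coe_comp, LinearEquiv.coe_coe]
    exact (LinearMap.toMatrix' (R := K)).injective.comp (ε.symm.conj).injective
  have hcomm : ∀ h : PiQ q →ₗ[K] PiQ q, (∀ z, h ((X : K[X]) • z) = (X : K[X]) • h z) →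
      Ψ h * G = G * Ψ h := by
    intro h hh
    have hG : G = LinearMap.toMatrix' (Matrix.toLin' G) := (LinearMap.toMatrix'_toLin' G).symm
    have key : (ε.symm.conj h) ∘ₗ (Matrix.toLin' G) = (Matrix.toLin' G) ∘ₗ (ε.symm.conj h) := by
      apply LinearMap.ext
      intro v
      apply ε.injective
      simp only [LinearMap.comp_apply, Matrix.toLin'_apply, LinearEquiv.conj_apply,
        LinearEquiv.coe_coe, LinearEquiv.symm_symm, LinearEquiv.apply_symm_apply, hε, hh]
    simp only [Ψ, LinearMap.comp_apply, LinearEquiv.coe_coe]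
    conv_lhs => rw [hG]
    conv_rhs => rw [hG]
    rw [← LinearMap.toMatrix'_comp, ← LinearMap.toMatrix'_comp, key]
  have hmem : ∀ x, Ψ (Θ₀ x) ∈ Subalgebra.toSubmodule
      (Subalgebra.centralizer K ({G} : Set (Matrix (Fin n) (Fin n) K))) := by
    rintro ⟨w, c⟩
    rw [Subalgebra.mem_toSubmodule, Subalgebra.mem_centralizer_iff]
    intro g hg
    rw [Set.mem_singleton_iff] at hg
    subst hg
    refine (hcomm _ ?_).symm
    intro z
    rw [hΘ₀_apply, hΘ₀_apply, mul_smul_comm, map_smul, smul_add, smul_comm c]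
  let Θ : PiQ q × K →ₗ[K] ↥(Subalgebra.toSubmodule
      (Subalgebra.centralizer K ({G} : Set (Matrix (Fin n) (Fin n) K)))) :=
    LinearMap.codRestrict _ (Ψ ∘ₗ Θ₀) hmem
  have hΘ_inj : Function.Injective Θ := by
    intro x y hxy
    have := congrArg Subtype.val hxy
    exact hΘ₀_inj (hΨ_inj this)
  have hfinW : Module.Finite K (PiQ q) := Module.Finite.equiv ε
  have hle := LinearMap.finrank_le_finrank_of_injective hΘ_inj
  have hdim : Module.finrank K (PiQ q × K) = n + 1 := by
    rw [Module.finrank_prod, ← LinearEquiv.finrank_eq ε, Module.finrank_fin_fun, Module.finrank_self]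
  rw [hdim] at hle
  exact hle


theorem exists_cyclic_of_finrank_centralizer {n : ℕ} (G : Matrix (Fin n) (Fin n) K)
    (h : Module.finrank K (Subalgebra.centralizer K ({G} : Set (Matrix (Fin n) (Fin n) K))) = n) :
    ∃ v : Fin n → K, ∀ w : Fin n → K, ∃ r : K[X], w = (aeval G r) *ᵥ v := by
  classical
  let f : (Fin n → K) →ₗ[K] (Fin n → K) := Matrix.toLin' G
  have hM : Module.IsTorsion K[X] (Module.AEval' f) :=
    Module.AEval.isTorsion_of_finiteDimensional K (Fin n → K) f
  obtain ⟨ι, _, p, hp, e, ⟨E⟩⟩ := Module.equiv_directSum_of_isTorsion hM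
  let q : ι → K[X] := fun i => p i ^ e i
  have hq0 : ∀ i, q i ≠ 0 := fun i => pow_ne_zero _ (hp i).ne_zero
  let E₂ : (DirectSum ι fun i => K[X] ⧸ Submodule.span K[X] {p i ^ e i}) ≃ₗ[K[X]] PiQ q :=
    DirectSum.linearEquivFunOnFintype K[X] ι _
  let E' : Module.AEval' f ≃ₗ[K[X]] PiQ q := E.trans E₂
  let ε : (Fin n → K) ≃ₗ[K] PiQ q := (Module.AEval'.of f).trans (E'.restrictScalars K)
  have hε_aeval : ∀ (r : K[X]) (v : Fin n → K), ε ((aeval G r) *ᵥ v) = r • ε v := by
    intro r v
    have h1 : (aeval G r) *ᵥ v = (aeval f r) v := by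
      have : aeval f r = Matrix.toLin' (aeval G r) := by
        have := Polynomial.aeval_algHom_apply (Matrix.toLinAlgEquiv' (R := K) (n := Fin n)).toAlgHom G r
        exact this
      rw [this, Matrix.toLin'_apply]
    rw [h1]
    show E' (Module.AEval'.of f ((aeval f r) v)) = r • E' (Module.AEval'.of f v)
    rw [← map_smul]
    rfl
  have hε : ∀ v, ε (G *ᵥ v) = (X : K[X]) • ε v := by
    intro v
    have := hε_aeval X v
    rwa [aeval_X] at this
  have hcop : Pairwise fun a b => IsCoprime (q a) (q b) := by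
    intro a b hab
    by_contra hnc
    obtain ⟨ψ, hψ⟩ := exists_hom_of_not_isCoprime (q a) (q b) (hq0 b) hnc
    have := succ_le_finrank_centralizer q G ε hε a b hab ψ hψ
    omega
  refine ⟨ε.symm 1, fun w => ?_⟩
  obtain ⟨r, hr⟩ := exists_smul_one_of_pairwise_coprime q hcop (ε w)
  refine ⟨r, ?_⟩
  apply ε.injective
  rw [hε_aeval, LinearEquiv.apply_symm_apply, hr]

end Structure


section Main
universe u

/-- Two matrices commuting with (the base change of) a fibrewise regular matrix commute. -/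
theorem commute_of_fiberwise_regular {A : Type u} [CommRing A] {n : ℕ}
    (g : Matrix (Fin n) (Fin n) A)
    (hreg : ∀ (K : Type u) [Field K] (φ : A →+* K),
      Module.finrank K (Subalgebra.centralizer K ({g.map φ} : Set (Matrix (Fin n) (Fin n) K))) = n)
    (B : Type u) [CommRing B] [Algebra A B] (x y : Matrix (Fin n) (Fin n) B)
    (hxg : x * g.map (algebraMap A B) = g.map (algebraMap A B) * x)
    (hyg : y * g.map (algebraMap A B) = g.map (algebraMap A B) * y) :
    x * y = y * x := by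
  rw [← sub_eq_zero]
  apply eq_zero_of_forall_maximal
  intro m hm
  let _ : Field (B ⧸ m) := Ideal.Quotient.field m
  set G := g.map (algebraMap A B) with hG
  let φ : A →+* B ⧸ m := (Ideal.Quotient.mk m).comp (algebraMap A B)
  have hφ : g.map φ = G.map (Ideal.Quotient.mk m) := by
    rw [hG, Matrix.map_map]
    rfl
  have h1 := hreg (B ⧸ m) φ
  obtain ⟨vbar, hvbar⟩ := exists_cyclic_of_finrank_centralizer (g.map φ) h1
  have hdet := det_krylov_ne_zero_of_cyclic _ vbar hvbar
  have hsurj : ∀ i, ∃ b : B, Ideal.Quotient.mk m b = vbar i := fun i =>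
    Ideal.Quotient.mk_surjective (vbar i)
  choose v hv using hsurj
  have hv' : (Ideal.Quotient.mk m) ∘ v = vbar := funext hv
  refine ⟨(krylov G v).det, ?_, pow_four_smul_commute G x y v hxg hyg⟩
  intro hmem
  apply hdet
  rw [hφ, ← hv', ← krylov_map, ← RingHom.mapMatrix_apply, ← RingHom.map_det]
  exact Ideal.Quotient.eq_zero_iff_mem.mpr hmem

end Main

end Groth.Agent.Lib.Helper98.RegularMat
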