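import Mathlib
import Groth.Agent.S19233
import Groth.Agent.Lib.Helper82.SigmaLinAC

/-!
# Solvability conditions (h2), (h3) of the SigmaLin family over a *separably* closed field
of characteristic `p`, for `σ = Frobenius ^ ν`, `ν ≥ 1`; and consequences.
-/

namespace Groth.Agent.Lib.Helper98.SepLang

open Polynomial

section
variable {k : Type*} [Field k] [IsSepClosed k]

theorem exists_ne_zero_root_sep (P : k[X]) (hsep : P.Separable) (e₁ e₂ : ℕ) (hne : e₁ ≠ e₂)
    (h₁ : P.coeff e₁ ≠ 0) (h₂ : P.coeff e₂ ≠ 0) : ∃ z : k, z ≠ 0 ∧ P.eval z = 0 := by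
  have hP : P ≠ 0 := by
    intro h; rw [h] at h₁; simp at h₁
  obtain ⟨Q, hQ, hndvd⟩ := exists_eq_pow_rootMultiplicity_mul_and_not_dvd P hP 0
  rw [map_zero, sub_zero] at hQ hndvd
  set m := P.rootMultiplicity 0 with hm
  have hQsep : Q.Separable := hsep.of_dvd (Dvd.intro_left _ hQ.symm)
  by_cases hdeg : Q.degree = 0
  · exfalso
    obtain ⟨q, hq⟩ : ∃ q : k, Q = C q := ⟨Q.coeff 0, eq_C_of_degree_eq_zero hdeg⟩
    have hcoeff : ∀ e, P.coeff e = if e = m then q else 0 := by
      intro e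
      rw [hQ, hq, mul_comm, coeff_C_mul, coeff_X_pow]
      split_ifs <;> simp
    have e1 : e₁ = m := by
      by_contra h
      rw [hcoeff, if_neg h] at h₁
      exact h₁ rfl
    have e2 : e₂ = m := by
      by_contra h
      rw [hcoeff, if_neg h] at h₂
      exact h₂ rfl
    exact hne (e1.trans e2.symm)
  · obtain ⟨z, hz⟩ := IsSepClosed.exists_root Q hdeg hQsep
    refine ⟨z, ?_, ?_⟩
    · intro hz0
      apply hndvd
      rw [hz0] at hz
      have := (dvd_iff_isRoot (p := Q) (a := (0 : k))).mpr hz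
      simpa using this
    · rw [hQ, eval_mul, hz.eq_zero, mul_zero]

end

section
variable (p : ℕ) [Fact p.Prime] (k : Type*) [Field k] [CharP k p]

theorem iterate_iterateFrobenius (ν m : ℕ) (x : k) :
    (⇑(iterateFrobenius k p ν))^[m] x = x ^ ((p ^ ν) ^ m) := by
  induction m generalizing x with
  | zero => simp
  | succ m ih =>
    rw [Function.iterate_succ_apply, ih, iterateFrobenius_def, ← pow_mul, pow_succ']

theorem two_le_pow (ν : ℕ) (hν : 1 ≤ ν) : 2 ≤ p ^ ν := by
  have hp : p.Prime := Fact.out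
  calc 2 ≤ p := hp.two_le
    _ = p ^ 1 := (pow_one p).symm
    _ ≤ p ^ ν := Nat.pow_le_pow_right hp.pos hν

theorem cast_pow_eq_zero (ν : ℕ) (hν : 1 ≤ ν) : ((p ^ ν : ℕ) : k) = 0 :=
  (CharP.cast_eq_zero_iff k p (p ^ ν)).mpr (dvd_pow_self p (by omega))

variable [IsSepClosed k]

theorem h3_iterFrob (ν : ℕ) (hν : 1 ≤ ν) (c : k) :
    ∃ y : k, iterateFrobenius k p ν y - y + c = 0 := by
  have hq := two_le_pow p ν hν
  have hq0 := cast_pow_eq_zero p k ν hν
  set q := p ^ ν with hqdef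
  have hcoef : (X ^ q - X + C c : k[X]).coeff q = 1 := by
    rw [coeff_add, coeff_sub, coeff_X_pow, if_pos rfl, coeff_X, if_neg (by omega), coeff_C,
      if_neg (by omega)]
    ring
  have hdeg : (X ^ q - X + C c : k[X]).degree ≠ 0 := by
    intro hdeg0
    have h1 := eq_C_of_degree_eq_zero hdeg0
    have h2 : (X ^ q - X + C c : k[X]).coeff q = 0 := by
      rw [h1, coeff_C, if_neg (by omega)]
    rw [hcoef] at h2
    exact one_ne_zero h2
  have hder : derivative (X ^ q - X + C c : k[X]) = -1 := by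
    simp [derivative_X_pow, hq0]
  have hsep : (X ^ q - X + C c : k[X]).Separable := by
    unfold Polynomial.Separable
    rw [hder]
    exact isCoprime_one_right.neg_right
  obtain ⟨y, hy⟩ := IsSepClosed.exists_root _ hdeg hsep
  refine ⟨y, ?_⟩
  rw [iterateFrobenius_def]
  simpa [IsRoot.def] using hy

theorem h2_iterFrob (ν : ℕ) (hν : 1 ≤ ν) (n : ℕ) (b : Fin (n + 1) → k) (hb : b ≠ 0) :
    ∃ x : k, x ≠ 0 ∧ x = ∑ i : Fin (n + 1),
      (⇑(iterateFrobenius k p ν))^[i.val + 1] x *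
        (⇑(iterateFrobenius k p ν))^[i.val] (b (Fin.rev i)) := by
  have hq := two_le_pow p ν hν
  have hq0 := cast_pow_eq_zero p k ν hν
  set q := p ^ ν with hqdef
  set c : Fin (n + 1) → k := fun i => (⇑(iterateFrobenius k p ν))^[i.val] (b (Fin.rev i)) with hc
  set E : Fin (n + 1) → ℕ := fun i => q ^ (i.val + 1) with hE
  have hEinj : Function.Injective E := by
    intro i j hij
    have := Nat.pow_right_injective hq hij
    apply Fin.ext
    omega
  obtain ⟨l, hl⟩ : ∃ l, b l ≠ 0 := by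
    by_contra h; push Not at h; exact hb (funext h)
  set j := Fin.rev l with hj
  have hcj : c j ≠ 0 := by
    rw [hc]; simp only
    rw [hj, Fin.rev_rev, iterate_iterateFrobenius]
    exact pow_ne_zero _ hl
  set P : k[X] := X - ∑ i, C (c i) * X ^ (E i) with hP
  have hEne : ∀ i, E i ≠ 1 := by
    intro i h
    have h1 : q ^ (i.val + 1) = q ^ 0 := by rw [pow_zero]; exact h
    have := Nat.pow_right_injective hq h1
    omega
  have hE0 : ∀ i, ((E i : ℕ) : k) = 0 := by
    intro i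
    rw [hE]
    simp only
    rw [pow_succ, Nat.cast_mul, hq0, mul_zero]
  have hco1 : P.coeff 1 ≠ 0 := by
    rw [hP, coeff_sub, coeff_X_one,
      Groth.Agent.Lib.Helper82.SigmaLinAC.coeff_sum_monomials_of_notMem c E _ hEne, sub_zero]
    exact one_ne_zero
  have hco2 : P.coeff (E j) ≠ 0 := by
    rw [hP, coeff_sub, coeff_X, if_neg (hEne j).symm,
      Groth.Agent.Lib.Helper82.SigmaLinAC.coeff_sum_monomials c E hEinj, zero_sub]
    exact neg_ne_zero.mpr hcj
  have hder : derivative P = 1 := by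
    rw [hP, derivative_sub, derivative_X, derivative_sum]
    have : ∀ i ∈ Finset.univ, derivative (C (c i) * X ^ (E i) : k[X]) = 0 := by
      intro i _
      rw [derivative_C_mul, derivative_X_pow, hE0 i, map_zero, zero_mul, mul_zero]
    rw [Finset.sum_eq_zero this, sub_zero]
  have hsep : P.Separable := by
    unfold Polynomial.Separable
    rw [hder]
    exact isCoprime_one_right
  obtain ⟨z, hz0, hz⟩ := exists_ne_zero_root_sep P hsep _ _ (hEne j).symm hco1 hco2
  refine ⟨z, hz0, ?_⟩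
  rw [hP, eval_sub, eval_X, eval_finsetSum, sub_eq_zero] at hz
  conv_lhs => rw [hz]
  apply Finset.sum_congr rfl
  intro i _
  rw [iterate_iterateFrobenius]
  simp only [eval_mul, eval_C, eval_pow, eval_X, hE]
  rw [mul_comm]

end

section
variable {k : Type*} [Field k] [IsSepClosed k] (p : ℕ) [Fact p.Prime] [CharP k p]
  {V : Type*} [AddCommGroup V] [Module k V]

/-- the semilinear map attached to a `q`-linear additive map -/
def toSemilinear (r : ℕ) (φ : V →+ V) (hφ : ∀ (c : k) (v : V), φ (c • v) = c ^ (p ^ r) • φ v) :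
    V →ₛₗ[iterateFrobenius k p r] V where
  toFun := φ
  map_add' := φ.map_add
  map_smul' c v := by
    rw [hφ, iterateFrobenius_def]

@[simp] theorem toSemilinear_apply (r : ℕ) (φ : V →+ V)
    (hφ : ∀ (c : k) (v : V), φ (c • v) = c ^ (p ^ r) • φ v) (v : V) :
    toSemilinear p r φ hφ v = φ v := rfl

theorem coe_toSemilinear (r : ℕ) (φ : V →+ V)
    (hφ : ∀ (c : k) (v : V), φ (c • v) = c ^ (p ^ r) • φ v) :
    ⇑(toSemilinear p r φ hφ) = ⇑φ := rfl


omit [IsSepClosed k] [Fact p.Prime] [CharP k p] in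
/-- coordinates of `φ v` in a basis of fixed vectors -/
theorem repr_apply_fixed {ι : Type*} [Fintype ι] (b : Module.Basis ι k V) (q : ℕ) (φ : V →+ V)
    (hφ : ∀ (c : k) (v : V), φ (c • v) = c ^ q • φ v) (hb : ∀ i, φ (b i) = b i) (v : V) (i : ι) :
    b.repr (φ v) i = (b.repr v i) ^ q := by
  have h1 : φ v = ∑ j, (b.repr v j) ^ q • b j := by
    conv_lhs => rw [← b.sum_repr v]
    rw [map_sum]
    exact Finset.sum_congr rfl fun j _ => by rw [hφ, hb j]
  rw [h1, Module.Basis.repr_sum_self]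

omit [IsSepClosed k] [Fact p.Prime] [CharP k p] in
/-- coordinates of `φ^[n] v` in a basis of fixed vectors -/
theorem repr_iterate_fixed {ι : Type*} [Fintype ι] (b : Module.Basis ι k V) (q : ℕ) (φ : V →+ V)
    (hφ : ∀ (c : k) (v : V), φ (c • v) = c ^ q • φ v) (hb : ∀ i, φ (b i) = b i) (n : ℕ) (v : V)
    (i : ι) : b.repr ((⇑φ)^[n] v) i = (b.repr v i) ^ (q ^ n) := by
  induction n generalizing v with
  | zero => simp
  | succ n ih =>
    rw [Function.iterate_succ_apply, ih, repr_apply_fixed b q φ hφ hb, ← pow_mul, pow_succ']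

variable [FiniteDimensional k V]

/-- semisimple `q`-linear map over a separably closed field has a basis of fixed vectors -/
theorem exists_basis_fixed (r : ℕ) (hr : 0 < r) (φ : V →+ V)
    (hφ : ∀ (c : k) (v : V), φ (c • v) = c ^ (p ^ r) • φ v)
    (hss : Submodule.span k (Set.range φ) = ⊤) :
    ∃ b : Module.Basis (Fin (Module.finrank k V)) k V, ∀ i, φ (b i) = b i := by
  obtain ⟨⟨b, hb⟩, -⟩ := Groth.Agent.S19233.result k (iterateFrobenius k p r) V
    (toSemilinear p r φ hφ) hss (h2_iterFrob p k r hr) (h3_iterFrob p k r hr)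
  exact ⟨b, hb⟩

/-- the stable part of a `q`-linear map over a separably closed field has a basis of fixed
vectors -/
theorem exists_basis_fixed_iInf (r : ℕ) (hr : 0 < r) (φ : V →+ V)
    (hφ : ∀ (c : k) (v : V), φ (c • v) = c ^ (p ^ r) • φ v) :
    ∃ b : Module.Basis
        (Fin (Module.finrank k ↥(⨅ n : ℕ, Submodule.span k (Set.range ((⇑φ)^[n + 1]))))) k
        ↥(⨅ n : ℕ, Submodule.span k (Set.range ((⇑φ)^[n + 1]))),
      (∀ i, φ (b i : V) = (b i : V)) ∧
      ∀ (v : V) (hv : v ∈ ⨅ n : ℕ, Submodule.span k (Set.range ((⇑φ)^[n + 1]))), φ v = v →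
        ∀ i, (b.repr ⟨v, hv⟩ i) ^ (p ^ r) = b.repr ⟨v, hv⟩ i := by
  classical
  let W : ℕ → Submodule k V := fun n => Submodule.span k (Set.range ((⇑φ)^[n]))
  have hWanti : ∀ n, W (n + 1) ≤ W n := by
    intro n
    apply Submodule.span_mono
    rintro _ ⟨y, rfl⟩
    exact ⟨φ y, (Function.iterate_succ_apply (⇑φ) n y).symm⟩
  have hWanti' : Antitone W := antitone_nat_of_succ_le hWanti
  have hφW : ∀ n x, x ∈ W n → φ x ∈ W (n + 1) := by
    intro n x hx
    induction hx using Submodule.span_induction with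
    | mem x hx =>
      obtain ⟨y, rfl⟩ := hx
      exact Submodule.subset_span ⟨y, Function.iterate_succ_apply' (⇑φ) n y⟩
    | zero => rw [map_zero]; exact Submodule.zero_mem _
    | add x y _ _ hx hy => rw [map_add]; exact Submodule.add_mem _ hx hy
    | smul c x _ hx => rw [hφ]; exact Submodule.smul_mem _ _ hx
  obtain ⟨N, hN⟩ := IsArtinian.monotone_stabilizes (R := k) (M := V)
    ⟨fun n => OrderDual.toDual (W n), fun a b hab => hWanti' hab⟩
  have hN' : ∀ m, N ≤ m → W N = W m := fun m hm => congrArg OrderDual.ofDual (hN m hm)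
  have hVssN : (⨅ n : ℕ, W (n + 1)) = W N := by
    apply le_antisymm
    · exact (iInf_le _ N).trans (hWanti N)
    · apply le_iInf
      intro n
      by_cases h : N ≤ n + 1
      · rw [← hN' (n + 1) h]
      · exact hWanti' (by omega)
  have hφV : ∀ x ∈ (⨅ n : ℕ, W (n + 1)), φ x ∈ (⨅ n : ℕ, W (n + 1)) := by
    intro x hx
    rw [hVssN] at hx ⊢
    have := hφW N x hx
    rwa [← hN' (N + 1) (Nat.le_succ N)] at this
  let ψ : ↥(⨅ n : ℕ, W (n + 1)) →+ ↥(⨅ n : ℕ, W (n + 1)) :=
    { toFun := fun x => ⟨φ (x : V), hφV x x.2⟩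
      map_zero' := Subtype.ext (map_zero φ)
      map_add' := fun x y => Subtype.ext (map_add φ (x : V) (y : V)) }
  have hψ : ∀ (c : k) (v : ↥(⨅ n : ℕ, W (n + 1))), ψ (c • v) = c ^ (p ^ r) • ψ v :=
    fun c v => Subtype.ext (hφ c (v : V))
  have hss : Submodule.span k (Set.range ψ) = ⊤ := by
    rw [eq_top_iff]
    rintro ⟨x, hx⟩ -
    have hx' : x ∈ W (N + 1) := by
      rw [← hN' (N + 1) (Nat.le_succ N), ← hVssN]; exact hx
    have hle : W (N + 1) ≤ Submodule.map (⨅ n : ℕ, W (n + 1)).subtype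
        (Submodule.span k (Set.range ψ)) := by
      apply Submodule.span_le.mpr
      rintro _ ⟨y, rfl⟩
      have hy : (⇑φ)^[N] y ∈ (⨅ n : ℕ, W (n + 1)) := by
        rw [hVssN]; exact Submodule.subset_span ⟨y, rfl⟩
      exact ⟨ψ ⟨_, hy⟩, Submodule.subset_span ⟨_, rfl⟩,
        (Function.iterate_succ_apply' (⇑φ) N y).symm⟩
    obtain ⟨z, hz, hzx⟩ := hle hx'
    have : z = ⟨x, hx⟩ := Subtype.ext hzx
    rwa [this] at hz
  obtain ⟨b, hb⟩ := exists_basis_fixed p r hr ψ hψ hss
  refine ⟨b, fun i => congrArg Subtype.val (hb i), ?_⟩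
  intro v hv hfix i
  have h1 : ψ ⟨v, hv⟩ = ⟨v, hv⟩ := Subtype.ext hfix
  have h2 := repr_apply_fixed b (p ^ r) ψ hψ hb ⟨v, hv⟩ i
  rw [h1] at h2
  exact h2.symm

end

end Groth.Agent.Lib.Helper98.SepLang
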