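import Groth.Prelude.Def_SymTen
import Groth.Agent.Lib.Helper98.Polarize
import Mathlib.RingTheory.Norm.Defs
import Mathlib.LinearAlgebra.Matrix.Determinant.Basic

/-!
# The linearised norm on symmetric tensors (for S19444)
-/

set_option autoImplicit false

namespace Groth.Agent.Lib.Helper98.SymNorm

open PiTensorProduct
open scoped TensorProduct

universe u

section Span

variable (A : Type u) [CommRing A] (R : Type u) [CommRing R] [Algebra A R] (n : ℕ)

/-- span of the diagonal tensors `r ⊗ ⋯ ⊗ r` -/
def V : Submodule A (⨂[A] _ : Fin n, R) :=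
  Submodule.span A (Set.range fun r : R => tprod A (fun _ : Fin n => r))

lemma diag_mem_V (r : R) : tprod A (fun _ : Fin n => r) ∈ V A R n :=
  Submodule.subset_span ⟨r, rfl⟩

/-- symmetrisation -/
noncomputable def Sym : (⨂[A] _ : Fin n, R) →ₗ[A] (⨂[A] _ : Fin n, R) :=
  ∑ σ : Equiv.Perm (Fin n), (PiTensorProduct.reindex A (fun _ : Fin n => R) σ).toLinearMap

lemma Sym_apply (t : ⨂[A] _ : Fin n, R) :
    Sym A R n t = ∑ σ : Equiv.Perm (Fin n), PiTensorProduct.reindex A (fun _ : Fin n => R) σ t := by
  simp [Sym, LinearMap.sum_apply]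

lemma Sym_tprod_mem (f : Fin n → R) : Sym A R n (tprod A f) ∈ V A R n := by
  rw [Sym_apply]
  have h1 : ∑ σ : Equiv.Perm (Fin n), PiTensorProduct.reindex A (fun _ : Fin n => R) σ (tprod A f)
      = ∑ σ : Equiv.Perm (Fin n), tprod A (fun i => f (σ i)) := by
    simp_rw [PiTensorProduct.reindex_tprod]
    exact Fintype.sum_equiv (Equiv.inv (Equiv.Perm (Fin n))) _ _ (fun σ => rfl)
  rw [h1, Polarize.polarization (tprod A : MultilinearMap A (fun _ : Fin n => R) _) f]
  refine Submodule.sum_mem _ fun S _ => ?_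
  exact Submodule.smul_of_tower_mem _ _ (diag_mem_V A R n _)

lemma Sym_mem (t : ⨂[A] _ : Fin n, R) : Sym A R n t ∈ V A R n := by
  induction t using PiTensorProduct.induction_on with
  | smul_tprod r f =>
    rw [map_smul]
    exact Submodule.smul_mem _ _ (Sym_tprod_mem A R n f)
  | add x y hx hy =>
    rw [map_add]
    exact Submodule.add_mem _ hx hy

lemma mem_V_of_mem_TS (hfact : IsUnit ((Nat.factorial n : ℕ) : A)) (t : ⨂[A] _ : Fin n, R)
    (ht : t ∈ SymTen.TS A R n) : t ∈ V A R n := by
  have h1 : Sym A R n t = ((Nat.factorial n : ℕ) : A) • t := by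
    rw [Sym_apply]
    have : ∀ σ : Equiv.Perm (Fin n), PiTensorProduct.reindex A (fun _ : Fin n => R) σ t = t := ht
    simp_rw [this]
    rw [Finset.sum_const, Finset.card_univ, Fintype.card_perm, Fintype.card_fin,
      Nat.cast_smul_eq_nsmul]
  obtain ⟨u, hu⟩ := hfact
  have h2 : t = (↑u⁻¹ : A) • Sym A R n t := by
    rw [h1, ← hu, smul_smul, Units.inv_mul, one_smul]
  rw [h2]
  exact Submodule.smul_mem _ _ (Sym_mem A R n t)

lemma V_le_TS : V A R n ≤ Subalgebra.toSubmodule (SymTen.TS A R n) := by
  rw [V, Submodule.span_le]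
  rintro _ ⟨r, rfl⟩
  exact (SymTen.tpow A R n r).2

end Span

section Norm

variable {A : Type u} [CommRing A] {R : Type u} [CommRing R] [Algebra A R] {n : ℕ}
  (b : Module.Basis (Fin n) A R)

/-- the `(j,k)` entry of the matrix of multiplication by `x` -/
noncomputable def entry (j k : Fin n) : R →ₗ[A] A :=
  (Matrix.entryLinearMap A A j k) ∘ₗ (Algebra.leftMulMatrix b).toLinearMap

lemma entry_apply (j k : Fin n) (x : R) : entry b j k x = Algebra.leftMulMatrix b x j k := rfl

/-- the full polarization of the determinant -/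
noncomputable def D : MultilinearMap A (fun _ : Fin n => R) A :=
  ∑ σ : Equiv.Perm (Fin n), (Equiv.Perm.sign σ : ℤ) •
    (MultilinearMap.mkPiAlgebra A (Fin n) A).compLinearMap (fun i => entry b (σ i) i)

lemma D_apply (f : Fin n → R) :
    D b f = ∑ σ : Equiv.Perm (Fin n), (Equiv.Perm.sign σ : ℤ) •
      ∏ i, Algebra.leftMulMatrix b (f i) (σ i) i := by
  simp [D, entry_apply]

lemma D_diag (r : R) : D b (fun _ => r) = Algebra.norm A r := by
  rw [Algebra.norm_eq_matrix_det b, Matrix.det_apply', D_apply]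
  refine Finset.sum_congr rfl fun σ _ => ?_
  rw [zsmul_eq_mul]

/-- the linear form extending the norm -/
noncomputable def ell : (⨂[A] _ : Fin n, R) →ₗ[A] A := PiTensorProduct.lift (D b)

lemma ell_diag (r : R) : ell b (tprod A (fun _ : Fin n => r)) = Algebra.norm A r := by
  rw [ell, PiTensorProduct.lift.tprod, D_diag]

lemma ell_mul (x y : ⨂[A] _ : Fin n, R) (hx : x ∈ V A R n) (hy : y ∈ V A R n) :
    ell b (x * y) = ell b x * ell b y := by
  induction hx using Submodule.span_induction with
  | mem x hx =>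
    obtain ⟨r, rfl⟩ := hx
    induction hy using Submodule.span_induction with
    | mem y hy =>
      obtain ⟨s, rfl⟩ := hy
      rw [PiTensorProduct.tprod_mul_tprod]
      change ell b (tprod A (fun _ : Fin n => r * s)) = _
      rw [ell_diag, ell_diag, ell_diag, map_mul]
    | zero => simp
    | add y z _ _ hy hz => rw [mul_add, map_add, map_add, hy, hz, mul_add]
    | smul a y _ hy => rw [mul_smul_comm, map_smul, map_smul, hy, smul_eq_mul, smul_eq_mul]; ring
  | zero => simp
  | add x z _ _ hx hz => rw [add_mul, map_add, map_add, hx, hz, add_mul]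
  | smul a x _ hx => rw [smul_mul_assoc, map_smul, map_smul, hx, smul_eq_mul, smul_eq_mul]; ring

lemma ell_one : ell b (1 : ⨂[A] _ : Fin n, R) = 1 := by
  rw [PiTensorProduct.one_def]
  change ell b (tprod A (fun _ : Fin n => (1 : R))) = 1
  rw [ell_diag, map_one]

end Norm

end Groth.Agent.Lib.Helper98.SymNorm
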