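import Groth.Agent.Lib.Proj.TwistCore
import Groth.Agent.Lib.QCoh.Helper18_StalkLoc
import Groth.Prelude.Def_ProjUP

/-!
# Generation of `O(n)` on `Proj 𝒜` by the global sections `b / 1`, `b ∈ 𝒜 n` (helper98)

ns `Groth.Agent.Lib.Helper98.TwistGen` (on top of lead's `Lib/Proj/TwistCore`).
* `fracO V m c hc : O V` (degree-zero fraction `m / c` as a section), `smulSec`, `globalRes b V`, `sec_eq_sum`
* `generatedBy_of_H n H` : abstract criterion (`a c' = c Σ m_k b_k` near every point)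
* `generatedBy_of_exists_notMem n h` : if each point has some `g ∈ 𝒜 n` not vanishing there, then
  `ProjUP.GeneratedBy (twist 𝒜 n) (globalOf 𝒜 ·)`
* `generatedBy_of_mul_le n l hl h` : the same if `𝒜 (n + j l) ≤ 𝒜 n * 𝒜 (j l)` for all `j`
* `exists_sum_of_mem_mul` : elements of `M * N` are finite sums of products
-/

set_option autoImplicit false
universe u
open CategoryTheory CategoryTheory.Limits AlgebraicGeometry TopologicalSpace Opposite TopCat

namespace Groth.Agent.Lib.Helper98.TwistGen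

open Twist Groth.Agent.Lib.Proj

variable {R A : Type u} [CommRing R] [CommRing A] [Algebra R A] {𝒜 : ℕ → Submodule R A} [GradedAlgebra 𝒜]

/-- the degree-zero fraction `m / c` as a section of `O` over `V` where `c` vanishes nowhere. -/
noncomputable def fracO (V : (Opens (ProjectiveSpectrum.top 𝒜))ᵒᵖ) {j : ℕ} (m c : 𝒜 j)
    (hc : ∀ x : V.unop, c.1 ∉ x.1.asHomogeneousIdeal) : O (𝒜 := 𝒜) V :=
  ⟨fun x => HomogeneousLocalization.mk ⟨j, m, c, hc x⟩,
    fun x => ⟨V.unop, x.2, 𝟙 _, j, m, c, hc, fun _ => rfl⟩⟩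

lemma fracO_val (V : (Opens (ProjectiveSpectrum.top 𝒜))ᵒᵖ) {j : ℕ} (m c : 𝒜 j)
    (hc : ∀ x : V.unop, c.1 ∉ x.1.asHomogeneousIdeal) (x : V.unop) :
    ((fracO V m c hc).1 x).val = frac x.1 m.1 c.1 (hc x) := by
  change (HomogeneousLocalization.mk _).val = _
  rw [HomogeneousLocalization.val_mk]

/-- scalar multiplication of sections (wrapper to help instance search) -/
noncomputable def smulSec {m : ℤ} {V : (Opens (ProjectiveSpectrum.top 𝒜))ᵒᵖ} (r : O (𝒜 := 𝒜) V)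
    (s : Sec 𝒜 m V) : Sec 𝒜 m V := r • s

lemma val_smulSec {m : ℤ} {V : (Opens (ProjectiveSpectrum.top 𝒜))ᵒᵖ} (r : O (𝒜 := 𝒜) V)
    (s : Sec 𝒜 m V) (x : V.unop) : val (smulSec r s) x = (r.1 x).val * val s x :=
  val_smul r s x

lemma val_sum {m : ℤ} {V : (Opens (ProjectiveSpectrum.top 𝒜))ᵒᵖ} {K : Type} (S : Finset K)
    (t : K → Sec 𝒜 m V) (x : V.unop) : val (∑ k ∈ S, t k) x = ∑ k ∈ S, val (t k) x := by
  classical
  induction S using Finset.induction_on with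
  | empty => simp
  | insert a S ha ih => rw [Finset.sum_insert ha, Finset.sum_insert ha, val_add, ih]

/-- sum of fractions with a common denominator -/
lemma sum_frac (x : ProjectiveSpectrum 𝒜) {K : Type} (S : Finset K) (z : K → A) (d : A)
    (hd : d ∉ x.asHomogeneousIdeal) :
    ∑ k ∈ S, frac x (z k) d hd = frac x (∑ k ∈ S, z k) d hd := by
  classical
  induction S using Finset.induction_on with
  | empty => simp [frac, Localization.mk_zero]
  | insert a S ha ih =>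
    rw [Finset.sum_insert ha, Finset.sum_insert ha, ih]
    simp only [frac, Localization.add_mk]
    rw [Localization.mk_eq_mk_iff, Localization.r_iff_exists]
    refine ⟨1, ?_⟩
    simp only [Submonoid.coe_mul, OneMemClass.coe_one, one_mul]
    ring

/-- the restriction of the global section `b / 1` -/
noncomputable def globalRes {i : ℕ} (b : 𝒜 i) (V : (Opens (ProjectiveSpectrum.top 𝒜))ᵒᵖ) :
    Sec 𝒜 (i : ℤ) V :=
  resN (i : ℤ) (homOfLE le_top : V.unop ⟶ ⊤).op (globalOf 𝒜 b)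

lemma val_globalRes {i : ℕ} (b : 𝒜 i) (V : (Opens (ProjectiveSpectrum.top 𝒜))ᵒᵖ) (x : V.unop) :
    val (globalRes b V) x = frac x.1 b.1 1 (one_not_mem x.1) := rfl

/-- key identity of sections -/
lemma sec_eq_sum {n : ℕ} {V : (Opens (ProjectiveSpectrum.top 𝒜))ᵒᵖ} (s : Sec 𝒜 (n : ℤ) V)
    {i j : ℕ} (a : 𝒜 i) (c : 𝒜 j) (hc : ∀ x : V.unop, c.1 ∉ x.1.asHomogeneousIdeal)
    (hw : ∀ x : V.unop, val s x = frac x.1 a.1 c.1 (hc x))
    {K : Type} [Fintype K] {j' : ℕ} (c' : 𝒜 j') (m : K → 𝒜 j') (b : K → 𝒜 n)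
    (hc' : ∀ x : V.unop, c'.1 ∉ x.1.asHomogeneousIdeal)
    (heq : a.1 * c'.1 = c.1 * ∑ k, (m k).1 * (b k).1) :
    s = ∑ k, smulSec (fracO V (m k) c' hc') (globalRes (b k) V) := by
  apply sec_ext
  intro x
  have hx1 : ∀ k, val (smulSec (fracO V (m k) c' hc') (globalRes (b k) V)) x =
      frac (x.1 : ProjectiveSpectrum 𝒜) ((m k).1 * (b k).1) c'.1 (hc' x) := by
    intro k
    refine (val_smulSec _ _ x).trans ?_
    refine (congrArg₂ (· * ·) (fracO_val V (m k) c' hc' x) (val_globalRes (b k) V x)).trans ?_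
    refine (frac_mul_frac (x.1 : ProjectiveSpectrum 𝒜) _ _ _ _ _ _).trans ?_
    simp only [frac, mul_one]
  refine (hw x).trans ?_
  refine Eq.trans ?_ (val_sum Finset.univ _ x).symm
  refine Eq.trans ?_ (Finset.sum_congr rfl (fun k _ => (hx1 k).symm))
  refine Eq.trans ?_ (sum_frac (x.1 : ProjectiveSpectrum 𝒜) Finset.univ
    (fun k => (m k).1 * (b k).1) c'.1 (hc' x)).symm
  simp only [frac]
  rw [Localization.mk_eq_mk_iff, Localization.r_iff_exists]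
  refine ⟨1, ?_⟩
  simp only [OneMemClass.coe_one, one_mul]
  rw [mul_comm, heq]


lemma germ_mem_span (n : ℕ) (x : Proj 𝒜) (W : Opens (ProjectiveSpectrum.top 𝒜))
    (hx : (show ProjectiveSpectrum.top 𝒜 from x) ∈ W)
    {K : Type} [Fintype K] (r : K → O (𝒜 := 𝒜) (op W)) (b : K → 𝒜 n) :
    (twist 𝒜 (n : ℤ)).presheaf.germ W x hx
        ((∑ k, smulSec (r k) (globalRes (b k) (op W)) : Sec 𝒜 (n : ℤ) (op W))) ∈
      Submodule.span ((Proj 𝒜).presheaf.stalk x)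
        (Set.range fun b : 𝒜 n => ((twist 𝒜 (n : ℤ)).presheaf.germ ⊤ x trivial).hom
          (globalOf 𝒜 b : ProjUP.Γm (twist 𝒜 (n : ℤ)))) := by
  have h0 : (twist 𝒜 (n : ℤ)).presheaf.germ W x hx
        ((∑ k, smulSec (r k) (globalRes (b k) (op W)) : Sec 𝒜 (n : ℤ) (op W))) =
      ∑ k, (twist 𝒜 (n : ℤ)).presheaf.germ W x hx (smulSec (r k) (globalRes (b k) (op W))) :=
    map_sum ((twist 𝒜 (n : ℤ)).presheaf.germ W x hx).hom _ _
  have key : ∑ k, (twist 𝒜 (n : ℤ)).presheaf.germ W x hx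
        (smulSec (r k) (globalRes (b k) (op W))) ∈
      Submodule.span ((Proj 𝒜).presheaf.stalk x)
        (Set.range fun b : 𝒜 n => ((twist 𝒜 (n : ℤ)).presheaf.germ ⊤ x trivial).hom
          (globalOf 𝒜 b : ProjUP.Γm (twist 𝒜 (n : ℤ)))) := by
    refine Submodule.sum_mem _ (fun k _ => ?_)
    have h1 := Groth.Agent.Lib.QCoh.germ_smul (twist 𝒜 (n : ℤ)) x W hx (r k)
      (globalRes (b k) (op W))
    refine h1 ▸ ?_
    refine Submodule.smul_mem _ _ (Submodule.subset_span ⟨b k, ?_⟩)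
    exact (TopCat.Presheaf.germ_res_apply (twist 𝒜 (n : ℤ)).presheaf (homOfLE le_top : W ⟶ ⊤) x hx
      (globalOf 𝒜 (b k))).symm
  exact h0 ▸ key

theorem generatedBy_of_H (n : ℕ)
    (H : ∀ (x : ProjectiveSpectrum 𝒜) (i j : ℕ) (a : 𝒜 i) (c : 𝒜 j), (i : ℤ) = j + n →
      c.1 ∉ x.asHomogeneousIdeal →
      ∃ (K : Type) (_ : Fintype K) (j' : ℕ) (c' : 𝒜 j') (m : K → 𝒜 j') (b : K → 𝒜 n),
        c'.1 ∉ x.asHomogeneousIdeal ∧ a.1 * c'.1 = c.1 * ∑ k, (m k).1 * (b k).1) :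
    ProjUP.GeneratedBy (twist 𝒜 (n : ℤ))
      (fun b : 𝒜 n => (globalOf 𝒜 b : ProjUP.Γm (twist 𝒜 (n : ℤ)))) := by
  intro x
  rw [eq_top_iff]
  intro t _
  obtain ⟨V, hxV, s, rfl⟩ := TopCat.Presheaf.exists_germ_eq (twist 𝒜 (n : ℤ)).presheaf t
  obtain ⟨W, hxW, iW, i, j, a, c, hc, hdeg, hw⟩ := (s : Sec 𝒜 (n : ℤ) (op V)).2 ⟨x, hxV⟩
  have key : ∃ (K : Type) (_ : Fintype K) (j' : ℕ) (c' : 𝒜 j') (m : K → 𝒜 j') (b : K → 𝒜 n),
        c'.1 ∉ x.asHomogeneousIdeal ∧ a.1 * c'.1 = c.1 * ∑ k, (m k).1 * (b k).1 := by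
    rcases hdeg with hdeg | hdeg
    · exact H x i j a c hdeg (hc ⟨x, hxW⟩)
    · exact ⟨PEmpty, inferInstance, j, c, PEmpty.elim, PEmpty.elim, hc ⟨x, hxW⟩, by simp [hdeg]⟩
  obtain ⟨K, _, j', c', m, b, hc'x, heq⟩ := key
  obtain ⟨W', hW'⟩ : ∃ W' : Opens (ProjectiveSpectrum.top 𝒜),
      W' = W ⊓ ProjectiveSpectrum.basicOpen 𝒜 c'.1 := ⟨_, rfl⟩
  have hxW' : x ∈ W' := hW' ▸ ⟨hxW, hc'x⟩
  have hW'W : W' ≤ W := hW' ▸ inf_le_left
  have hW'le : W' ≤ ProjectiveSpectrum.basicOpen 𝒜 c'.1 := hW' ▸ inf_le_right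
  have hW'c : ∀ y : W', c'.1 ∉ y.1.asHomogeneousIdeal := fun y => hW'le y.2
  have hW'V : W' ≤ V := hW'W.trans iW.le
  obtain ⟨s', hs'def⟩ : ∃ s' : Sec 𝒜 (n : ℤ) (op W'), s' = resN (n : ℤ) (homOfLE hW'V).op s :=
    ⟨_, rfl⟩
  have hs' : s' =
      (∑ k, smulSec (fracO (op W') (m k) c' hW'c) (globalRes (b k) (op W')) :
        Sec 𝒜 (n : ℤ) (op W')) :=
    sec_eq_sum s' a c (fun y => hc ⟨y.1, hW'W y.2⟩)
      (fun y => by rw [hs'def]; exact hw ⟨y.1, hW'W y.2⟩) c' m b _ heq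
  have h2 := TopCat.Presheaf.germ_res_apply (twist 𝒜 (n : ℤ)).presheaf (homOfLE hW'V) x hxW' s
  refine h2 ▸ ?_
  have h3 := germ_mem_span n x W' hxW' (fun k => fracO (op W') (m k) c' hW'c) b
  rw [← hs', hs'def] at h3
  exact h3

theorem exists_sum_of_mem_mul {M N : Submodule R A} {y : A} (hy : y ∈ M * N) :
    ∃ (K : Type) (_ : Fintype K) (b : K → M) (m : K → N), y = ∑ k, (b k).1 * (m k).1 := by
  induction hy using Submodule.mul_induction_on' with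
  | mem_mul_mem b hb m hm =>
    exact ⟨Unit, inferInstance, fun _ => ⟨b, hb⟩, fun _ => ⟨m, hm⟩, by simp⟩
  | add y hy y' hy' ih ih' =>
    obtain ⟨K, _, b, m, h⟩ := ih
    obtain ⟨K', _, b', m', h'⟩ := ih'
    exact ⟨K ⊕ K', inferInstance, Sum.elim b b', Sum.elim m m', by
      simp [Fintype.sum_sum_type, h, h']⟩

/-- if `𝒜 n` has an element not vanishing at each point, `O(n)` is generated by `𝒜 n` -/
theorem generatedBy_of_exists_notMem (n : ℕ)
    (h : ∀ x : ProjectiveSpectrum 𝒜, ∃ g : 𝒜 n, g.1 ∉ x.asHomogeneousIdeal) :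
    ProjUP.GeneratedBy (twist 𝒜 (n : ℤ))
      (fun b : 𝒜 n => (globalOf 𝒜 b : ProjUP.Γm (twist 𝒜 (n : ℤ)))) := by
  apply generatedBy_of_H
  intro x i j a c hdeg hc
  obtain ⟨g, hg⟩ := h x
  have hij : i = j + n := by exact_mod_cast hdeg
  subst hij
  refine ⟨Unit, inferInstance, j + n, ⟨c.1 * g.1, SetLike.mul_mem_graded c.2 g.2⟩, fun _ => a,
    fun _ => g, fun hmem => (x.isPrime.mem_or_mem hmem).elim hc hg, ?_⟩
  simp only [Finset.univ_unique, Finset.sum_singleton]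
  ring

/-- if `𝒜 (n + j l) = 𝒜 n · 𝒜 (j l)` for all `j`, `O(n)` is generated by `𝒜 n` -/
theorem generatedBy_of_mul_le (n l : ℕ) (hl : 0 < l)
    (h : ∀ j, 𝒜 (n + j * l) ≤ 𝒜 n * 𝒜 (j * l)) :
    ProjUP.GeneratedBy (twist 𝒜 (n : ℤ))
      (fun b : 𝒜 n => (globalOf 𝒜 b : ProjUP.Γm (twist 𝒜 (n : ℤ)))) := by
  apply generatedBy_of_H
  intro x i j a c hdeg hc
  have hij : i = j + n := by exact_mod_cast hdeg
  subst hij
  obtain ⟨l', rfl⟩ : ∃ l', l = l' + 1 := ⟨l - 1, by omega⟩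
  have hmem : a.1 * c.1 ^ l' ∈ 𝒜 (n + j * (l' + 1)) := by
    have := SetLike.mul_mem_graded a.2 (SetLike.pow_mem_graded l' c.2)
    have e : j + n + l' • j = n + j * (l' + 1) := by simp only [smul_eq_mul]; ring
    rw [e] at this
    exact this
  obtain ⟨K, _, b, m, hsum⟩ := exists_sum_of_mem_mul (h j hmem)
  have hc' : c.1 ^ (l' + 1) ∈ 𝒜 (j * (l' + 1)) := by
    have := SetLike.pow_mem_graded (l' + 1) c.2
    have e : (l' + 1) • j = j * (l' + 1) := by simp only [smul_eq_mul]; ring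
    rw [e] at this
    exact this
  refine ⟨K, inferInstance, j * (l' + 1), ⟨c.1 ^ (l' + 1), hc'⟩, m, b,
    fun hmem => hc (x.isPrime.mem_of_pow_mem _ hmem), ?_⟩
  have : ∑ k, (m k).1 * (b k).1 = a.1 * c.1 ^ l' := by
    rw [hsum]
    exact Finset.sum_congr rfl (fun k _ => mul_comm _ _)
  rw [this]
  simp only
  ring

end Groth.Agent.Lib.Helper98.TwistGen
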