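import Mathlib
import Groth.Agent.Lib.Helper98.WERed

open TensorProduct

universe u

namespace Groth.Agent.Lib.Helper98.WELoc

/-- weak étaleness can be checked on the localizations at maximal ideals of the target -/
theorem weaklyEtale_of_localization_maximal (A B : Type u) [CommRing A] [CommRing B] [Algebra A B]
    (H : ∀ (q : Ideal B) [q.IsMaximal], Algebra.WeaklyEtale A (Localization.AtPrime q)) :
    Algebra.WeaklyEtale A B := by
  have hflat : Module.Flat A B := by
    apply Module.flat_of_isLocalized_maximal B B (fun P ↦ Localization.AtPrime P)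
      (fun P ↦ Algebra.linearMap B _)
    intro q _
    exact (H q).flat
  refine ⟨hflat, ?_⟩
  show (Algebra.TensorProduct.lmul' A (S := B)).toRingHom.Flat
  algebraize_only [(Algebra.TensorProduct.lmul' A (S := B)).toRingHom]
  rw [RingHom.Flat]
  apply Module.flat_of_isLocalized_maximal B B (fun P ↦ Localization.AtPrime P)
      (fun P ↦ Algebra.linearMap B _)
  intro q _
  have hq := H q
  let ι : B →ₐ[A] Localization.AtPrime q := IsScalarTower.toAlgHom A B _
  have hι : ι.toRingHom.Flat := by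
    show (algebraMap B (Localization.AtPrime q)).Flat
    exact RingHom.flat_algebraMap_iff.mpr inferInstance
  have h1 : (Algebra.TensorProduct.map ι ι).toRingHom.Flat := RingHom.Flat.tensorProductMap hι hι
  have h2 : (Algebra.TensorProduct.lmul' A (S := Localization.AtPrime q)).toRingHom.Flat :=
    Algebra.WeaklyEtale.flat_lmul' A (Localization.AtPrime q)
  have h3 := RingHom.Flat.comp h1 h2
  have h4 : (Algebra.TensorProduct.lmul' A (S := Localization.AtPrime q)).toRingHom.comp
      (Algebra.TensorProduct.map ι ι).toRingHom =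
      algebraMap (B ⊗[A] B) (Localization.AtPrime q) := by
    refine RingHom.ext fun x => ?_
    rw [IsScalarTower.algebraMap_apply (B ⊗[A] B) B (Localization.AtPrime q)]
    induction x using TensorProduct.induction_on with
    | zero => simp
    | tmul a b =>
      simp only [RingHom.coe_comp, Function.comp_apply, AlgHom.toRingHom_eq_coe, RingHom.coe_coe,
        Algebra.TensorProduct.map_tmul, Algebra.TensorProduct.lmul'_apply_tmul]
      rw [RingHom.algebraMap_toAlgebra]
      simp [ι]
    | add x y hx hy => rw [map_add, map_add, map_add, hx, hy]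
  rw [h4] at h3
  exact RingHom.flat_algebraMap_iff.mp h3

section Sch

open AlgebraicGeometry CategoryTheory

/-- if the stalk map at the point `x` of an affine open `U ≤ f⁻¹ V` corresponding to a prime `y`
is weakly étale, then `Γ(X, U)_y` is weakly étale over `Γ(Y, V)` -/
theorem weaklyEtale_localization_of_stalk {X Y : Scheme.{u}} (f : X ⟶ Y) (U : X.Opens)
    (V : Y.Opens) (hU : IsAffineOpen U) (hV : IsAffineOpen V) (hUV : U ≤ f ⁻¹ᵁ V)
    (y : PrimeSpectrum Γ(X, U))
    (hstalk : letI := (f.stalkMap (hU.fromSpec y)).hom.toAlgebra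
      Algebra.WeaklyEtale (Y.presheaf.stalk (f (hU.fromSpec y)))
        (X.presheaf.stalk (hU.fromSpec y))) :
    letI := (f.appLE V U hUV).hom.toAlgebra
    Algebra.WeaklyEtale Γ(Y, V) (Localization.AtPrime y.asIdeal) := by
  have hxU : hU.fromSpec y ∈ U := by
    rw [← SetLike.mem_coe, ← hU.range_fromSpec]; exact ⟨y, rfl⟩
  have hxV : f (hU.fromSpec y) ∈ V := hUV hxU
  let algAB : Algebra Γ(Y, V) Γ(X, U) := (f.appLE V U hUV).hom.toAlgebra
  let algAA' : Algebra Γ(Y, V) (Y.presheaf.stalk (f (hU.fromSpec y))) :=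
    Y.presheaf.algebra_section_stalk ⟨f (hU.fromSpec y), hxV⟩
  let algBB' : Algebra Γ(X, U) (X.presheaf.stalk (hU.fromSpec y)) :=
    X.presheaf.algebra_section_stalk ⟨hU.fromSpec y, hxU⟩
  let algA'B' : Algebra (Y.presheaf.stalk (f (hU.fromSpec y))) (X.presheaf.stalk (hU.fromSpec y)) :=
    (f.stalkMap (hU.fromSpec y)).hom.toAlgebra
  let algAB' : Algebra Γ(Y, V) (X.presheaf.stalk (hU.fromSpec y)) :=
    ((algebraMap Γ(X, U) (X.presheaf.stalk (hU.fromSpec y))).comp
      (algebraMap Γ(Y, V) Γ(X, U))).toAlgebra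
  have : IsScalarTower Γ(Y, V) Γ(X, U) (X.presheaf.stalk (hU.fromSpec y)) :=
    IsScalarTower.of_algebraMap_eq (fun _ => rfl)
  have : IsScalarTower Γ(Y, V) (Y.presheaf.stalk (f (hU.fromSpec y)))
      (X.presheaf.stalk (hU.fromSpec y)) :=
    IsScalarTower.of_algebraMap_eq (fun a => by
      show (X.presheaf.germ U (hU.fromSpec y) hxU).hom ((f.appLE V U hUV).hom a) =
        (f.stalkMap (hU.fromSpec y)).hom ((Y.presheaf.germ V (f (hU.fromSpec y)) hxV).hom a)
      rw [Scheme.Hom.germ_stalkMap_apply]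
      simp only [Scheme.Hom.appLE, homOfLE_leOfHom, CommRingCat.hom_comp, RingHom.coe_comp,
        Function.comp_apply, X.presheaf.germ_res_apply])
  have hA'B' : Algebra.WeaklyEtale (Y.presheaf.stalk (f (hU.fromSpec y)))
      (X.presheaf.stalk (hU.fromSpec y)) := hstalk
  have hlocA : IsLocalization.AtPrime (Y.presheaf.stalk (f (hU.fromSpec y)))
      (hV.primeIdealOf ⟨f (hU.fromSpec y), hxV⟩).asIdeal :=
    hV.isLocalization_stalk ⟨f (hU.fromSpec y), hxV⟩
  have hAA' : Algebra.WeaklyEtale Γ(Y, V) (Y.presheaf.stalk (f (hU.fromSpec y))) :=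
    Groth.Agent.Lib.Helper10.WE.weaklyEtale_of_isLocalization
      (hV.primeIdealOf ⟨f (hU.fromSpec y), hxV⟩).asIdeal.primeCompl
  have hAB' : Algebra.WeaklyEtale Γ(Y, V) (X.presheaf.stalk (hU.fromSpec y)) :=
    Algebra.WeaklyEtale.trans Γ(Y, V) (Y.presheaf.stalk (f (hU.fromSpec y)))
      (X.presheaf.stalk (hU.fromSpec y))
  have hlocB : IsLocalization.AtPrime (X.presheaf.stalk (hU.fromSpec y)) y.asIdeal :=
    hU.isLocalization_stalk' y hxU
  let e : X.presheaf.stalk (hU.fromSpec y) ≃ₐ[Γ(X, U)] Localization.AtPrime y.asIdeal :=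
    IsLocalization.algEquiv y.asIdeal.primeCompl _ _
  exact Groth.Agent.Lib.Helper10.WE.weaklyEtale_of_algEquiv (e.restrictScalars Γ(Y, V))

theorem weaklyEtale_iff_stalkMap {X Y : Scheme.{u}} (f : X ⟶ Y) :
    WeaklyEtale f ↔ ∀ x : X, (f.stalkMap x).hom.Flat ∧
      (letI := (f.stalkMap x).hom.toAlgebra
       (Algebra.TensorProduct.lmul' (S := ↑(X.presheaf.stalk x))
        (↑(Y.presheaf.stalk (f x)))).toRingHom.Flat) := by
  constructor
  · intro hf x
    have h := Groth.Agent.Lib.Helper98.WERed.weaklyEtale_stalkMap f x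
    let _ := (f.stalkMap x).hom.toAlgebra
    exact ⟨h.flat, Algebra.WeaklyEtale.flat_lmul' _ _⟩
  · intro H
    rw [Groth.Agent.Lib.Helper98.WESch.weaklyEtale_iff_appLE]
    intro U V hU hV hUV
    let _ := (f.appLE V U hUV).hom.toAlgebra
    apply weaklyEtale_of_localization_maximal
    intro q hq
    have hqp : q.IsPrime := hq.isPrime
    refine weaklyEtale_localization_of_stalk f U V hU hV hUV ⟨q, hqp⟩ ?_
    let _ := (f.stalkMap (hU.fromSpec ⟨q, hqp⟩)).hom.toAlgebra
    exact ⟨(H _).1, (H _).2⟩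

end Sch

end Groth.Agent.Lib.Helper98.WELoc
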