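import Mathlib
import Groth.Prelude.Def_FlatCA

/-!
# Weakly associated primes: localization and transport lemmas (helper98)

* `mem_weakAss_iff_of_isLocalizedModule`: for `C → C'` a localization at `S`, `g : N → N'` a
  localization of modules at `S`, a prime `u'` of `C'` is weakly associated to `N'` iff its
  contraction is weakly associated to `N`.
* `mem_weakAss_iff_of_equiv`: transport along a semilinear equivalence.
* `mem_weakAss_tensor_iff_of_algEquiv`: transport of `weakAss B (B ⊗[A] M)` along `B ≃ₐ[A] B'`.
* `isLocalizedModule_tensor`: `B ⊗[A] M → B' ⊗[A] M` is a localization of modules when `B'` is a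
  localization of `B`.
* `mem_weakAss_tensor_iff_of_isLocalization`: the combination.
-/

set_option autoImplicit false

namespace Groth.Agent.Lib.Helper98.WeakAssLoc

open TensorProduct

theorem annSpan_map_of_isLocalizedModule {C : Type*} [CommRing C] (S : Submonoid C) (C' : Type*)
    [CommRing C'] [Algebra C C'] [IsLocalization S C'] {N N' : Type*} [AddCommGroup N] [Module C N]
    [AddCommGroup N'] [Module C N'] [Module C' N'] [IsScalarTower C C' N'] (g : N →ₗ[C] N')
    [IsLocalizedModule S g] (n : N) :
    (Submodule.span C' {g n}).annihilator =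
      ((Submodule.span C {n}).annihilator).map (algebraMap C C') := by
  apply le_antisymm
  · intro x hx
    rw [Submodule.mem_annihilator_span_singleton] at hx
    obtain ⟨⟨c, s⟩, hcs⟩ := IsLocalization.surj S x
    have hcs' : x * algebraMap C C' (s : C) = algebraMap C C' c := hcs
    have h1 : g (c • n) = 0 := by
      rw [map_smul, ← algebraMap_smul C' c (g n), ← hcs', mul_comm, mul_smul, hx, smul_zero]
    obtain ⟨t, ht⟩ := (IsLocalizedModule.eq_zero_iff S g).mp h1
    have h2 : (t : C) * c ∈ (Submodule.span C {n}).annihilator := by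
      rw [Submodule.mem_annihilator_span_singleton, mul_smul]; exact ht
    have h3 : algebraMap C C' ((t : C) * c) ∈
        Ideal.map (algebraMap C C') (Submodule.span C {n}).annihilator :=
      Ideal.mem_map_of_mem _ h2
    have hu : IsUnit (algebraMap C C' ((t : C) * s)) := by
      rw [map_mul]; exact (IsLocalization.map_units C' t).mul (IsLocalization.map_units C' s)
    have h4 : x * algebraMap C C' ((t : C) * s) = algebraMap C C' ((t : C) * c) := by
      rw [map_mul, map_mul, ← hcs']; ring
    have hx' : x = algebraMap C C' ((t : C) * c) * ↑(hu.unit⁻¹) := by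
      rw [← h4, mul_assoc, IsUnit.mul_val_inv, mul_one]
    rw [hx']
    exact Ideal.mul_mem_right _ _ h3
  · rw [Ideal.map_le_iff_le_comap]
    intro c hc
    rw [Submodule.mem_annihilator_span_singleton] at hc
    rw [Ideal.mem_comap, Submodule.mem_annihilator_span_singleton, algebraMap_smul, ← map_smul, hc,
      map_zero]

theorem mem_weakAss_iff_of_isLocalizedModule {C : Type*} [CommRing C] (S : Submonoid C) (C' : Type*)
    [CommRing C'] [Algebra C C'] [IsLocalization S C'] {N N' : Type*} [AddCommGroup N] [Module C N]
    [AddCommGroup N'] [Module C N'] [Module C' N'] [IsScalarTower C C' N'] (g : N →ₗ[C] N')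
    [IsLocalizedModule S g] (u' : Ideal C') :
    u' ∈ FlatCA.weakAss C' N' ↔ u'.comap (algebraMap C C') ∈ FlatCA.weakAss C N := by
  constructor
  · rintro ⟨n', hn'⟩
    obtain ⟨⟨n, s⟩, hns⟩ := IsLocalizedModule.surj S g n'
    have hns' : (s : C) • n' = g n := hns
    refine ⟨n, ?_⟩
    have hann : (Submodule.span C' {n'}).annihilator = (Submodule.span C' {g n}).annihilator := by
      ext x
      have hs : IsUnit (algebraMap C C' s) := IsLocalization.map_units C' s
      rw [Submodule.mem_annihilator_span_singleton, Submodule.mem_annihilator_span_singleton, ← hns',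
        ← algebraMap_smul C' (s : C) n', smul_smul]
      constructor
      · intro h; rw [mul_comm, mul_smul, h, smul_zero]
      · intro h
        have h5 : (↑(hs.unit⁻¹) * (x * algebraMap C C' s)) • n' = 0 := by
          rw [mul_smul, h, smul_zero]
        rwa [mul_comm x, ← mul_assoc, IsUnit.val_inv_mul, one_mul] at h5
    rw [hann, annSpan_map_of_isLocalizedModule S C' g, IsLocalization.minimalPrimes_map S C'] at hn'
    exact hn'
  · rintro ⟨n, hn⟩
    refine ⟨g n, ?_⟩
    rw [annSpan_map_of_isLocalizedModule S C' g, IsLocalization.minimalPrimes_map S C']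
    exact hn

theorem mem_weakAss_iff_of_equiv {R R' : Type*} [CommRing R] [CommRing R'] {M M' : Type*}
    [AddCommGroup M] [Module R M] [AddCommGroup M'] [Module R' M'] (e : R ≃+* R') (φ : M ≃+ M')
    (hφ : ∀ r m, φ (r • m) = e r • φ m) (q : Ideal R') :
    q ∈ FlatCA.weakAss R' M' ↔ q.comap (e : R →+* R') ∈ FlatCA.weakAss R M := by
  have key : ∀ m : M, (Submodule.span R {m}).annihilator =
      ((Submodule.span R' {φ m}).annihilator).comap (e : R →+* R') := by
    intro m; ext r
    rw [Ideal.mem_comap, Submodule.mem_annihilator_span_singleton,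
      Submodule.mem_annihilator_span_singleton]
    change _ ↔ e r • φ m = 0
    rw [← hφ]
    exact (map_eq_zero_iff φ φ.injective).symm
  have hsurj : Function.Surjective (e : R →+* R') := e.surjective
  constructor
  · rintro ⟨m', hm'⟩
    refine ⟨φ.symm m', ?_⟩
    rw [key, φ.apply_symm_apply, Ideal.comap_minimalPrimes_eq_of_surjective hsurj]
    exact ⟨q, hm', rfl⟩
  · rintro ⟨m, hm⟩
    refine ⟨φ m, ?_⟩
    rw [key, Ideal.comap_minimalPrimes_eq_of_surjective hsurj] at hm
    obtain ⟨q', hq', heq⟩ := hm
    have : q' = q := Ideal.comap_injective_of_surjective _ hsurj heq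
    rwa [this] at hq'

theorem mem_weakAss_tensor_iff_of_algEquiv {A B B' : Type*} [CommRing A] [CommRing B] [CommRing B']
    [Algebra A B] [Algebra A B'] (e : B ≃ₐ[A] B') (M : Type*) [AddCommGroup M] [Module A M]
    (q : Ideal B') :
    q ∈ FlatCA.weakAss B' (B' ⊗[A] M) ↔
      q.comap (e.toRingEquiv : B →+* B') ∈ FlatCA.weakAss B (B ⊗[A] M) := by
  refine mem_weakAss_iff_of_equiv e.toRingEquiv
    (TensorProduct.congr e.toLinearEquiv (LinearEquiv.refl A M)).toAddEquiv ?_ q
  intro b x
  induction x using TensorProduct.induction_on with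
  | zero => simp
  | tmul c m => simp [TensorProduct.smul_tmul']
  | add x y hx hy => simp only [smul_add, map_add, hx, hy]

theorem isLocalizedModule_tensor {A B : Type*} [CommRing A] [CommRing B] [Algebra A B]
    (S : Submonoid B) (B' : Type*) [CommRing B'] [Algebra B B'] [Algebra A B']
    [IsScalarTower A B B'] [IsLocalization S B'] (M : Type*) [AddCommGroup M] [Module A M] :
    IsLocalizedModule S (TensorProduct.AlgebraTensorModule.map (Algebra.linearMap B B')
      (LinearMap.id : M →ₗ[A] M)) := by
  rw [isLocalizedModule_iff_isBaseChange S B']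
  refine IsBaseChange.of_comp (TensorProduct.isBaseChange A M B) ?_
  have hcomp : ((TensorProduct.AlgebraTensorModule.map (Algebra.linearMap B B')
      (LinearMap.id : M →ₗ[A] M) : B ⊗[A] M →ₗ[B] B' ⊗[A] M).restrictScalars A) ∘ₗ
      TensorProduct.mk A B M 1 = TensorProduct.mk A B' M 1 := by
    ext m; simp
  rw [hcomp]
  exact TensorProduct.isBaseChange A M B'

theorem mem_weakAss_tensor_iff_of_isLocalization {A B : Type*} [CommRing A] [CommRing B]
    [Algebra A B] (S : Submonoid B) (B' : Type*) [CommRing B'] [Algebra B B'] [Algebra A B']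
    [IsScalarTower A B B'] [IsLocalization S B'] (M : Type*) [AddCommGroup M] [Module A M]
    (u' : Ideal B') :
    u' ∈ FlatCA.weakAss B' (B' ⊗[A] M) ↔
      u'.comap (algebraMap B B') ∈ FlatCA.weakAss B (B ⊗[A] M) := by
  have := isLocalizedModule_tensor (A := A) S B' M
  exact mem_weakAss_iff_of_isLocalizedModule S B'
    (TensorProduct.AlgebraTensorModule.map (Algebra.linearMap B B') (LinearMap.id : M →ₗ[A] M)) u'

end Groth.Agent.Lib.Helper98.WeakAssLoc
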