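import Groth.Agent.Lib.Helper37.Hz18
import Groth.Agent.Lib.Helper37.Hz11
import Groth.Agent.Lib.Helper37.Hz9
import Groth.Agent.S1233
import Groth.Agent.Lib.Helper98.WeakAssLoc

/-!
# Weakly associated primes and (strict) henselization (helper98)

For a local ring `R`, an `R`-module `N` and `S` a henselization or strict henselization of `R`:
`𝔪_S ∈ WeakAss_S (S ⊗ N) ↔ 𝔪_R ∈ WeakAss_R N`.
Uses helper37's colimit model `H R Ω` of the (strict) henselization with faithfully flat stage maps,
and `S1233` (the étale case).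
-/

set_option autoImplicit false
universe u

namespace Groth.Agent.Lib.Helper98.WeakAssHens

open TensorProduct IsLocalRing Groth.Agent.Lib.Helper37.Hz Groth.Agent.Lib.Helper98.WeakAssLoc

section Gen

lemma pow_mem_of_maximalIdeal_mem_minimalPrimes {R : Type*} [CommRing R] [IsLocalRing R]
    {I : Ideal R} (h : maximalIdeal R ∈ I.minimalPrimes) {x : R} (hx : x ∈ maximalIdeal R) :
    ∃ k : ℕ, x ^ k ∈ I := by
  have hmin : I.minimalPrimes = {maximalIdeal R} := by
    ext q
    simp only [Set.mem_singleton_iff]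
    constructor
    · intro hq
      have hqp : q.IsPrime := hq.1.1
      exact le_antisymm (IsLocalRing.le_maximalIdeal hqp.ne_top)
        (h.2 hq.1 (IsLocalRing.le_maximalIdeal hqp.ne_top))
    · rintro rfl; exact h
  have hrad : I.radical = maximalIdeal R := by
    rw [← Ideal.sInf_minimalPrimes, hmin, sInf_singleton]
  rw [← hrad] at hx
  exact hx

lemma maximalIdeal_mem_minimalPrimes_of_pow {R : Type*} [CommRing R] [IsLocalRing R]
    {I : Ideal R} (hI : I ≠ ⊤) (h : ∀ x ∈ maximalIdeal R, ∃ k : ℕ, x ^ k ∈ I) :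
    maximalIdeal R ∈ I.minimalPrimes := by
  refine ⟨⟨inferInstance, IsLocalRing.le_maximalIdeal hI⟩, ?_⟩
  rintro q ⟨hq, hIq⟩ -
  intro x hx
  obtain ⟨k, hk⟩ := h x hx
  exact hq.mem_of_pow_mem k (hIq hk)

theorem maximalIdeal_mem_minimalPrimes_down {R₁ R₂ : Type*} [CommRing R₁] [CommRing R₂]
    [IsLocalRing R₁] [IsLocalRing R₂] (f : R₁ →+* R₂) [IsLocalHom f] {N₁ N₂ : Type*}
    [AddCommGroup N₁] [Module R₁ N₁] [AddCommGroup N₂] [Module R₂ N₂] (ψ : N₁ → N₂)
    (hψ0 : ψ 0 = 0) (hψ : ∀ r x, ψ (r • x) = f r • ψ x) (hinj : Function.Injective ψ) (y' : N₁)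
    (h : maximalIdeal R₂ ∈ (Submodule.span R₂ {ψ y'}).annihilator.minimalPrimes) :
    maximalIdeal R₁ ∈ (Submodule.span R₁ {y'}).annihilator.minimalPrimes := by
  apply maximalIdeal_mem_minimalPrimes_of_pow
  · intro htop
    have h1 : (1 : R₁) ∈ (Submodule.span R₁ {y'}).annihilator := by rw [htop]; trivial
    rw [Submodule.mem_annihilator_span_singleton, one_smul] at h1
    have h2 : (1 : R₂) ∈ (Submodule.span R₂ {ψ y'}).annihilator := by
      rw [Submodule.mem_annihilator_span_singleton, h1, hψ0, smul_zero]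
    exact (Ideal.ne_top_iff_one _).mp (IsLocalRing.maximalIdeal.isMaximal R₂).ne_top (h.1.2 h2)
  · intro x hx
    have hfx : f x ∈ maximalIdeal R₂ := by
      rw [IsLocalRing.mem_maximalIdeal, mem_nonunits_iff] at hx ⊢
      exact fun hu => hx (isUnit_of_map_unit f x hu)
    obtain ⟨k, hk⟩ := pow_mem_of_maximalIdeal_mem_minimalPrimes h hfx
    refine ⟨k, ?_⟩
    rw [Submodule.mem_annihilator_span_singleton] at hk ⊢
    apply hinj
    rw [hψ, map_pow, hk, hψ0]

theorem maximalIdeal_mem_minimalPrimes_up {R S : Type*} [CommRing R] [CommRing S] [IsLocalRing R]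
    [IsLocalRing S] [Algebra R S]
    (hmap : (maximalIdeal R).map (algebraMap R S) = maximalIdeal S) {N : Type*} [AddCommGroup N]
    [Module R N] (hinj : Function.Injective (TensorProduct.mk R S N 1)) (n : N)
    (h : maximalIdeal R ∈ (Submodule.span R {n}).annihilator.minimalPrimes) :
    maximalIdeal S ∈ (Submodule.span S {(1 : S) ⊗ₜ[R] n}).annihilator.minimalPrimes := by
  apply maximalIdeal_mem_minimalPrimes_of_pow
  · intro htop
    have h1 : (1 : S) ∈ (Submodule.span S {(1 : S) ⊗ₜ[R] n}).annihilator := by rw [htop]; trivial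
    rw [Submodule.mem_annihilator_span_singleton, one_smul] at h1
    have h2 : n = 0 := hinj (by simpa using h1)
    have h3 : (1 : R) ∈ (Submodule.span R {n}).annihilator := by
      rw [Submodule.mem_annihilator_span_singleton, h2, smul_zero]
    exact (Ideal.ne_top_iff_one _).mp (IsLocalRing.maximalIdeal.isMaximal R).ne_top (h.1.2 h3)
  · intro x hx
    rw [← hmap] at hx
    have hle : (maximalIdeal R).map (algebraMap R S) ≤
        ((Submodule.span S {(1 : S) ⊗ₜ[R] n}).annihilator).radical := by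
      rw [Ideal.map_le_iff_le_comap]
      intro r hr
      obtain ⟨k, hk⟩ := pow_mem_of_maximalIdeal_mem_minimalPrimes h hr
      rw [Ideal.mem_comap]
      refine ⟨k, ?_⟩
      rw [Submodule.mem_annihilator_span_singleton] at hk ⊢
      rw [← map_pow, TensorProduct.smul_tmul', smul_eq_mul, mul_one,
        Algebra.algebraMap_eq_smul_one, TensorProduct.smul_tmul, hk, tmul_zero]
    exact hle hx

end Gen

section Stage

variable {R : Type u} [CommRing R] {Ω : Type u} [Field Ω] [Algebra R Ω]
  (N : Type u) [AddCommGroup N] [Module R N]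

lemma exists_stage (y : H R Ω ⊗[R] N) :
    ∃ (i : Idx R Ω) (y' : G i ⊗[R] N), (of i).toLinearMap.rTensor N y' = y := by
  induction y using TensorProduct.induction_on with
  | zero => exact ⟨Classical.arbitrary _, 0, map_zero _⟩
  | tmul h n =>
    obtain ⟨i, g, rfl⟩ := exists_of h
    exact ⟨i, g ⊗ₜ n, by simp⟩
  | add y₁ y₂ h₁ h₂ =>
    obtain ⟨i₁, y₁', rfl⟩ := h₁
    obtain ⟨i₂, y₂', rfl⟩ := h₂
    obtain ⟨k, h1k, h2k⟩ := exists_ge_ge i₁ i₂
    refine ⟨k, (trans i₁ k h1k).toLinearMap.rTensor N y₁' +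
      (trans i₂ k h2k).toLinearMap.rTensor N y₂', ?_⟩
    rw [map_add]
    congr 1
    · rw [← LinearMap.comp_apply, ← LinearMap.rTensor_comp]
      congr 2
      ext x; exact of_trans i₁ k h1k x
    · rw [← LinearMap.comp_apply, ← LinearMap.rTensor_comp]
      congr 2
      ext x; exact of_trans i₂ k h2k x

end Stage

section Main

variable {R : Type u} [CommRing R] [IsLocalRing R] {Ω : Type u} [Field Ω] [Algebra R Ω]
  [IsLocalHom (algebraMap R Ω)] [SepOver R Ω] (N : Type u) [AddCommGroup N] [Module R N]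

theorem maximalIdeal_G_mem_weakAss (i : Idx R Ω) (y' : G i ⊗[R] N)
    (h : maximalIdeal (H R Ω) ∈ (Submodule.span (H R Ω)
      {(of i).toLinearMap.rTensor N y'}).annihilator.minimalPrimes) :
    maximalIdeal (G i) ∈ (Submodule.span (G i) {y'}).annihilator.minimalPrimes := by
  let _ : Algebra (G i) (H R Ω) := (of i : G i →+* H R Ω).toAlgebra
  have ff : Module.FaithfullyFlat (G i) (H R Ω) := faithfullyFlat_of i
  have hst : IsScalarTower R (G i) (H R Ω) :=
    IsScalarTower.of_algebraMap_eq (fun r => ((of i).commutes r).symm)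
  let ψ : G i ⊗[R] N →ₗ[G i] H R Ω ⊗[R] N :=
    (TensorProduct.AlgebraTensorModule.cancelBaseChange R (G i) (G i) (H R Ω) N).toLinearMap ∘ₗ
      (TensorProduct.mk (G i) (H R Ω) (G i ⊗[R] N) 1)
  have hψeq : ∀ z, ψ z = (of i).toLinearMap.rTensor N z := by
    intro z
    induction z using TensorProduct.induction_on with
    | zero => simp
    | tmul g n =>
      simp only [ψ, LinearMap.comp_apply, TensorProduct.mk_apply, LinearEquiv.coe_coe,
        TensorProduct.AlgebraTensorModule.cancelBaseChange_tmul, LinearMap.rTensor_tmul,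
        AlgHom.toLinearMap_apply]
      rw [Algebra.smul_def, mul_one]
      rfl
    | add x y hx hy => rw [map_add, map_add, hx, hy]
  have hinj : Function.Injective ψ := by
    have h1 := Module.FaithfullyFlat.tensorProduct_mk_injective (A := G i) (B := H R Ω)
      (G i ⊗[R] N)
    exact (TensorProduct.AlgebraTensorModule.cancelBaseChange R (G i) (G i) (H R Ω)
      N).injective.comp h1
  have hloc : IsLocalHom (of i : G i →+* H R Ω) := isLocalHom_of i
  refine maximalIdeal_mem_minimalPrimes_down (of i : G i →+* H R Ω) ψ (map_zero ψ) ?_ hinj y' ?_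
  · intro g x
    rw [map_smul, ← algebraMap_smul (H R Ω) g (ψ x)]
    rfl
  · rw [hψeq]; exact h

theorem maximalIdeal_mem_weakAss_H_iff :
    maximalIdeal (H R Ω) ∈ FlatCA.weakAss (H R Ω) (H R Ω ⊗[R] N) ↔
      maximalIdeal R ∈ FlatCA.weakAss R N := by
  constructor
  · rintro ⟨y, hy⟩
    obtain ⟨i, y', rfl⟩ := exists_stage N y
    have h1 : maximalIdeal (G i) ∈ FlatCA.weakAss (G i) (G i ⊗[R] N) :=
      ⟨y', maximalIdeal_G_mem_weakAss N i y' hy⟩
    have hloc : IsLocalization (ptKer i.θ).primeCompl (G i) := instIsLocalizationLocPt i.θ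
    rw [mem_weakAss_tensor_iff_of_isLocalization (A := R) (ptKer i.θ).primeCompl (G i) N] at h1
    have hcomap : (maximalIdeal (G i)).comap (algebraMap i.Ring (G i)) = ptKer i.θ :=
      IsLocalization.AtPrime.under_maximalIdeal (G i) (ptKer i.θ)
    rw [hcomap] at h1
    have hlo : (ptKer i.θ).LiesOver (maximalIdeal R) := ⟨(comap_ptKer i.θ).symm⟩
    exact (Groth.Agent.S1233.result N (maximalIdeal R) (ptKer i.θ)).mp h1
  · rintro ⟨n, hn⟩
    refine ⟨(1 : H R Ω) ⊗ₜ[R] n, ?_⟩
    exact maximalIdeal_mem_minimalPrimes_up map_maximalIdeal_H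
      (Module.FaithfullyFlat.tensorProduct_mk_injective (A := R) (B := H R Ω) N) n hn

theorem maximalIdeal_mem_weakAss_iff_of_algEquiv_H (S : Type u) [CommRing S] [IsLocalRing S]
    [Algebra R S] (e : S ≃ₐ[R] H R Ω) :
    maximalIdeal S ∈ FlatCA.weakAss S (S ⊗[R] N) ↔ maximalIdeal R ∈ FlatCA.weakAss R N := by
  rw [← maximalIdeal_mem_weakAss_H_iff (Ω := Ω) N,
    mem_weakAss_tensor_iff_of_algEquiv e N (maximalIdeal (H R Ω))]
  have hcomap : (maximalIdeal (H R Ω)).comap (e.toRingEquiv : S →+* H R Ω) = maximalIdeal S := by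
    have hmax : ((maximalIdeal (H R Ω)).comap (e.toRingEquiv : S →+* H R Ω)).IsMaximal :=
      Ideal.comap_isMaximal_of_surjective _ e.toRingEquiv.surjective
    exact IsLocalRing.eq_maximalIdeal hmax
  rw [hcomap]

end Main

section Hens

variable (R : Type u) [CommRing R] [IsLocalRing R]
variable (S : Type u) [CommRing S] [IsLocalRing S] [Algebra R S] [IsLocalHom (algebraMap R S)]
variable (N : Type u) [AddCommGroup N] [Module R N]

theorem maximalIdeal_mem_weakAss_iff_of_isHenselization [Hensel.IsHenselization R S] :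
    maximalIdeal S ∈ FlatCA.weakAss S (S ⊗[R] N) ↔ maximalIdeal R ∈ FlatCA.weakAss R N := by
  obtain ⟨e⟩ := nonempty_algEquiv_Hens R S
  exact maximalIdeal_mem_weakAss_iff_of_algEquiv_H (Ω := ResidueField R) N S e

theorem maximalIdeal_mem_weakAss_iff_of_isStrictHenselization [Hensel.IsStrictHenselization R S] :
    maximalIdeal S ∈ FlatCA.weakAss S (S ⊗[R] N) ↔ maximalIdeal R ∈ FlatCA.weakAss R N := by
  obtain ⟨e⟩ := nonempty_algEquiv_SHens R S
  exact maximalIdeal_mem_weakAss_iff_of_algEquiv_H (Ω := SepCl R) N S e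

end Hens

end Groth.Agent.Lib.Helper98.WeakAssHens
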